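import Cfsg.Agent.Lib.Symplectic.Form
import Mathlib.Algebra.CharP.Two
import Mathlib.FieldTheory.Finite.Basic

/-!
Isometries of a symplectic form in characteristic two: the operators `Z p m = T⁻ᵖ (T + 1)ᵐ` and the
quadratic values `Q l x = B (Z l (2l+1) x) x`.

Owner: helper46.
-/

set_option autoImplicit false
set_option linter.unusedSectionVars false

namespace Cfsg.Agent.Lib.ClassesSpTwo46

open Cfsg.Agent.Lib.Symplectic (IsSympForm)

universe u v

variable {F : Type u} [Field F] {V : Type v} [AddCommGroup V] [Module F V]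

/-- A symplectic form with an isometry and its inverse. -/
structure UData (F : Type u) [Field F] (V : Type v) [AddCommGroup V] [Module F V] where
  /-- the form -/
  B : V →ₗ[F] V →ₗ[F] F
  /-- the isometry -/
  T : Module.End F V
  /-- its inverse -/
  U : Module.End F V
  symp : IsSympForm B
  TU : T * U = 1
  UT : U * T = 1
  iso : ∀ x y, B (T x) (T y) = B x y

variable [CharP F 2]

variable (F) in
include F in
theorem addV_self (x : V) : x + x = 0 := by
  rw [← two_smul F x, CharTwo.two_eq_zero, zero_smul]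

namespace UData

variable (D : UData F V)

/-- `T + 1` -/
def N : Module.End F V := D.T + 1

/-- `Uᵖ Nᵐ` -/
def Z (p m : ℕ) : Module.End F V := D.U ^ p * D.N ^ m

theorem N_apply (x : V) : D.N x = D.T x + x := rfl

theorem T_apply (x : V) : D.T x = D.N x + x := by
  rw [N_apply, add_assoc, addV_self F, add_zero]

theorem U_T (x : V) : D.U (D.T x) = x := by rw [← Module.End.mul_apply, D.UT]; rfl

theorem T_U (x : V) : D.T (D.U x) = x := by rw [← Module.End.mul_apply, D.TU]; rfl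

theorem commute_TU : Commute D.T D.U := D.TU.trans D.UT.symm

theorem commute_UN : Commute D.U D.N := D.commute_TU.symm.add_right (Commute.one_right _)

theorem Z_zero (m : ℕ) : D.Z 0 m = D.N ^ m := by rw [Z, pow_zero, one_mul]

theorem Z_apply (p m : ℕ) (x : V) : D.Z p m x = (D.U ^ p) ((D.N ^ m) x) := rfl

theorem Z_comp (p m p' m' : ℕ) : D.Z p m * D.Z p' m' = D.Z (p + p') (m + m') := by
  rw [Z, Z, Z, pow_add, pow_add]
  rw [mul_assoc, mul_assoc]
  congr 1
  rw [← mul_assoc, ← (D.commute_UN.pow_pow p' m).eq, mul_assoc]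

theorem Z_Z (p m p' m' : ℕ) (x : V) : D.Z p m (D.Z p' m' x) = D.Z (p + p') (m + m') x := by
  rw [← Module.End.mul_apply, Z_comp]

theorem Z_N (p m i : ℕ) (x : V) : D.Z p m ((D.N ^ i) x) = D.Z p (m + i) x := by
  rw [← D.Z_zero, Z_Z, add_zero]

theorem N_Z (p m i : ℕ) (x : V) : (D.N ^ i) (D.Z p m x) = D.Z p (i + m) x := by
  rw [← D.Z_zero, Z_Z, zero_add]

theorem U_succ (x : V) : D.U x = x + D.U (D.N x) := by
  rw [N_apply, map_add, U_T, ← add_assoc, addV_self F, zero_add]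

theorem Z_succ (p m : ℕ) (x : V) : D.Z (p + 1) m x = D.Z p m x + D.Z (p + 1) (m + 1) x := by
  rw [Z_apply, pow_succ', Module.End.mul_apply, U_succ, ← Z_apply]
  congr 1
  rw [show D.N (D.Z p m x) = (D.N ^ 1) (D.Z p m x) by rw [pow_one], N_Z, Z_apply, Z_apply, pow_succ',
    Module.End.mul_apply, add_comm 1 m]

theorem kill_le {x : V} {e m : ℕ} (hx : (D.N ^ e) x = 0) (h : e ≤ m) : (D.N ^ m) x = 0 := by
  obtain ⟨c, rfl⟩ := Nat.exists_eq_add_of_le h
  rw [add_comm, pow_add, Module.End.mul_apply, hx, map_zero]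

theorem Z_kill {x : V} {e : ℕ} (hx : (D.N ^ e) x = 0) (p : ℕ) {m : ℕ} (h : e ≤ m) : D.Z p m x = 0 := by
  rw [Z_apply, D.kill_le hx h, map_zero]

theorem Z_top {x : V} {e : ℕ} (hx : (D.N ^ e) x = 0) (p : ℕ) {m : ℕ} (h : e ≤ m + 1) :
    D.Z p m x = (D.N ^ m) x := by
  induction p with
  | zero => rw [Z_zero]
  | succ p ih => rw [Z_succ, ih, D.Z_kill hx _ h, add_zero]

theorem swap (x y : V) : D.B x y = D.B y x := by
  rw [D.symp.swap, CharTwo.neg_eq]

theorem B_T (x y : V) : D.B (D.T x) y = D.B x (D.U y) := by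
  conv_lhs => rw [← D.T_U y]
  rw [D.iso]

theorem B_U (x y : V) : D.B (D.U x) y = D.B x (D.T y) := by
  rw [D.swap, ← B_T, D.swap]

theorem B_N (x y : V) : D.B x (D.N y) = D.B (D.U (D.N x)) y := by
  rw [D.B_U, N_apply, N_apply]
  simp only [map_add, LinearMap.add_apply, D.iso]
  ring

theorem B_Npow : ∀ (i : ℕ) (x y : V), D.B x ((D.N ^ i) y) = D.B (D.Z i i x) y
  | 0, x, y => by simp [Z]
  | i + 1, x, y => by
    rw [pow_succ', Module.End.mul_apply, B_N, B_Npow i]
    congr 2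
    rw [show D.U (D.N x) = D.Z 1 1 x by rw [Z, pow_one, pow_one]; rfl, Z_Z]

theorem form_N (p m i : ℕ) (x y : V) : D.B (D.Z p m x) ((D.N ^ i) y) = D.B (D.Z (i + p) (i + m) x) y := by
  rw [B_Npow, Z_Z]

theorem self_even (j : ℕ) (x : V) : D.B (D.Z j (j + j) x) x = 0 := by
  have h := D.form_N 0 j j x x
  rw [Z_zero, add_zero] at h
  rw [← h, D.symp.self]

/-- The value of the top pairing is symmetric. -/
theorem top_symm {x y : V} {m : ℕ} (hx : (D.N ^ (m + 1)) x = 0) :
    D.B ((D.N ^ m) y) x = D.B ((D.N ^ m) x) y := by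
  rw [D.swap, B_Npow, D.Z_top hx _ le_rfl]

/-- The quadratic values. -/
def Q (l : ℕ) (x : V) : F := D.B (D.Z l (l + l + 1) x) x

theorem Q_smul (l : ℕ) (c : F) (x : V) : D.Q l (c • x) = c * c * D.Q l x := by
  simp [Q, mul_assoc]

theorem Z_adj (p m : ℕ) (x y : V) :
    D.B x (D.Z p m y) = D.B ((D.T ^ p) (D.Z m m x)) y := by
  induction p generalizing x with
  | zero => rw [Z_zero, B_Npow]; rfl
  | succ p ih =>
    rw [Z_apply, pow_succ', Module.End.mul_apply, D.swap, B_U, D.swap, ← Z_apply, ih]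
    congr 2
    rw [pow_succ, Module.End.mul_apply]
    congr 1
    rw [Z, ← Module.End.mul_apply (f := D.T), ← Module.End.mul_apply, ← mul_assoc, mul_assoc]
    congr 1
    exact ((D.commute_TU.pow_right m).mul_right (((Commute.refl D.T).add_right (Commute.one_right _)).pow_right m)).symm

theorem Q_adj (l : ℕ) (x y : V) : D.B x (D.Z l (l + l + 1) y) = D.B (D.Z (l + 1) (l + l + 1) x) y := by
  rw [Z_adj, Z, Z]
  congr 2
  rw [← Module.End.mul_apply, ← mul_assoc,
    show l + l + 1 = l + (l + 1) by omega, pow_add D.U, ← mul_assoc (D.T ^ l),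
    ← D.commute_TU.mul_pow, D.TU, one_pow, one_mul]

theorem Q_add (l : ℕ) (x y : V) :
    D.Q l (x + y) = D.Q l x + D.Q l y + D.B (D.Z (l + 1) (l + l + 2) x) y := by
  have h : D.B (D.Z l (l + l + 1) y) x = D.B (D.Z (l + 1) (l + l + 1) x) y := by
    rw [D.swap, Q_adj]
  simp only [Q, map_add, LinearMap.add_apply, h]
  rw [D.Z_succ l (l + l + 1) x, map_add, LinearMap.add_apply]
  linear_combination CharTwo.add_self_eq_zero (D.B (D.Z l (l + l + 1) x) y)

theorem Q_kill {x : V} {e : ℕ} (hx : (D.N ^ e) x = 0) {l : ℕ} (h : e ≤ l + l + 1) : D.Q l x = 0 := by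
  rw [Q, D.Z_kill hx _ h, map_zero, LinearMap.zero_apply]

theorem Q_top {x : V} {l : ℕ} (hx : (D.N ^ (l + l + 2)) x = 0) : D.Q l x = D.B ((D.N ^ (l + l + 1)) x) x := by
  rw [Q, D.Z_top hx _ le_rfl]

theorem Q_N (l i : ℕ) (x : V) : D.Q l ((D.N ^ i) x) = D.B (D.Z (l + i) (l + l + 1 + (i + i)) x) x := by
  rw [Q, Z_N, form_N]
  ring_nf

theorem self_top {x : V} {m : ℕ} (hm : Even m) (hx : (D.N ^ (m + 1)) x = 0) :
    D.B ((D.N ^ m) x) x = 0 := by
  obtain ⟨j, rfl⟩ := hm
  rw [← D.Z_top hx j le_rfl, self_even]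

end UData

end Cfsg.Agent.Lib.ClassesSpTwo46
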