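import Cfsg.Agent.Lib.ClassesSpTwo46.Greedy
import Mathlib.Algebra.Order.Field.Basic
import Mathlib.Algebra.Field.GeomSum

/-!
Codes of good lists of pieces and the bound `∑ 2^(-weight) ≤ 15.2` on all codes.

Owner: helper46.
-/

set_option autoImplicit false
set_option linter.unusedSectionVars false

namespace Cfsg.Agent.Lib.ClassesSpTwo46

/-! ### Codes -/

/-- The counts at one level. -/
structure St where
  /-- pairs of odd exponent `2k-1` -/
  po : ℕ
  /-- pairs of exponent `2k` -/
  pe : ℕ
  /-- single generators without sign -/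
  c0 : ℕ
  /-- a negative pair -/
  sg : Bool
  /-- a single generator with sign -/
  cw : Bool
deriving DecidableEq

/-- Whether single generators occur. -/
def St.hasC (s : St) : Bool := decide (0 < s.c0) || s.cw

/-- The weight of level `k`. -/
def St.wt (k : ℕ) (s : St) : ℕ := (2 * k - 1) * s.po + 2 * k * s.pe + k * (s.c0 + if s.cw then 1 else 0)

/-- The counts of a list at level `k`. -/
def stp (L : List Atom) (k : ℕ) : St where
  po := L.countP fun a => a.e == 2 * k - 1 && a.pair
  pe := L.count ⟨2 * k, true, false⟩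
  c0 := L.count ⟨2 * k, false, false⟩
  sg := decide (⟨2 * k - 1, true, true⟩ ∈ L)
  cw := decide (⟨2 * k, false, true⟩ ∈ L)

/-- The code up to level `n`. -/
def code (L : List Atom) : ℕ → List St
  | 0 => []
  | k + 1 => stp L (k + 1) :: code L k

/-- The weight of a code. -/
def codeWt : List St → ℕ
  | [] => 0
  | s :: l => s.wt (l.length + 1) + codeWt l

/-- The state of a code. -/
def codeTop (s0 : Bool) : List St → Bool
  | [] => s0
  | s :: _ => s.hasC

theorem code_length (L : List Atom) : ∀ n, (code L n).length = n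
  | 0 => rfl
  | n + 1 => by rw [code, List.length_cons, code_length L n]

/-! ### Good lists are determined by their codes -/

/-- The order in good lists. -/
def Prec (a b : Atom) : Prop := b.e < a.e ∨ (b.e = a.e ∧ a.om = false ∧ (a.pair = false → b.pair = false))

theorem Atom.Rules.prec {a : Atom} {L : List Atom} (h : a.Rules L) {b : Atom} (hb : b ∈ L) : Prec a b := by
  rcases lt_or_eq_of_le (h.le b hb) with hlt | he
  · exact Or.inl hlt
  refine Or.inr ⟨he, ?_, fun hp => h.pairFirst hp b hb he⟩
  by_contra ho
  simp only [Bool.not_eq_false] at ho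
  rcases Bool.eq_false_or_eq_true a.pair with hp | hp
  · exact (h.minus ho hp b hb).1 he
  · exact (h.omega ho hp b hb).1 he

theorem GoodList.pairwise : ∀ {L : List Atom}, GoodList L → L.Pairwise Prec
  | [], _ => List.Pairwise.nil
  | a :: L, h => List.pairwise_cons.2 ⟨fun _ hb => h.2.1.prec hb, GoodList.pairwise h.2.2⟩

theorem GoodList.rules_of_lt : ∀ {L : List Atom}, GoodList L → ∀ {a b : Atom}, a ∈ L → b ∈ L → b.e < a.e →
    ∃ L', a.Rules L' ∧ b ∈ L'
  | [], _, a, _, ha, _, _ => by simp at ha
  | c :: L, h, a, b, ha, hb, hlt => by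
    rcases List.mem_cons.1 ha with rfl | ha'
    · refine ⟨L, h.2.1, (List.mem_cons.1 hb).resolve_left ?_⟩
      rintro rfl; omega
    · rcases List.mem_cons.1 hb with rfl | hb'
      · have := h.2.1.le a ha'; omega
      · exact GoodList.rules_of_lt h.2.2 ha' hb' hlt

theorem GoodList.count_om : ∀ {L : List Atom}, GoodList L → ∀ {a : Atom}, a.om = true → L.count a ≤ 1
  | [], _, a, _ => by simp
  | c :: L, h, a, ho => by
    rw [List.count_cons]
    split_ifs with hc
    · obtain rfl : c = a := by simpa using hc
      have : L.count c = 0 := List.count_eq_zero.2 fun hm => by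
        rcases Bool.eq_false_or_eq_true c.pair with hp | hp
        · exact (h.2.1.minus ho hp c hm).1 rfl
        · exact (h.2.1.omega ho hp c hm).1 rfl
      omega
    · exact GoodList.count_om h.2.2 ho

theorem GoodList.count_cyc : ∀ {L : List Atom}, GoodList L → ∀ (e : ℕ),
    L.countP (fun b => b.e == e && !b.pair) ≤ 2
  | [], _, _ => by simp
  | c :: L, h, e => by
    rw [List.countP_cons]
    split_ifs with hc
    · simp only [Bool.and_eq_true, beq_iff_eq, Bool.not_eq_true'] at hc
      have := h.2.1.two hc.2
      rw [hc.1] at this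
      omega
    · exact GoodList.count_cyc h.2.2 e

theorem countP_split (L : List Atom) (e : ℕ) (p : Bool) :
    L.countP (fun a => a.e == e && (a.pair == p)) = L.count ⟨e, p, false⟩ + L.count ⟨e, p, true⟩ := by
  induction L with
  | nil => simp
  | cons a L ih =>
    rcases a with ⟨ae, ap, ao⟩
    simp only [List.countP_cons, List.count_cons, ih]
    by_cases he : ae = e <;> cases ap <;> cases p <;> cases ao <;> simp [he] <;> omega

theorem countP_pair (L : List Atom) (e : ℕ) :
    L.countP (fun a => a.e == e && a.pair) = L.count ⟨e, true, false⟩ + L.count ⟨e, true, true⟩ := by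
  rw [← countP_split L e true]
  exact List.countP_congr fun a _ => by simp

theorem countP_cyc (L : List Atom) (e : ℕ) :
    L.countP (fun a => a.e == e && !a.pair) = L.count ⟨e, false, false⟩ + L.count ⟨e, false, true⟩ := by
  rw [← countP_split L e false]
  exact List.countP_congr fun a _ => by simp

theorem count_eq_ite (L : List Atom) (hL : GoodList L) (a : Atom) (ha : a.om = true) :
    L.count a = if decide (a ∈ L) then 1 else 0 := by
  have := hL.count_om ha
  split_ifs with h
  · have := List.count_pos_iff.2 (of_decide_eq_true h)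
    omega
  · exact List.count_eq_zero.2 fun hm => h (decide_eq_true hm)

theorem count_invalid (L : List Atom) (hL : GoodList L) (a : Atom) (ha : ¬ a.Valid) : L.count a = 0 :=
  List.count_eq_zero.2 fun hm => ha (hL.valid a hm)

theorem code_eq_stp {L L' : List Atom} : ∀ {n}, code L n = code L' n → ∀ k, 1 ≤ k → k ≤ n → stp L k = stp L' k
  | 0, _, k, h1, h2 => by omega
  | n + 1, h, k, h1, h2 => by
    rw [code, code, List.cons.injEq] at h
    rcases eq_or_lt_of_le h2 with rfl | hlt
    · exact h.1
    · exact code_eq_stp h.2 k h1 (by omega)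

/-- Good lists with the same code agree. -/
theorem GoodList.eq_of_code {L L' : List Atom} (h : GoodList L) (h' : GoodList L') {n : ℕ}
    (hb : ∀ a ∈ L, a.e ≤ n + n) (hb' : ∀ a ∈ L', a.e ≤ n + n) (hc : code L n = code L' n) : L = L' := by
  refine List.Perm.eq_of_pairwise (fun a b _ _ hab hba => ?_) h.pairwise h'.pairwise ?_
  · rcases a with ⟨ae, ap, ao⟩
    rcases b with ⟨be, bp, bo⟩
    simp only [Prec] at hab hba
    rcases hab with hab | ⟨rfl, rfl, hab⟩ <;> rcases hba with hba | ⟨he, rfl, hba⟩ <;> try omega
    cases ap <;> cases bp <;> simp_all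
  rw [List.perm_iff_count]
  intro a
  by_cases hv : a.Valid
  swap
  · rw [count_invalid L h a hv, count_invalid L' h' a hv]
  by_cases hbd : a.e ≤ n + n
  swap
  · rw [List.count_eq_zero.2 fun hm => hbd (hb a hm), List.count_eq_zero.2 fun hm => hbd (hb' a hm)]
  rcases a with ⟨e, p, o⟩
  have hpos := hv.pos
  simp only at hbd hpos
  rcases Nat.even_or_odd e with ⟨k, rfl⟩ | ⟨k, rfl⟩
  · have hk := code_eq_stp hc k (by omega) (by omega)
    rw [← two_mul]
    cases o
    · cases p
      · exact congrArg St.c0 hk
      · exact congrArg St.pe hk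
    · cases p
      · rw [count_eq_ite L h _ rfl, count_eq_ite L' h' _ rfl]
        have e1 : decide ((⟨2 * k, false, true⟩ : Atom) ∈ L) = decide ((⟨2 * k, false, true⟩ : Atom) ∈ L') :=
          congrArg St.cw hk
        rw [e1]
      · exact absurd (hv.omPair rfl rfl) (by simp [Nat.not_odd_iff_even])
  · have hk := code_eq_stp hc (k + 1) (by omega) (by omega)
    rw [show 2 * k + 1 = 2 * (k + 1) - 1 by omega]
    cases p
    · exact absurd (hv.even rfl) (by simp [Nat.not_even_iff_odd])
    have hg : L.count ⟨2 * (k + 1) - 1, true, true⟩ = L'.count ⟨2 * (k + 1) - 1, true, true⟩ := by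
      rw [count_eq_ite L h _ rfl, count_eq_ite L' h' _ rfl]
      have e1 : decide ((⟨2 * (k + 1) - 1, true, true⟩ : Atom) ∈ L) =
          decide ((⟨2 * (k + 1) - 1, true, true⟩ : Atom) ∈ L') := congrArg St.sg hk
      rw [e1]
    cases o
    · have hp := congrArg St.po hk
      simp only [stp, countP_pair] at hp
      omega
    · exact hg

/-! ### Weights -/

/-- Twice the weight at level `k`, additively in the list. -/
def levDim (L : List Atom) (k : ℕ) : ℕ :=
  (2 * (2 * k - 1)) * (L.countP fun a => a.e == 2 * k - 1 && a.pair) +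
    (2 * (2 * k)) * (L.countP fun a => a.e == 2 * k && a.pair) +
      (2 * k) * (L.countP fun a => a.e == 2 * k && !a.pair)

theorem sum_levDim (n : ℕ) : ∀ L : List Atom, (∀ a ∈ L, a.Valid ∧ a.e ≤ n + n) →
    ∑ k ∈ Finset.range n, levDim L (k + 1) = (L.map Atom.dim).sum
  | [], _ => by simp [levDim]
  | a :: L, h => by
    rw [List.map_cons, List.sum_cons, ← sum_levDim n L fun b hb => h b (List.mem_cons_of_mem _ hb)]
    obtain ⟨hv, hb⟩ := h a (List.mem_cons_self ..)
    have hp := hv.pos
    obtain ⟨k₀, hk₀, hk⟩ : ∃ k₀, k₀ < n ∧ (a.e = 2 * (k₀ + 1) ∨ a.e + 1 = 2 * (k₀ + 1)) :=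
      ⟨(a.e - 1) / 2, by omega, by omega⟩
    have e : ∀ k, levDim (a :: L) (k + 1) = levDim L (k + 1) + if k = k₀ then a.dim else 0 := by
      intro k
      simp only [levDim, List.countP_cons, Atom.dim]
      have hev := hv.even
      rcases Bool.eq_false_or_eq_true a.pair with hpr | hpr
      · by_cases hkk : k = k₀
        · subst hkk
          rcases hk with hk | hk
          · simp [hpr, hk, show ¬ (2 * (k + 1) = 2 * (k + 1) - 1) by omega]; ring
          · simp [hpr, show a.e = 2 * (k + 1) - 1 by omega, show ¬ (2 * (k + 1) - 1 = 2 * (k + 1)) by omega]; ring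
        · simp [hpr, hkk, show ¬ (a.e = 2 * (k + 1) - 1) by omega, show ¬ (a.e = 2 * (k + 1)) by omega]
      · obtain ⟨j, hj⟩ := hev hpr
        by_cases hkk : k = k₀
        · subst hkk
          simp [hpr, show a.e = 2 * (k + 1) by omega]; ring
        · simp [hpr, hkk, show ¬ (a.e = 2 * (k + 1)) by omega]
    simp only [e, Finset.sum_add_distrib, Finset.sum_ite_eq', Finset.mem_range, if_pos hk₀]
    rw [add_comm]

theorem GoodList.two_wt {L : List Atom} (h : GoodList L) (k : ℕ) : 2 * (stp L k).wt k = levDim L k := by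
  simp only [St.wt, stp, levDim, countP_cyc, countP_pair]
  rw [count_eq_ite L h ⟨2 * k, false, true⟩ rfl,
    count_invalid L h ⟨2 * k, true, true⟩ fun hv => absurd (hv.omPair rfl rfl) (by simp [Nat.not_odd_iff_even])]
  ring

theorem two_codeWt {L : List Atom} (h : GoodList L) :
    ∀ n, 2 * codeWt (code L n) = ∑ k ∈ Finset.range n, levDim L (k + 1)
  | 0 => rfl
  | n + 1 => by
    rw [code, codeWt, code_length, mul_add, h.two_wt, two_codeWt h n, Finset.sum_range_succ, add_comm]

/-! ### The set of codes -/

/-- The allowed signs of an odd pair. -/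
def signs : Bool → Finset Bool
  | true => {false}
  | false => {false, true}

/-- The numbers of unsigned single generators next to an odd pair. -/
def cyc1 : Bool → Finset ℕ
  | false => {0}
  | true => {1, 2}

/-- The single generators when there is no odd pair. -/
def cyc0 : Bool → Bool → Finset (ℕ × Bool)
  | _, false => {(0, false)}
  | true, true => {(1, false), (2, false)}
  | false, true => {(1, false), (2, false), (0, true), (1, true)}

/-- The allowed levels after state `bp`, with state `b`. -/
def steps (n : ℕ) (bp b : Bool) : Finset St :=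
  ((Finset.range (n + 1) ×ˢ cyc0 bp b).image fun p => ⟨0, p.1, p.2.1, false, p.2.2⟩) ∪
    ((Finset.range (n + 1) ×ˢ (Finset.range n ×ˢ (signs bp ×ˢ cyc1 b))).image fun p =>
      ⟨p.2.1 + 1, p.1, p.2.2.2, p.2.2.1, false⟩)

/-- The allowed codes of length `K`. -/
def Codes (n : ℕ) (s0 : Bool) : ℕ → Bool → Finset (List St)
  | 0, b => if b = s0 then {[]} else ∅
  | K + 1, b => ((steps n true b ×ˢ Codes n s0 K true).image fun p => p.1 :: p.2) ∪
      ((steps n false b ×ˢ Codes n s0 K false).image fun p => p.1 :: p.2)

theorem stp_mem {L : List Atom} (h : GoodList L) {n k : ℕ} (bp : Bool)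
    (hbp : bp = true → (k = 0 ∧ ∀ a ∈ L, a.om = true → 3 ≤ a.e) ∨
      (⟨2 * k, false, false⟩ : Atom) ∈ L ∨ (⟨2 * k, false, true⟩ : Atom) ∈ L)
    (hn : (stp L (k + 1)).po ≤ n ∧ (stp L (k + 1)).pe ≤ n) :
    stp L (k + 1) ∈ steps n bp (stp L (k + 1)).hasC := by
  obtain ⟨hpo, hpe⟩ := hn
  have hc2 := h.count_cyc (2 * (k + 1))
  rw [countP_cyc, count_eq_ite L h ⟨2 * (k + 1), false, true⟩ rfl] at hc2
  -- facts about signs
  have hsg : (stp L (k + 1)).sg = true → bp = false ∧ 1 ≤ (stp L (k + 1)).po := by
    intro hs
    have hm : (⟨2 * (k + 1) - 1, true, true⟩ : Atom) ∈ L := of_decide_eq_true hs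
    refine ⟨?_, ?_⟩
    · by_contra hb
      rcases hbp (by simpa using hb) with ⟨h0, hlow⟩ | hC | hC
      · have := hlow _ hm rfl
        simp only at this
        omega
      all_goals
        obtain ⟨L', hr, hb'⟩ := h.rules_of_lt hm hC (by simp only; omega)
        have := (hr.minus rfl rfl _ hb').2 (by simp only; omega)
        simp at this
    · simp only [stp]
      rw [Nat.one_le_iff_ne_zero, Ne, List.countP_eq_zero]
      exact fun h0 => h0 _ hm (by simp)
  have hcw : (stp L (k + 1)).cw = true → bp = false ∧ (stp L (k + 1)).po = 0 := by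
    intro hs
    have hm : (⟨2 * (k + 1), false, true⟩ : Atom) ∈ L := of_decide_eq_true hs
    refine ⟨?_, ?_⟩
    · by_contra hb
      rcases hbp (by simpa using hb) with ⟨h0, hlow⟩ | hC | hC
      · have := hlow _ hm rfl
        simp only at this
        omega
      all_goals
        obtain ⟨L', hr, hb'⟩ := h.rules_of_lt hm hC (by simp only; omega)
        have := (hr.omega rfl rfl _ hb').2.2 (by simp only; omega)
        simp at this
    · simp only [stp, List.countP_eq_zero]
      intro a ha hae
      simp only [Bool.and_eq_true, beq_iff_eq] at hae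
      obtain ⟨L', hr, hb'⟩ := h.rules_of_lt hm ha (by simp only; omega)
      exact (hr.omega rfl rfl _ hb').2.1 (by simp only; omega)
  have hle : (stp L (k + 1)).c0 + (if (stp L (k + 1)).cw then 1 else 0) ≤ 2 := hc2
  generalize stp L (k + 1) = s at *
  obtain ⟨po, pe, c0, sg, cw⟩ := s
  simp only at *
  rw [steps, Finset.mem_union, Finset.mem_image, Finset.mem_image]
  rcases Nat.eq_zero_or_pos po with rfl | hp
  · obtain rfl : sg = false := by
      rcases sg
      · rfl
      · have := (hsg rfl).2; omega
    refine Or.inl ⟨(pe, c0, cw), ?_, rfl⟩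
    rw [Finset.mem_product, Finset.mem_range]
    refine ⟨by omega, ?_⟩
    rcases cw
    · simp only [Bool.false_eq_true, if_false] at hle
      have hc : c0 ≤ 2 := by omega
      interval_cases c0 <;> cases bp <;> simp [cyc0, St.hasC]
    · obtain ⟨rfl, -⟩ := hcw rfl
      simp only [if_true] at hle
      have hc : c0 ≤ 1 := by omega
      interval_cases c0 <;> simp [cyc0, St.hasC]
  · obtain rfl : cw = false := by
      rcases cw
      · rfl
      · have := (hcw rfl).2; omega
    refine Or.inr ⟨(pe, po - 1, sg, c0), ?_, by simp [Nat.sub_add_cancel hp]⟩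
    simp only [Finset.mem_product, Finset.mem_range]
    refine ⟨by omega, by omega, ?_, ?_⟩
    · rcases sg
      · cases bp <;> simp [signs]
      · rw [(hsg rfl).1]; simp [signs]
    · simp only [Bool.false_eq_true, if_false] at hle
      have hc : c0 ≤ 2 := by omega
      interval_cases c0 <;> simp [cyc1, St.hasC]

theorem codeTop_code {L : List Atom} {s0 : Bool} (hlow : s0 = true → ∀ a ∈ L, a.om = true → 3 ≤ a.e) {k : ℕ}
    (h : codeTop s0 (code L k) = true) :
    (k = 0 ∧ ∀ a ∈ L, a.om = true → 3 ≤ a.e) ∨ (⟨2 * k, false, false⟩ : Atom) ∈ L ∨ (⟨2 * k, false, true⟩ : Atom) ∈ L := by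
  cases k with
  | zero => exact Or.inl ⟨rfl, hlow (by simpa [code, codeTop] using h)⟩
  | succ k =>
    simp only [code, codeTop, St.hasC, Bool.or_eq_true, decide_eq_true_eq, stp] at h
    exact Or.inr (h.imp List.count_pos_iff.1 id)

/-- Good lists of dimension at most `2n` have an allowed code. -/
theorem code_mem {L : List Atom} (h : GoodList L) {s0 : Bool}
    (hlow : s0 = true → ∀ a ∈ L, a.om = true → 3 ≤ a.e) {n : ℕ} : ∀ K, codeWt (code L K) ≤ n →
    code L K ∈ Codes n s0 K (codeTop s0 (code L K))
  | 0, _ => by simp [code, codeTop, Codes]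
  | K + 1, hw => by
    rw [code, codeWt, code_length] at hw
    have hs : (stp L (K + 1)).po ≤ n ∧ (stp L (K + 1)).pe ≤ n := by
      simp only [St.wt] at hw
      constructor
      · have : 1 * (stp L (K + 1)).po ≤ (2 * (K + 1) - 1) * (stp L (K + 1)).po := Nat.mul_le_mul_right _ (by omega)
        omega
      · have : 1 * (stp L (K + 1)).pe ≤ 2 * (K + 1) * (stp L (K + 1)).pe := Nat.mul_le_mul_right _ (by omega)
        omega
    have hrest := code_mem (n := n) h hlow K (by omega)
    show stp L (K + 1) :: code L K ∈ Codes n s0 (K + 1) (stp L (K + 1)).hasC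
    rw [Codes, Finset.mem_union]
    have hst := stp_mem h (codeTop s0 (code L K)) (fun hb => codeTop_code hlow hb) hs
    rcases Bool.eq_false_or_eq_true (codeTop s0 (code L K)) with hb | hb
    · rw [hb] at hrest hst
      exact Or.inl (Finset.mem_image.2 ⟨(_, _), Finset.mem_product.2 ⟨hst, hrest⟩, rfl⟩)
    · rw [hb] at hrest hst
      exact Or.inr (Finset.mem_image.2 ⟨(_, _), Finset.mem_product.2 ⟨hst, hrest⟩, rfl⟩)

end Cfsg.Agent.Lib.ClassesSpTwo46
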