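import Cfsg.Agent.Lib.ClassesSpTwo46.Span

/-!
Orthogonal decompositions into standard pieces, and the isometry given by equal lists of pieces.

Owner: helper46.
-/

set_option autoImplicit false
set_option linter.unusedSectionVars false

namespace Cfsg.Agent.Lib.ClassesSpTwo46

open Module

universe u v

variable {F : Type u} [Field F] {V : Type v} [AddCommGroup V] [Module F V] [CharP F 2]

namespace UData

variable (D : UData F V)

/-- An orthogonal decomposition into standard pieces. -/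
inductive Frame (ω : F) : Submodule F V → List Atom → Prop
  | nil : Frame ω ⊥ []
  | cons {a : Atom} {v w : V} {R : Submodule F V} {L : List Atom} (h : D.IsAtom ω a v w)
      (hR : Frame ω R L) (ho : R ≤ D.orth (D.piece a v w)) : Frame ω (D.piece a v w ⊔ R) (a :: L)

variable {D} {ω : F}

theorem Frame.inv {W : Submodule F V} {L : List Atom} (h : D.Frame ω W L) : D.Inv W := by
  induction h with
  | nil => exact ⟨fun x hx => by simp_all, fun x hx => by simp_all⟩
  | @cons a v w R L h _ _ ih =>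
    refine ⟨fun x hx => ?_, fun x hx => ?_⟩ <;> obtain ⟨y, hy, z, hz, rfl⟩ := Submodule.mem_sup.1 hx <;>
      rw [map_add]
    · exact Submodule.add_mem_sup (h.inv_piece.N_mem y hy) (ih.N_mem z hz)
    · exact Submodule.add_mem_sup (h.inv_piece.U_mem y hy) (ih.U_mem z hz)

theorem Frame.finrank_eq [FiniteDimensional F V] {W : Submodule F V} {L : List Atom} (h : D.Frame ω W L) :
    finrank F W = (L.map Atom.dim).sum := by
  induction h with
  | nil => simp
  | @cons a v w R L h _ ho ih =>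
    have e := Submodule.finrank_sup_add_finrank_inf_eq (D.piece a v w) R
    rw [(h.disjoint.mono_right ho).eq_bot, finrank_bot, add_zero, h.finrank_piece, ih] at e
    rw [List.map_cons, List.sum_cons, e]

theorem Frame.witness {W : Submodule F V} {L : List Atom} (h : D.Frame ω W L) {b : Atom} (hb : b ∈ L) :
    ∃ v ∈ W, ∃ w ∈ W, D.IsAtom ω b v w := by
  induction h with
  | nil => simp at hb
  | @cons a v w R L h _ _ ih =>
    rcases List.mem_cons.1 hb with rfl | hb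
    · exact ⟨v, Submodule.mem_sup_left h.v_mem, w, Submodule.mem_sup_left h.w_mem, h⟩
    · obtain ⟨v', hv', w', hw', h'⟩ := ih hb
      exact ⟨v', Submodule.mem_sup_right hv', w', Submodule.mem_sup_right hw', h'⟩

theorem Frame.witness₂ {W : Submodule F V} {L : List Atom} (h : D.Frame ω W L) (P : Atom → Bool)
    (hP : 2 ≤ L.countP P) : ∃ a b : Atom, P a = true ∧ P b = true ∧ ∃ v ∈ W, ∃ w ∈ W, ∃ v' ∈ W, ∃ w' ∈ W,
      D.IsAtom ω a v w ∧ D.IsAtom ω b v' w' ∧ ∀ p m, D.B (D.Z p m v) v' = 0 := by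
  induction h with
  | nil => simp at hP
  | @cons a v w R L h hR ho ih =>
    rw [List.countP_cons] at hP
    by_cases h2 : 2 ≤ L.countP P
    · obtain ⟨a', b', ha', hb', x, hx, y, hy, x', hx', y', hy', h'⟩ := ih h2
      exact ⟨a', b', ha', hb', x, Submodule.mem_sup_right hx, y, Submodule.mem_sup_right hy, x',
        Submodule.mem_sup_right hx', y', Submodule.mem_sup_right hy', h'⟩
    · have hPa : P a = true := by
        by_contra hne; simp [hne] at hP; omega
      obtain ⟨b, hb, hPb⟩ := List.countP_pos_iff.1 (show 0 < L.countP P by split_ifs at hP; omega)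
      obtain ⟨v', hv', w', hw', h'⟩ := hR.witness hb
      exact ⟨a, b, hPa, hPb, v, Submodule.mem_sup_left h.v_mem, w, Submodule.mem_sup_left h.w_mem, v',
        Submodule.mem_sup_right hv', w', Submodule.mem_sup_right hw', h, h',
        fun p m => ho hv' _ (h.inv_piece.Z_mem D p m h.v_mem)⟩

/-! ### Equality of Gram data -/

variable {D' : UData F V}

theorem B_succ (x y : V) (p m : ℕ) :
    D.B (D.Z (p + 1) m x) y = D.B (D.Z p m x) y + D.B (D.Z (p + 1) (m + 1) x) y := by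
  rw [D.Z_succ, map_add, LinearMap.add_apply]

theorem cross_ext {x y x' y' : V} {e : ℕ} (hx : (D.N ^ e) x = 0) (hx' : (D'.N ^ e) x' = 0)
    (h : ∀ m, D.B ((D.N ^ m) x) y = D'.B ((D'.N ^ m) x') y') (p m : ℕ) :
    D.B (D.Z p m x) y = D'.B (D'.Z p m x') y' :=
  table_ext (e := e) (f := fun p m => D.B (D.Z p m x) y) (f' := fun p m => D'.B (D'.Z p m x') y')
    (B_succ x y) (B_succ x' y') (fun p m hm => by simp [D.Z_kill hx p hm, D'.Z_kill hx' p hm])
    (fun m => ⟨0, by simpa [Z_zero] using h m⟩) p m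

theorem self_ext {x x' : V} {e : ℕ} (hx : (D.N ^ e) x = 0) (hx' : (D'.N ^ e) x' = 0)
    (h : ∀ l, D.Q l x = D'.Q l x') (p m : ℕ) : D.B (D.Z p m x) x = D'.B (D'.Z p m x') x' := by
  refine table_ext (e := e) (f := fun p m => D.B (D.Z p m x) x) (f' := fun p m => D'.B (D'.Z p m x') x')
    (B_succ x x) (B_succ x' x') (fun p m hm => by simp [D.Z_kill hx p hm, D'.Z_kill hx' p hm]) (fun m => ?_) p m
  rcases Nat.even_or_odd m with ⟨j, rfl⟩ | ⟨l, rfl⟩
  · exact ⟨j, by show D.B _ x = D'.B _ x'; rw [self_even, self_even]⟩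
  · exact ⟨l, by show D.B _ x = D'.B _ x'; rw [two_mul]; exact h l⟩

theorem symm_ext {x y x' y' : V} {e : ℕ} (hy : (D.N ^ e) y = 0) (hy' : (D'.N ^ e) y' = 0)
    (h : ∀ p m, D.B (D.Z p m x) y = D'.B (D'.Z p m x') y') (p m : ℕ) :
    D.B (D.Z p m y) x = D'.B (D'.Z p m y') x' :=
  table_ext (e := e) (f := fun p m => D.B (D.Z p m y) x) (f' := fun p m => D'.B (D'.Z p m y') x')
    (B_succ y x) (B_succ y' x') (fun p m hm => by simp [D.Z_kill hy p hm, D'.Z_kill hy' p hm])
    (fun m => ⟨0, by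
      show D.B _ x = D'.B _ x'
      rw [Z_zero, Z_zero, D.swap, D'.swap, B_Npow, B_Npow]
      exact h m m⟩) p m

theorem IsAtom.gram_eq {a : Atom} {v w v' w' : V} (h : D.IsAtom ω a v w) (h' : D'.IsAtom ω a v' w')
    (g g' : a.Gen) (p m : ℕ) :
    D.B (D.Z p m (gen v w g)) (gen v w g') = D'.B (D'.Z p m (gen v' w' g)) (gen v' w' g') := by
  rcases Bool.eq_false_or_eq_true a.pair with hp | hp
  · have hvw : ∀ p m, D.B (D.Z p m v) w = D'.B (D'.Z p m v') w' :=
      cross_ext h.kv h'.kv fun m => by rw [h.cross hp, h'.cross hp]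
    rcases g with ⟨g, hg⟩
    rcases g' with ⟨g', hg'⟩
    cases g <;> cases g' <;> simp only [gen, if_true, if_false, Bool.false_eq_true]
    · exact self_ext h.kw h'.kw (fun l => by rw [h.qw hp, h'.qw hp]) p m
    · exact symm_ext h.kw h'.kw hvw p m
    · exact hvw p m
    · exact self_ext h.kv h'.kv (fun l => by rw [h.qv hp, h'.qv hp]) p m
  · have hb : ∀ g : a.Gen, g.1 = true := fun g => g.2.resolve_left (by simp [hp])
    simp only [gen, hb, if_true]
    exact self_ext h.kv h'.kv (fun l => by rw [h.qc hp, h'.qc hp]) p m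

/-- The pairing of the two families of generators. -/
noncomputable def pairing (D D' : UData F V) (a : Atom) (v w v' w' : V) : (a.Gen × Fin a.e → F) →ₗ[F] V × V :=
  Fintype.linearCombination F fun p => (D.fam a v w p, D'.fam a v' w' p)

theorem corr_step {a : Atom} {v w v' w' : V} (h : D.IsAtom ω a v w) (h' : D'.IsAtom ω a v' w')
    {R R' : Submodule F V} (ho : R ≤ D.orth (D.piece a v w)) (ho' : R' ≤ D'.orth (D'.piece a v' w'))
    {Γ : Submodule F (V × V)} (hΓ1 : Γ.map (LinearMap.fst F V V) = R) (hΓ2 : Γ.map (LinearMap.snd F V V) = R')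
    (hΓB : ∀ p ∈ Γ, ∀ q ∈ Γ, D.B p.1 q.1 = D'.B p.2 q.2) (hΓN : ∀ p ∈ Γ, (D.N p.1, D'.N p.2) ∈ Γ) :
    (LinearMap.range (pairing D D' a v w v' w') ⊔ Γ).map (LinearMap.fst F V V) = D.piece a v w ⊔ R ∧
      (LinearMap.range (pairing D D' a v w v' w') ⊔ Γ).map (LinearMap.snd F V V) = D'.piece a v' w' ⊔ R' ∧
      (∀ p ∈ LinearMap.range (pairing D D' a v w v' w') ⊔ Γ, ∀ q ∈ LinearMap.range (pairing D D' a v w v' w') ⊔ Γ,
        D.B p.1 q.1 = D'.B p.2 q.2) ∧
      ∀ p ∈ LinearMap.range (pairing D D' a v w v' w') ⊔ Γ,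
        (D.N p.1, D'.N p.2) ∈ LinearMap.range (pairing D D' a v w v' w') ⊔ Γ := by
  classical
  set φ := pairing D D' a v w v' w'
  have hφ1 : ∀ c, (φ c).1 = Fintype.linearCombination F (D.fam a v w) c := fun c => by
    simp [φ, pairing, Fintype.linearCombination_apply, Prod.fst_sum]
  have hφ2 : ∀ c, (φ c).2 = Fintype.linearCombination F (D'.fam a v' w') c := fun c => by
    simp [φ, pairing, Fintype.linearCombination_apply, Prod.snd_sum]
  have hfam : ∀ p q, D.B (D.fam a v w p) (D.fam a v w q) = D'.B (D'.fam a v' w' p) (D'.fam a v' w' q) := by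
    intro p q
    rw [fam, fam, fam, fam, ← D.Z_zero p.2.val, form_N, ← D'.Z_zero p.2.val, form_N]
    exact h.gram_eq h' _ _ _ _
  refine ⟨?_, ?_, ?_, ?_⟩
  · rw [Submodule.map_sup, hΓ1, piece, ← LinearMap.range_comp]
    congr 2; exact LinearMap.ext hφ1
  · rw [Submodule.map_sup, hΓ2, piece, ← LinearMap.range_comp]
    congr 2; exact LinearMap.ext hφ2
  · intro p hp q hq
    obtain ⟨_, ⟨c, rfl⟩, r, hr, rfl⟩ := Submodule.mem_sup.1 hp
    obtain ⟨_, ⟨c', rfl⟩, r', hr', rfl⟩ := Submodule.mem_sup.1 hq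
    have m1 : ∀ c, (φ c).1 ∈ D.piece a v w := fun c => hφ1 c ▸ ⟨c, rfl⟩
    have m2 : ∀ c, (φ c).2 ∈ D'.piece a v' w' := fun c => hφ2 c ▸ ⟨c, rfl⟩
    have n1 : ∀ r ∈ Γ, r.1 ∈ R := fun r hr => hΓ1 ▸ ⟨r, hr, rfl⟩
    have n2 : ∀ r ∈ Γ, r.2 ∈ R' := fun r hr => hΓ2 ▸ ⟨r, hr, rfl⟩
    have e1 : D.B (φ c).1 (φ c').1 = D'.B (φ c).2 (φ c').2 := by
      rw [hφ1, hφ1, hφ2, hφ2]
      simp only [Fintype.linearCombination_apply, map_sum, map_smul, LinearMap.sum_apply,
        LinearMap.smul_apply, hfam]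
    have o1 : ∀ c, ∀ r ∈ Γ, D.B (φ c).1 r.1 = 0 := fun c r hr => ho (n1 r hr) _ (m1 c)
    have o2 : ∀ c, ∀ r ∈ Γ, D'.B (φ c).2 r.2 = 0 := fun c r hr => ho' (n2 r hr) _ (m2 c)
    simp only [Prod.fst_add, Prod.snd_add, map_add, LinearMap.add_apply, e1, hΓB r hr r' hr',
      o1 c r' hr', o2 c r' hr', D.swap r.1, D'.swap r.2, o1 c' r hr, o2 c' r hr]
  · intro p hp
    obtain ⟨_, ⟨c, rfl⟩, r, hr, rfl⟩ := Submodule.mem_sup.1 hp
    simp only [Prod.fst_add, Prod.snd_add, map_add]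
    rw [← Prod.mk_add_mk]
    refine Submodule.add_mem_sup ?_ (hΓN r hr)
    rw [hφ1, hφ2, Fintype.linearCombination_apply, Fintype.linearCombination_apply, map_sum, map_sum]
    have hsum : (∑ q, D.N (c q • D.fam a v w q), ∑ q, D'.N (c q • D'.fam a v' w' q)) =
        ∑ q, c q • (D.N (D.fam a v w q), D'.N (D'.fam a v' w' q)) := by
      simp [Prod.ext_iff, Prod.fst_sum, Prod.snd_sum]
    rw [hsum]
    refine Submodule.sum_mem _ fun q _ => Submodule.smul_mem _ _ ?_
    by_cases hi : q.2.val + 1 < a.e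
    · refine ⟨Pi.single (q.1, ⟨_, hi⟩) 1, ?_⟩
      simp only [φ, pairing, Fintype.linearCombination_apply_single, one_smul, fam, pow_succ', Module.End.mul_apply]
    · have k1 : D.N (D.fam a v w q) = 0 := by
        rw [fam, ← Module.End.mul_apply, ← pow_succ', D.kill_le (h.gen_kill q.1) (by omega)]
      have k2 : D'.N (D'.fam a v' w' q) = 0 := by
        rw [fam, ← Module.End.mul_apply, ← pow_succ', D'.kill_le (h'.gen_kill q.1) (by omega)]
      rw [k1, k2]; exact zero_mem _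

/-- Equal lists of pieces give a correspondence preserving the forms and `N`. -/
theorem Frame.corr {W W' : Submodule F V} {L : List Atom}
    (h : D.Frame ω W L) (h' : D'.Frame ω W' L) :
    ∃ Γ : Submodule F (V × V), Γ.map (LinearMap.fst F V V) = W ∧ Γ.map (LinearMap.snd F V V) = W' ∧
      (∀ p ∈ Γ, ∀ q ∈ Γ, D.B p.1 q.1 = D'.B p.2 q.2) ∧ ∀ p ∈ Γ, (D.N p.1, D'.N p.2) ∈ Γ := by
  induction h generalizing W' with
  | nil =>
    cases h'
    exact ⟨⊥, Submodule.map_bot _, Submodule.map_bot _, fun p hp q hq => by simp_all, fun p hp => by simp_all⟩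
  | @cons a v w R L h hR ho ih =>
    cases h' with
    | @cons _ v' w' R' _ h' hR' ho' =>
      obtain ⟨Γ, hΓ1, hΓ2, hΓB, hΓN⟩ := ih hR'
      exact ⟨_, corr_step h h' ho ho' hΓ1 hΓ2 hΓB hΓN⟩

/-- On a nondegenerate subspace the correspondence is an isometry. -/
theorem Frame.exists_equiv {W W' : Submodule F V} {L : List Atom}
    (h : D.Frame ω W L) (h' : D'.Frame ω W' L) (hnd : D.NonDeg W) (hnd' : D'.NonDeg W') :
    ∃ e : W ≃ₗ[F] W', (∀ x : W, ∀ hx : D.N x.1 ∈ W, (e ⟨D.N x.1, hx⟩).1 = D'.N (e x).1) ∧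
      ∀ x y : W, D'.B (e x).1 (e y).1 = D.B x.1 y.1 := by
  obtain ⟨Γ, hΓ1, hΓ2, hΓB, hΓN⟩ := h.corr h'
  have hm1 : ∀ p ∈ Γ, p.1 ∈ W := fun p hp => hΓ1 ▸ ⟨p, hp, rfl⟩
  have hm2 : ∀ p ∈ Γ, p.2 ∈ W' := fun p hp => hΓ2 ▸ ⟨p, hp, rfl⟩
  let f1 : Γ →ₗ[F] W := LinearMap.codRestrict W ((LinearMap.fst F V V).comp Γ.subtype) fun p => hm1 _ p.2
  let f2 : Γ →ₗ[F] W' := LinearMap.codRestrict W' ((LinearMap.snd F V V).comp Γ.subtype) fun p => hm2 _ p.2
  have hs1 : Function.Surjective f1 := fun x => by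
    obtain ⟨p, hp, hx⟩ := (hΓ1.symm ▸ x.2 : x.1 ∈ Γ.map (LinearMap.fst F V V))
    exact ⟨⟨p, hp⟩, Subtype.ext hx⟩
  have hs2 : Function.Surjective f2 := fun x => by
    obtain ⟨p, hp, hx⟩ := (hΓ2.symm ▸ x.2 : x.1 ∈ Γ.map (LinearMap.snd F V V))
    exact ⟨⟨p, hp⟩, Subtype.ext hx⟩
  have hi1 : Function.Injective f1 := by
    rw [injective_iff_map_eq_zero]
    intro p hp
    have h1 : p.1.1 = 0 := congrArg Subtype.val hp
    refine Subtype.ext (Prod.ext h1 (hnd' _ (hm2 _ p.2) fun y hy => ?_))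
    obtain ⟨q, hq⟩ := hs2 ⟨y, hy⟩
    rw [← show q.1.2 = y from congrArg Subtype.val hq, ← hΓB _ p.2 _ q.2, h1, map_zero, LinearMap.zero_apply]
  have hi2 : Function.Injective f2 := by
    rw [injective_iff_map_eq_zero]
    intro p hp
    have h1 : p.1.2 = 0 := congrArg Subtype.val hp
    refine Subtype.ext (Prod.ext (hnd _ (hm1 _ p.2) fun y hy => ?_) h1)
    obtain ⟨q, hq⟩ := hs1 ⟨y, hy⟩
    rw [← show q.1.1 = y from congrArg Subtype.val hq, hΓB _ p.2 _ q.2, h1, map_zero, LinearMap.zero_apply]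
  let e1 := LinearEquiv.ofBijective f1 ⟨hi1, hs1⟩
  let e := e1.symm.trans (LinearEquiv.ofBijective f2 ⟨hi2, hs2⟩)
  have he : ∀ x : W, (x.1, (e x).1) ∈ Γ := fun x => by
    obtain ⟨p, rfl⟩ := e1.surjective x
    have : e (e1 p) = f2 p := by simp [e]; rfl
    rw [this]; exact p.2
  have huniq : ∀ p : Γ, e (f1 p) = f2 p := fun p => by
    show e (e1 p) = f2 p
    simp [e]; rfl
  refine ⟨e, fun x hx => ?_, fun x y => (hΓB _ (he x) _ (he y)).symm⟩
  have := huniq ⟨_, hΓN _ (he x)⟩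
  exact congrArg Subtype.val this

end UData

end Cfsg.Agent.Lib.ClassesSpTwo46
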