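import Cfsg.Agent.Lib.ClassesSpTwo46.Frame

/-!
The greedy decomposition: every nondegenerate unipotent space has a list of pieces subject to the reduction rules.

Owner: helper46.
-/

set_option autoImplicit false
set_option linter.unusedSectionVars false

namespace Cfsg.Agent.Lib.ClassesSpTwo46

open Module

universe u v

variable {F : Type u} [Field F] {V : Type v} [AddCommGroup V] [Module F V] [CharP F 2]

/-- The admissible types. -/
structure Atom.Valid (a : Atom) : Prop where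
  pos : 1 ≤ a.e
  even : a.pair = false → Even a.e
  omPair : a.om = true → a.pair = true → Odd a.e

/-- The rules between a piece and the following ones. -/
structure Atom.Rules (a : Atom) (L : List Atom) : Prop where
  le : ∀ b ∈ L, b.e ≤ a.e
  pairFirst : a.pair = false → ∀ b ∈ L, b.e = a.e → b.pair = false
  minus : a.om = true → a.pair = true → ∀ b ∈ L, b.e ≠ a.e ∧ (b.e + 1 = a.e → b.pair = true)
  omega : a.om = true → a.pair = false →
    ∀ b ∈ L, b.e ≠ a.e ∧ b.e + 1 ≠ a.e ∧ (b.e + 2 = a.e → b.pair = true)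
  two : a.pair = false → L.countP (fun b => b.e == a.e && !b.pair) ≤ 1

/-- Lists obeying the rules. -/
def GoodList : List Atom → Prop
  | [] => True
  | a :: L => a.Valid ∧ a.Rules L ∧ GoodList L

theorem GoodList.valid : ∀ {L : List Atom}, GoodList L → ∀ a ∈ L, a.Valid
  | [], _, a, ha => by simp at ha
  | _ :: _, h, a, ha => by
    rcases List.mem_cons.1 ha with rfl | ha
    · exact h.1
    · exact GoodList.valid h.2.2 a ha

/-- A constant off the image of `c ↦ c + c²`. -/
theorem exists_omega [Finite F] :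
    ∃ ω : F, (∀ c : F, c + c * c ≠ ω) ∧ ∀ a : F, ∃ c : F, a + c + c * c = 0 ∨ a + c + c * c = ω := by
  classical
  let φ : F →+ F :=
    { toFun := fun c => c + c * c
      map_zero' := by simp
      map_add' := fun x y => by linear_combination CharTwo.add_self_eq_zero (x * y) }
  have hker : ∀ x, φ x = 0 ↔ x = 0 ∨ x = 1 := fun x => by
    show x + x * x = 0 ↔ _
    rw [show x + x * x = x * (x + 1) by ring, mul_eq_zero, CharTwo.add_eq_zero]
  have hns : ¬ Function.Surjective φ := fun hs => by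
    have := Finite.injective_iff_surjective.2 hs
    exact zero_ne_one (this (((hker 0).2 (Or.inl rfl)).trans ((hker 1).2 (Or.inr rfl)).symm))
  obtain ⟨ω, hω⟩ := not_forall.1 hns
  have hω' : ∀ c, φ c ≠ ω := fun c hc => hω ⟨c, hc⟩
  refine ⟨ω, hω', fun a => ?_⟩
  let ψ : Bool × F → F := fun p => φ p.2 + if p.1 then ω else 0
  suffices hs : Function.Surjective ψ by
    obtain ⟨⟨b, c⟩, hc⟩ := hs a
    refine ⟨c, ?_⟩
    cases b
    · left; rw [← hc]; simp only [ψ, φ, AddMonoidHom.coe_mk, ZeroHom.coe_mk]; simp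
      linear_combination CharTwo.add_self_eq_zero (c + c * c)
    · right; rw [← hc]; simp only [ψ, φ, AddMonoidHom.coe_mk, ZeroHom.coe_mk]; simp
      linear_combination CharTwo.add_self_eq_zero (c + c * c)
  -- the fibres have at most two elements
  haveI := Fintype.ofFinite F
  by_contra hns2
  obtain ⟨a₀, ha₀⟩ := not_forall.1 hns2
  have h2 : ∀ y ∈ Finset.univ.erase a₀, (Finset.univ.filter fun p => ψ p = y).card ≤ 2 := by
    intro y _
    by_contra hc
    obtain ⟨p, hp, q, hq, r, hr, hpq, hpr, hqr⟩ := Finset.two_lt_card.1 (Nat.lt_of_not_le hc)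
    simp only [Finset.mem_filter, Finset.mem_univ, true_and] at hp hq hr
    have key : ∀ p q : Bool × F, ψ p = ψ q → p ≠ q → q = (p.1, p.2 + 1) := by
      rintro ⟨b, c⟩ ⟨b', c'⟩ h hne
      have hb : b = b' := by
        by_contra hb
        refine hω' (c + c') ?_
        rw [map_add]
        cases b <;> cases b' <;> simp [ψ] at h hb ⊢
        · linear_combination h + CharTwo.add_self_eq_zero (φ c')
        · linear_combination (-1 : F) * h + CharTwo.add_self_eq_zero (φ c)
      subst hb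
      have h0 : φ c = φ c' := add_right_cancel h
      rcases (hker (c + c')).1 (by rw [map_add, h0, CharTwo.add_self_eq_zero]) with he | he
      · exact absurd (show ((b, c) : Bool × F) = (b, c') from Prod.ext rfl (CharTwo.add_eq_zero.1 he)) hne
      · exact Prod.ext rfl (by linear_combination he - CharTwo.add_self_eq_zero c)
    exact hqr ((key p q (hp.trans hq.symm) hpq).trans (key p r (hp.trans hr.symm) hpr).symm)
  have := Finset.card_le_mul_card_image_of_maps_to (s := (Finset.univ : Finset (Bool × F)))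
    (t := Finset.univ.erase a₀) (f := ψ) (fun p _ => Finset.mem_erase.2 ⟨fun h => ha₀ ⟨p, h⟩, Finset.mem_univ _⟩) 2
    h2
  simp [Finset.card_erase_of_mem, Fintype.card_prod] at this
  have := Fintype.card_pos (α := F)
  omega

namespace UData

variable {D : UData F V} {ω : F}

theorem exists_sqrt (F : Type u) [Field F] [CharP F 2] [Finite F] (a : F) : ∃ c : F, c * c = a := by
  obtain ⟨c, hc⟩ := FiniteField.isSquare_of_char_two (ringChar.eq F 2) a
  exact ⟨c, hc.symm⟩

/-- Orthogonality of the cyclic spans. -/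
theorem orth_Z {x y : V} (h : ∀ p m, D.B (D.Z p m x) y = 0) (m : ℕ) :
    D.B ((D.N ^ m) x) y = 0 := by rw [← D.Z_zero]; exact h 0 m

theorem Q_add_orth {x y : V} (h : ∀ p m, D.B (D.Z p m x) y = 0) (l : ℕ) :
    D.Q l (x + y) = D.Q l x + D.Q l y := by rw [Q_add, h, add_zero]

theorem atom_le [FiniteDimensional F V] {W : Submodule F V} {a : Atom} {v w : V} (h : D.IsAtom ω a v w) (hv : v ∈ W)
    {e : ℕ} (hk : ∀ x ∈ W, (D.N ^ e) x = 0) : a.e ≤ e := by
  by_contra hlt
  have h1 := h.top ⟨true, Or.inr rfl⟩ (a.dual ⟨true, Or.inr rfl⟩)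
  rw [if_pos rfl, show gen v w (⟨true, Or.inr rfl⟩ : a.Gen) = v from rfl,
    D.kill_le (hk v hv) (show e ≤ a.e - 1 by omega), map_zero, LinearMap.zero_apply] at h1
  exact zero_ne_one h1

/-- A vector of the next to top value one, orthogonal to a piece. -/
theorem exists_low {W : Submodule F V} (hW : D.Inv W) {b : Atom} {v w : V} (hb : D.IsAtom ω b v w)
    (hv : v ∈ W) (hw : w ∈ W) {r : ℕ} (hbr : (b.pair = true ∧ b.e = r + r + 3) ∨ (b.pair = false ∧ b.e = r + r + 2)) :
    ∃ y ∈ W, y ∈ D.piece b v w ∧ (D.N ^ (r + r + 3)) y = 0 ∧ D.Q r y = 1 := by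
  rcases hbr with ⟨hp, he⟩ | ⟨hp, he⟩
  · by_cases ho : b.om = true
    · exact ⟨v, hv, hb.v_mem, he ▸ hb.kv, by rw [hb.qv hp, if_pos ⟨ho, he.symm⟩]⟩
    · refine ⟨v + w, add_mem hv hw, add_mem hb.v_mem hb.w_mem, ?_, ?_⟩
      · rw [map_add, ← he, hb.kv, hb.kw, add_zero]
      · rw [Q_add, hb.qv hp, hb.qw hp, if_neg (by tauto), if_neg (by tauto),
          D.Z_top hb.kv _ (by omega), hb.cross hp, if_pos (by omega)]
        simp
  · exact ⟨v, hv, hb.v_mem, D.kill_le hb.kv (by omega), by rw [hb.qc hp, if_pos he.symm]⟩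

variable [Finite F] [FiniteDimensional F V]

omit [Finite F] in
theorem mk_pre {W : Submodule F V} {e : ℕ} (he : 1 ≤ e) (hk : ∀ x ∈ W, (D.N ^ e) x = 0) {x y : V} (hx : x ∈ W)
    (hy : y ∈ W) (hxx : D.B ((D.N ^ (e - 1)) x) x = 0) (hyy : D.B ((D.N ^ (e - 1)) y) y = 0)
    (hxy : D.B ((D.N ^ (e - 1)) x) y ≠ 0) : ∃ v ∈ W, ∃ w ∈ W, D.Pre e v w := by
  refine ⟨x, hx, (D.B ((D.N ^ (e - 1)) x) y)⁻¹ • y, W.smul_mem _ hy, he, hk x hx, hk _ (W.smul_mem _ hy), hxx,
    ?_, ?_⟩
  · simp [hyy]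
  · simp [hxy]

omit [Finite F] in
/-- When no pair sits at the top exponent, the following pieces of that exponent are single generators. -/
theorem pairFirst_of_no_pre {W : Submodule F V} {e : ℕ} (he : 1 ≤ e) (hk : ∀ x ∈ W, (D.N ^ e) x = 0)
    (hP : ¬ ∃ v ∈ W, ∃ w ∈ W, D.Pre e v w) {R : Submodule F V} {L : List Atom} (hR : R ≤ W)
    (hL : D.Frame ω R L) : ∀ b ∈ L, b.e = e → b.pair = false := by
  intro b hb hbe
  by_contra hp
  obtain ⟨t, ht, t', ht', htt⟩ := hL.witness hb
  have hp' : b.pair = true := by simpa using hp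
  have hv0 := htt.top ⟨true, Or.inr rfl⟩ ⟨true, Or.inr rfl⟩
  have hw0 := htt.top ⟨false, Or.inl hp'⟩ ⟨false, Or.inl hp'⟩
  rw [if_neg (by simp [Atom.dual, hp'])] at hv0 hw0
  simp only [gen, if_true, if_false, Bool.false_eq_true, hbe] at hv0 hw0
  exact hP (mk_pre he hk (hR ht) (hR ht') hv0 hw0 (by rw [htt.cross hp', if_pos (by omega)]; exact one_ne_zero))

omit [Finite F] in
/-- When no pair sits at the top exponent, there are at most two single generators there. -/
theorem three_of_no_pre {W : Submodule F V} {e k : ℕ} (hke : k + 1 + (k + 1) = e)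
    (hk : ∀ x ∈ W, (D.N ^ e) x = 0) (hP : ¬ ∃ v ∈ W, ∃ w ∈ W, D.Pre e v w) {a : Atom} {v w : V}
    (ha : D.IsAtom ω a v w) (hv : v ∈ W) (hae : a.e = e) (hap : a.pair = false) {R : Submodule F V}
    {L : List Atom} (hR : R ≤ W) (hL : D.Frame ω R L) (hperp : R ≤ D.orth (D.piece a v w)) :
    L.countP (fun b => b.e == e && !b.pair) ≤ 1 := by
  have he : 1 ≤ e := by omega
  have hk1 : ∀ x ∈ W, (D.N ^ (e - 1 + 1)) x = 0 := by rw [Nat.sub_add_cancel he]; exact hk
  by_contra hc
  obtain ⟨b1, b2, hb1, hb2, y, hy, y', -, z, hz, z', -, h1, h2, horth⟩ :=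
    hL.witness₂ (fun b => b.e == e && !b.pair) (by omega)
  simp only [Bool.and_eq_true, beq_iff_eq, Bool.not_eq_true'] at hb1 hb2
  have hq : ∀ (b : Atom) (t t' : V), b.e = e ∧ b.pair = false → D.IsAtom ω b t t' → t ∈ W →
      D.B ((D.N ^ (e - 1)) t) t = 1 := fun b t t' hb ht htW => by
    rw [show e - 1 = k + k + 1 by omega,
      ← D.Q_top (by rw [show k + k + 2 = e by omega]; exact hk t htW), ht.qc hb.2, if_pos (by omega)]
  have ov : ∀ t ∈ R, D.B ((D.N ^ (e - 1)) v) t = 0 := fun t ht =>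
    hperp ht _ (ha.inv_piece.Npow_mem D _ ha.v_mem)
  have ov' : ∀ t ∈ R, D.B ((D.N ^ (e - 1)) t) v = 0 := fun t ht => by
    rw [D.top_symm (m := e - 1) (hk1 v hv)]; exact ov t ht
  have oyz := orth_Z horth (e - 1)
  have ozy : D.B ((D.N ^ (e - 1)) z) y = 0 := by
    rw [D.top_symm (m := e - 1) (hk1 y (hR hy))]; exact oyz
  have q1 := hq a v w ⟨hae, hap⟩ ha hv
  have q2 := hq b1 y y' hb1 h1 (hR hy)
  have q3 := hq b2 z z' hb2 h2 (hR hz)
  refine hP (mk_pre he hk (add_mem hv (hR hy)) (add_mem (hR hy) (hR hz)) ?_ ?_ ?_)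
  · simp [q1, q2, ov y hy, ov' y hy, CharTwo.add_self_eq_zero]
  · simp [q2, q3, oyz, ozy, CharTwo.add_self_eq_zero]
  · simp [q2, ov y hy, ov z hz, oyz]

/-- A standard piece at the top exponent, obeying the rules against any decomposition orthogonal to it. -/
theorem exists_top (hω : ∀ a : F, ∃ c : F, a + c + c * c = 0 ∨ a + c + c * c = ω) (W : Submodule F V)
    (hW : D.Inv W) (hnd : D.NonDeg W) (hW0 : W ≠ ⊥) {e : ℕ} (hk : ∀ x ∈ W, (D.N ^ e) x = 0)
    (hmin : ∀ i < e, ¬ ∀ x ∈ W, (D.N ^ i) x = 0) :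
    ∃ a : Atom, ∃ v ∈ W, ∃ w ∈ W, D.IsAtom ω a v w ∧ a.e = e ∧
      (a.pair = false → ¬ ∃ v ∈ W, ∃ w ∈ W, D.Pre e v w) ∧ (a.om = true → 3 ≤ e) ∧
      ∀ R L, R ≤ W → D.Frame ω R L → R ≤ D.orth (D.piece a v w) → a.Valid ∧ a.Rules L := by
  classical
  obtain ⟨z, hz, hz0⟩ := (Submodule.ne_bot_iff _).1 hW0
  have he : 1 ≤ e := by
    rcases Nat.eq_zero_or_pos e with h | h
    · exact absurd (by have := hk z hz; rwa [h] at this) hz0
    · exact h
  have hk1 : ∀ x ∈ W, (D.N ^ (e - 1 + 1)) x = 0 := by rw [Nat.sub_add_cancel he]; exact hk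
  have hle : ∀ {R : Submodule F V} {L : List Atom}, R ≤ W → D.Frame ω R L → ∀ b ∈ L, b.e ≤ e := by
    intro R L hR hL b hb
    obtain ⟨v, hv, w, _, h⟩ := hL.witness hb
    exact atom_le h (hR hv) hk
  have hodd : ∀ x ∈ W, Odd e → D.B ((D.N ^ (e - 1)) x) x = 0 := fun x hx ho =>
    D.self_top (by obtain ⟨r, rfl⟩ := ho; exact ⟨r, by omega⟩) (hk1 x hx)
  by_cases hP : ∃ v ∈ W, ∃ w ∈ W, D.Pre e v w
  · -- a pair at the top
    by_cases hplus : ∃ v ∈ W, ∃ w ∈ W, D.Pre e v w ∧ ∀ r, r + r + 3 = e → D.Q r v = 0 ∧ D.Q r w = 0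
    · obtain ⟨v, hv, w, hw, hpre, hq⟩ := hplus
      obtain ⟨v', hv', w', hw', hpre', hc, hqv, hqw⟩ :=
        pair_std hW.N_mem hv hw hpre 0 0 (fun l hl => (hq l hl).1) (fun l hl => (hq l hl).2)
      refine ⟨⟨e, true, false⟩, v', hv', w', hw', ⟨he, hpre'.kv, hpre'.kw, fun _ => hc, fun _ l => ?_,
        fun _ l => ?_, fun h => by simp at h, fun h => by simp at h, fun h => by simp at h⟩, rfl,
        fun h => by simp at h, fun h => by simp at h, fun R L hR hL _ => ⟨⟨he, fun h => by simp at h, fun h => by simp at h⟩,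
          ⟨hle hR hL, fun h => by simp at h, fun h => by simp at h, fun h => by simp at h, fun h => by simp at h⟩⟩⟩
      · rw [hqv]; simp
      · rw [hqw]; simp
    · obtain ⟨v, hv, w, hw, hpre⟩ := hP
      obtain ⟨r, hr⟩ : ∃ r, r + r + 3 = e := by
        by_contra hne
        exact hplus ⟨v, hv, w, hw, hpre, fun r hr => absurd ⟨r, hr⟩ hne⟩
      have ho : Odd e := ⟨r + 1, by omega⟩
      have hpol : ∀ {x y}, D.Pre e x y → D.B (D.Z (r + 1) (r + r + 2) x) y = 1 := fun {x y} h => by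
        rw [h.cross_high _ (by omega), if_pos (by omega)]
      have mk : ∀ x ∈ W, ∀ y ∈ W, D.Pre e x y → D.Q r x = 0 → False := by
        intro x hx y hy h h0
        refine hplus ⟨x, hx, y + D.Q r y • x, add_mem hy (W.smul_mem _ hx),
          ⟨he, h.kv, hk _ (add_mem hy (W.smul_mem _ hx)), h.bv, hodd _ (add_mem hy (W.smul_mem _ hx)) ho, ?_⟩,
          fun r' hr' => ?_⟩
        · simp [h.bvw, h.bv]
        · obtain rfl : r' = r := by omega
          refine ⟨h0, ?_⟩
          rw [Q_add, Q_smul, h0, map_smul, hpol h.symm]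
          simp [CharTwo.add_self_eq_zero]
      obtain ⟨s, hs⟩ := exists_sqrt F (D.Q r v)⁻¹
      have hQ0 : D.Q r v ≠ 0 := fun h0 => mk v hv w hw hpre h0
      have hs0 : s ≠ 0 := fun h0 => inv_ne_zero hQ0 (by rw [← hs, h0, mul_zero])
      obtain ⟨v1, hv1⟩ : ∃ v1, v1 = s • v := ⟨_, rfl⟩
      obtain ⟨c, hc⟩ := hω (D.Q r (s⁻¹ • w))
      obtain ⟨w1, hw1⟩ : ∃ w1, w1 = s⁻¹ • w + c • v1 := ⟨_, rfl⟩
      have hv1W : v1 ∈ W := hv1 ▸ W.smul_mem _ hv
      have hw1W : w1 ∈ W := hw1 ▸ add_mem (W.smul_mem _ hw) (W.smul_mem _ hv1W)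
      have hpre0 : D.Pre e v1 (s⁻¹ • w) := ⟨he, hk _ hv1W, hk _ (W.smul_mem _ hw), hodd _ hv1W ho,
        hodd _ (W.smul_mem _ hw) ho, by simp [hv1, hpre.bvw, hs0]⟩
      have hpre1 : D.Pre e v1 w1 := ⟨he, hk _ hv1W, hk _ hw1W, hodd _ hv1W ho, hodd _ hw1W ho, by
        simp [hw1, hpre0.bvw, hpre0.bv]⟩
      have hQv1 : D.Q r v1 = 1 := by rw [hv1, Q_smul, hs, inv_mul_cancel₀ hQ0]
      have hQw1 : D.Q r w1 = ω := by
        have e1 : D.Q r w1 = D.Q r (s⁻¹ • w) + c + c * c := by
          rw [hw1, Q_add, Q_smul _ _ c, hQv1, map_smul (D.B _) c, hpol hpre0.symm, smul_eq_mul]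
          ring
        rcases hc with hc | hc
        · exact absurd (e1.trans hc) fun h0 => mk w1 hw1W v1 hv1W hpre1.symm h0
        · exact e1.trans hc
      obtain ⟨v', hv', w', hw', hpre', hcr, hqv, hqw⟩ := pair_std hW.N_mem hv1W hw1W hpre1 1 ω
        (fun l hl => by rwa [show l = r by omega]) (fun l hl => by rwa [show l = r by omega])
      have hat : D.IsAtom ω ⟨e, true, true⟩ v' w' := ⟨he, hpre'.kv, hpre'.kw, fun _ => hcr, fun _ l => by
        rw [hqv]; simp, fun _ l => by rw [hqw]; simp, fun h => by simp at h, fun h => by simp at h,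
        fun h => by simp at h⟩
      refine ⟨_, v', hv', w', hw', hat, rfl, fun h => by simp at h, fun _ => by omega, fun R L hR hL hperp =>
        ⟨⟨he, fun h => by simp at h, fun _ _ => ho⟩,
         ⟨hle hR hL, fun h => by simp at h, fun _ _ b hb => ?_, fun _ h => by simp at h, fun h => by simp at h⟩⟩⟩
      obtain ⟨x, hx, y, hy, hxy⟩ := hL.witness hb
      have key : ¬ ((b.pair = true ∧ b.e = r + r + 3) ∨ (b.pair = false ∧ b.e = r + r + 2)) := by
        intro hbr
        obtain ⟨u, hu, -, huk, huq⟩ := exists_low hL.inv hxy hx hy hbr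
        have o1 : ∀ p m, D.B (D.Z p m v') u = 0 := fun p m =>
          hperp hu _ (hat.inv_piece.Z_mem D p m hat.v_mem)
        have o2 : ∀ m, D.B ((D.N ^ m) w') u = 0 := fun m =>
          hperp hu _ (hat.inv_piece.Npow_mem D m hat.w_mem)
        have hu' : (D.N ^ e) u = 0 := by rwa [← hr]
        have hzW : v' + u ∈ W := add_mem hv' (hR hu)
        refine mk (v' + u) hzW w' hw' ⟨he, hk _ hzW, hpre'.kw, hodd _ hzW ho, hpre'.bw, ?_⟩ ?_
        · have : D.B ((D.N ^ (e - 1)) u) w' = 0 := by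
            rw [D.top_symm (m := e - 1) (by rw [Nat.sub_add_cancel he]; exact hpre'.kw)]
            exact o2 _
          simp [hpre'.bvw, this]
        · rw [Q_add_orth o1, hqv, if_pos hr, huq, CharTwo.add_self_eq_zero]
      refine ⟨fun hbe => key ?_, fun hbe => ?_⟩
      · rcases Bool.eq_false_or_eq_true b.pair with hp | hp
        · exact Or.inl ⟨hp, by simp only at hbe; omega⟩
        · obtain ⟨j, hj⟩ := hxy.even hp
          simp only at hbe; omega
      · by_contra hp
        exact key (Or.inr ⟨by simpa using hp, by simp only at hbe; omega⟩)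
  · -- only single generators at the top
    have hnot := hmin (e - 1) (by omega)
    push_neg at hnot
    obtain ⟨x₀, hx₀, hx₀0⟩ := hnot
    obtain ⟨y₀, hy₀, hxy₀⟩ : ∃ y₀ ∈ W, D.B ((D.N ^ (e - 1)) x₀) y₀ ≠ 0 := by
      by_contra hne
      push_neg at hne
      exact hx₀0 (hnd _ (hW.Npow_mem D _ hx₀) hne)
    obtain ⟨x, hx, hxx⟩ : ∃ x ∈ W, D.B ((D.N ^ (e - 1)) x) x ≠ 0 := by
      by_contra hne
      push_neg at hne
      exact hP (mk_pre he hk hx₀ hy₀ (hne _ hx₀) (hne _ hy₀) hxy₀)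
    obtain ⟨k, hke⟩ : ∃ k, k + 1 + (k + 1) = e := by
      rcases Nat.even_or_odd e with ⟨j, hj⟩ | ho
      · exact ⟨j - 1, by omega⟩
      · exact absurd (hodd x hx ho) hxx
    have hQb : ∀ y ∈ W, D.Q k y = D.B ((D.N ^ (e - 1)) y) y := fun y hy => by
      rw [D.Q_top (by rw [show k + k + 2 = e by omega]; exact hk y hy), show k + k + 1 = e - 1 by omega]
    obtain ⟨x1, hx1, hx1q⟩ : ∃ x1 ∈ W, D.Q k x1 = 1 := by
      obtain ⟨s, hs⟩ := exists_sqrt F (D.Q k x)⁻¹
      exact ⟨s • x, W.smul_mem _ hx, by rw [Q_smul, hs, inv_mul_cancel₀ (by rwa [hQb x hx])]⟩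
    have three : ∀ a v w, D.IsAtom ω a v w → v ∈ W → a.e = e → a.pair = false → ∀ R L, R ≤ W →
        D.Frame ω R L → R ≤ D.orth (D.piece a v w) →
        L.countP (fun b => b.e == e && !b.pair) ≤ 1 := fun a v w ha hv hae hap R L hR hL hperp =>
      three_of_no_pre (a := a) (v := v) (w := w) (R := R) (L := L) hke hk hP ha hv hae hap hR hL hperp
    have hpf : ∀ R L, R ≤ W → D.Frame ω R L → ∀ b ∈ L, b.e = e → b.pair = false := fun R L hR hL => pairFirst_of_no_pre (ω := ω) (R := R) (L := L) he hk hP hR hL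
    by_cases hzero : ∃ y ∈ W, D.Q k y = 1 ∧ ∀ j, j + 1 = k → D.Q j y = 0
    · obtain ⟨y, hy, hyq, hy0⟩ := hzero
      obtain ⟨y', hy', hyk, hyt, hyn, hyz⟩ := cyc_std hW.N_mem hy hke (hk y hy) hyq
      have hat : D.IsAtom ω ⟨e, false, false⟩ y' y' := ⟨he, hyk, hyk, fun h => by simp at h,
        fun h => by simp at h, fun h => by simp at h, fun _ => ⟨k + 1, show e = _ by omega⟩, fun _ l => by
          rcases lt_trichotomy l k with hl | rfl | hl
          · rw [if_neg (by simp only; omega), if_neg (by simp)]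
            rcases Nat.lt_or_ge (l + 1) k with h | h
            · exact hyz l (by omega)
            · rw [hyn l (by omega)]; exact hy0 l (by omega)
          · rw [hyt, if_pos (by simp only; omega)]
          · rw [D.Q_kill hyk (by omega), if_neg (by simp only; omega), if_neg (by simp)], fun _ => rfl⟩
      exact ⟨_, y', hy', y', hy', hat, rfl, fun _ => hP, fun h => by simp at h, fun R L hR hL hperp =>
        ⟨⟨he, fun _ => ⟨k + 1, by show e = _; omega⟩, fun h => by simp at h⟩,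
         ⟨hle hR hL, fun _ => hpf R L hR hL, fun h => by simp at h, fun h => by simp at h,
          fun _ => three _ _ _ hat hy' rfl rfl R L hR hL hperp⟩⟩⟩
    · obtain ⟨j, rfl⟩ : ∃ j, k = j + 1 :=
        ⟨k - 1, by
          by_contra hk0
          exact hzero ⟨x1, hx1, hx1q, fun j hj => by omega⟩⟩
      obtain ⟨c, hc⟩ := hω (D.Q j x1)
      obtain ⟨y, hy, hyk0, hyq, hyj⟩ := cyc_shift hW.N_mem hx1 (show j + 2 + (j + 2) = e by omega) (hk _ hx1) hx1q c
      have hyω : D.Q j y = ω := hc.elim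
        (fun h => absurd ⟨y, hy, hyq, fun i hi => by rw [show i = j by omega, hyj, h]⟩ hzero) (hyj.trans ·)
      obtain ⟨y', hy', hyk, hyt, hyn, hyz⟩ := cyc_std hW.N_mem hy hke hyk0 hyq
      have hat : D.IsAtom ω ⟨e, false, true⟩ y' y' := ⟨he, hyk, hyk, fun h => by simp at h,
        fun h => by simp at h, fun h => by simp at h, fun _ => ⟨j + 2, show e = _ by omega⟩, fun _ l => by
          rcases lt_trichotomy l (j + 1) with hl | rfl | hl
          · rw [if_neg (by simp only; omega)]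
            rcases Nat.lt_or_ge l j with h | h
            · rw [hyz l (by omega), if_neg (by simp only; omega)]
            · rw [hyn l (by omega), show l = j by omega, hyω, if_pos ⟨rfl, by simp only; omega⟩]
          · rw [hyt, if_pos (by simp only; omega)]
          · rw [D.Q_kill hyk (by omega), if_neg (by simp only; omega), if_neg (by simp only; omega)],
        fun _ => rfl⟩
      refine ⟨_, y', hy', y', hy', hat, rfl, fun _ => hP, fun _ => by omega, fun R L hR hL hperp =>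
        ⟨⟨he, fun _ => ⟨j + 2, by show e = _; omega⟩, fun _ h => by simp at h⟩,
         ⟨hle hR hL, fun _ => hpf R L hR hL, fun _ h => by simp at h, fun _ _ b hb => ?_,
          fun _ => three _ _ _ hat hy' rfl rfl R L hR hL hperp⟩⟩⟩
      obtain ⟨t, ht, t', ht', htt⟩ := hL.witness hb
      obtain ⟨s, hs⟩ := exists_sqrt F ω
      have key : ¬ ∃ u ∈ R, (D.N ^ e) u = 0 ∧ D.Q (j + 1) u = 0 ∧ D.Q j u = 1 := by
        rintro ⟨u, hu, -, hu1, hu0⟩
        have o1 : ∀ p m, D.B (D.Z p m y') (s • u) = 0 := fun p m => by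
          rw [map_smul, hperp hu _ (hat.inv_piece.Z_mem D p m hat.v_mem), smul_zero]
        refine hzero ⟨y' + s • u, add_mem hy' (W.smul_mem _ (hR hu)), ?_, fun i hi => ?_⟩
        · rw [Q_add_orth o1, Q_smul, hu1, mul_zero, add_zero, hyt]
        · obtain rfl : i = j := by omega
          rw [Q_add_orth o1, Q_smul, hu0, mul_one, hs, hyn i hi, hyω, CharTwo.add_self_eq_zero]
      have keylow : ¬ ((b.pair = true ∧ b.e = j + j + 3) ∨ (b.pair = false ∧ b.e = j + j + 2)) := by
        intro hbr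
        obtain ⟨u, hu, -, huk, huq⟩ := exists_low hL.inv htt ht ht' hbr
        exact key ⟨u, hu, hk u (hR hu), D.Q_kill huk (by omega), huq⟩
      refine ⟨fun hbe => key ⟨(D.N ^ 1) t, hL.inv.Npow_mem D 1 ht, hk _ (hR (hL.inv.Npow_mem D 1 ht)), ?_, ?_⟩,
        fun hbe => keylow ?_, fun hbe => ?_⟩
      · simp only at hbe
        rw [Q_N, D.Z_kill (e := b.e) htt.kv _ (by omega), map_zero, LinearMap.zero_apply]
      · simp only at hbe
        have hp := hpf R L hR hL b hb hbe
        rw [Q_N, show j + j + 1 + (1 + 1) = j + 1 + (j + 1) + 1 by omega, ← Q, htt.qc hp, if_pos (by omega)]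
      · simp only at hbe
        refine Or.inl ⟨?_, by omega⟩
        by_contra hp
        obtain ⟨i, hi⟩ := htt.even (by simpa using hp)
        omega
      · by_contra hp
        exact keylow (Or.inr ⟨by simpa using hp, by simp only at hbe; omega⟩)

/-- Every nondegenerate invariant subspace killed by a power of `N` decomposes. -/
theorem exists_frame (hω : ∀ a : F, ∃ c : F, a + c + c * c = 0 ∨ a + c + c * c = ω) :
    ∀ (n : ℕ) (W : Submodule F V), finrank F W = n → D.Inv W → D.NonDeg W →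
      (∃ M, ∀ x ∈ W, (D.N ^ M) x = 0) → ∃ L, D.Frame ω W L ∧ GoodList L ∧ ∀ a ∈ L, a.om = true → 3 ≤ a.e := by
  classical
  intro n
  induction n using Nat.strong_induction_on with
  | _ n ih =>
  intro W hn hW hnd hM
  rcases eq_or_ne W ⊥ with rfl | hW0
  · exact ⟨[], Frame.nil, trivial, by simp⟩
  obtain ⟨a, v, hv, w, hw, ha, hae, -, hom, hgood⟩ := exists_top hω W hW hnd hW0 (Nat.find_spec hM)
    fun i hi => Nat.find_min hM hi
  obtain ⟨hsup, hndR⟩ := ha.split hnd (piece_le hW hv hw)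
  have hlt : finrank F ↥(W ⊓ D.orth (D.piece a v w)) < n := by
    have e1 := Submodule.finrank_sup_add_finrank_inf_eq (D.piece a v w) (W ⊓ D.orth (D.piece a v w))
    rw [hsup, (ha.disjoint.mono_right inf_le_right).eq_bot, finrank_bot, add_zero, hn, ha.finrank_piece,
      Atom.dim] at e1
    have := ha.pos
    split_ifs at e1 <;> omega
  obtain ⟨L, hL, hg, hlow⟩ := ih _ hlt _ rfl (hW.inf D (ha.inv_piece.orth D)) hndR
    (hM.imp fun M hM x hx => hM x hx.1)
  obtain ⟨h1, h2⟩ := hgood _ L inf_le_left hL inf_le_right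
  exact ⟨a :: L, hsup ▸ Frame.cons ha hL inf_le_right, ⟨h1, h2, hg⟩,
    List.forall_mem_cons.2 ⟨fun h => hae ▸ hom h, hlow⟩⟩

end UData

end Cfsg.Agent.Lib.ClassesSpTwo46
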