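import Cfsg.Agent.Lib.ClassesSpTwo46.Series
import Cfsg.Agent.Lib.ClassesSp.Main

/-!
The upper bound `5 k(Sp_{2n}(q)) ≤ 76 qⁿ` for even `q`: a class is given by the code of its unipotent part and
the self-dual elementary divisors prime to `X - 1`.

Owner: helper46.
-/

set_option autoImplicit false
set_option linter.unusedSectionVars false
set_option linter.style.haveILetI false

namespace Cfsg.Agent.Lib.ClassesSpTwo46

open Polynomial Module
open Cfsg.Agent.Lib.ClassesGLBound
open Cfsg.Agent.Lib.ClassesSL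
open Cfsg.Agent.Lib.Symplectic (IsSympForm restr stdForm)
open Cfsg.Agent.Lib.ClassesSp (SD rdual toGL lin lin_isometry lin_bijective lin_pow eig shiftT shiftT_pow_mem
  shiftT_pow_mem_range isCompl_ker_range perp_ker_range finrank_space eig_symp card_eq_kerCard)
open Cfsg.Agent.Lib.GLFlags.SympConj (Good)

universe u

variable {F : Type u} [Field F] [Fintype F] [CharP F 2] {n : ℕ}

/-! ### Self-dual polynomials without the root one -/

theorem sd_coeff_zero {g : F[X]} (h : SD g) : g.coeff 0 = 1 :=
  h.coeff_zero.elim id fun h' => h'.trans (CharTwo.neg_eq 1)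

theorem sd_sym {g : F[X]} (h : SD g) {i : ℕ} (hi : i ≤ g.natDegree) :
    g.coeff (g.natDegree - i) = g.coeff i := by rw [h.coeff_sub hi, sd_coeff_zero h, one_mul]

theorem sd_eval_one {g : F[X]} (h : SD g) :
    g.eval 1 = if Even g.natDegree then g.coeff (g.natDegree / 2) else 0 := by
  classical
  rw [eval_eq_sum_range]
  simp only [one_pow, mul_one]
  rw [← Finset.sum_filter_add_sum_filter_not (Finset.range (g.natDegree + 1)) fun i => i + i = g.natDegree]
  have h0 : ∑ i ∈ (Finset.range (g.natDegree + 1)).filter (fun i => ¬ i + i = g.natDegree), g.coeff i = 0 := by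
    refine Finset.sum_involution (fun i _ => g.natDegree - i) (fun i hi => ?_) (fun i hi _ => ?_)
      (fun i hi => ?_) (fun i hi => ?_) <;> simp only [Finset.mem_filter, Finset.mem_range] at hi ⊢
    · rw [sd_sym h (by omega), CharTwo.add_self_eq_zero]
    · omega
    · omega
    · omega
  rw [h0, add_zero]
  split_ifs with he
  · obtain ⟨m, hm⟩ := he
    rw [Finset.sum_eq_single (g.natDegree / 2)]
    · intro i hi hne; simp only [Finset.mem_filter, Finset.mem_range] at hi; omega
    · intro hn; simp only [Finset.mem_filter, Finset.mem_range] at hn; omega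
  · refine Finset.sum_eq_zero fun i hi => absurd ?_ he
    simp only [Finset.mem_filter] at hi
    exact ⟨i, hi.2.symm⟩

/-- The upper half of a self-dual polynomial of degree `2d`. -/
noncomputable def half (g : F[X]) : F[X] :=
  ∑ i ∈ Finset.range (g.natDegree / 2 + 1), monomial i (g.coeff (g.natDegree / 2 + i))

theorem coeff_half (g : F[X]) {i : ℕ} (hi : i ≤ g.natDegree / 2) :
    (half g).coeff i = g.coeff (g.natDegree / 2 + i) := by
  rw [half, finset_sum_coeff, Finset.sum_eq_single i]
  · rw [coeff_monomial, if_pos rfl]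
  · intro j _ hj; rw [coeff_monomial, if_neg hj]
  · intro h; simp at h; omega

theorem natDegree_half_le (g : F[X]) : (half g).natDegree ≤ g.natDegree / 2 :=
  natDegree_sum_le_of_forall_le _ _ fun i hi =>
    (natDegree_monomial_le _).trans (by simp at hi; omega)

theorem half_spec {g : F[X]} (h : SD g) (h1 : g.eval 1 ≠ 0) :
    Even g.natDegree ∧ (half g).Monic ∧ (half g).natDegree = g.natDegree / 2 ∧ (half g).coeff 0 ≠ 0 := by
  rw [sd_eval_one h] at h1
  obtain ⟨he, h1⟩ : Even g.natDegree ∧ g.coeff (g.natDegree / 2) ≠ 0 := by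
    split_ifs at h1 with he
    · exact ⟨he, h1⟩
    · exact absurd rfl h1
  have htop : (half g).coeff (g.natDegree / 2) = 1 := by
    rw [coeff_half g le_rfl, show g.natDegree / 2 + g.natDegree / 2 = g.natDegree by
      obtain ⟨m, hm⟩ := he; omega, h.1.coeff_natDegree]
  refine ⟨he, monic_of_natDegree_le_of_coeff_eq_one _ (natDegree_half_le g) htop,
    natDegree_eq_of_le_of_coeff_ne_zero (natDegree_half_le g) (by rw [htop]; exact one_ne_zero), ?_⟩
  rw [coeff_half g (Nat.zero_le _), add_zero]
  exact h1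

theorem half_inj {g g' : F[X]} (h : SD g) (h' : SD g') (h1 : g.eval 1 ≠ 0) (h1' : g'.eval 1 ≠ 0)
    (he : half g = half g') : g = g' := by
  obtain ⟨he1, -, hd, -⟩ := half_spec h h1
  obtain ⟨he2, -, hd', -⟩ := half_spec h' h1'
  rw [he] at hd
  have hdeg : g.natDegree = g'.natDegree := by
    obtain ⟨a, ha⟩ := he1; obtain ⟨b, hb⟩ := he2; omega
  refine h.ext h' rfl hdeg.symm ((sd_coeff_zero h).trans (sd_coeff_zero h').symm) fun i hi => ?_
  obtain ⟨a, ha⟩ := he1
  have e : (half g).coeff (g.natDegree / 2 - (i + 1)) = (half g').coeff (g.natDegree / 2 - (i + 1)) := by rw [he]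
  rw [coeff_half g (by omega), coeff_half g' (by omega), ← hdeg] at e
  rw [← sd_sym h (by omega : i + 1 ≤ g.natDegree), ← sd_sym h' (by omega : i + 1 ≤ g'.natDegree), ← hdeg,
    show g.natDegree - (i + 1) = g.natDegree / 2 + (g.natDegree / 2 - (i + 1)) by omega]
  exact e

theorem exists_split {g : F[X]} (h : SD g) :
    ∃ g1, g = (X - C 1) ^ rootMultiplicity 1 g * g1 ∧ SD g1 ∧ g1.eval 1 ≠ 0 ∧
      g.natDegree = rootMultiplicity 1 g + g1.natDegree := by
  obtain ⟨g1, hg1, hr1⟩ := exists_eq_pow_rootMultiplicity_mul_and_not_dvd g h.1.ne_zero 1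
  have hm1 : ((X - C (1 : F)) ^ rootMultiplicity 1 g).Monic := (monic_X_sub_C _).pow _
  have hg1m : g1.Monic := hm1.of_mul_monic_left (hg1 ▸ h.1)
  refine ⟨g1, hg1, ⟨hg1m, fun e => h.2.1 (by rw [hg1, mul_coeff_zero, e, mul_zero]), ?_⟩,
    fun e => hr1 (dvd_iff_isRoot.2 e), ?_⟩
  · have e := h.2.2
    rw [hg1, ClassesSp.rdual_mul, ClassesSp.rdual_pow, ClassesSp.rdual_X_sub_C (one_mul 1)] at e
    exact mul_left_cancel₀ (pow_ne_zero _ (X_sub_C_ne_zero _)) e
  · conv_lhs => rw [hg1]
    rw [hm1.natDegree_mul hg1m, natDegree_pow, natDegree_X_sub_C, mul_one]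

/-! ### The data of a symplectic matrix -/

/-- A symplectic matrix as data. -/
noncomputable def udata (x : Matrix.symplecticGroup (Fin n) F) : UData F (Fin n ⊕ Fin n → F) where
  B := stdForm n F
  T := lin x
  U := lin x⁻¹
  symp := Symplectic.isSympForm_stdForm n F
  TU := by
    rw [lin, lin, Module.End.mul_eq_comp, ← Matrix.toLin'_mul, ← Submonoid.coe_mul, mul_inv_cancel,
      OneMemClass.coe_one, Matrix.toLin'_one]
    rfl
  UT := by
    rw [lin, lin, Module.End.mul_eq_comp, ← Matrix.toLin'_mul, ← Submonoid.coe_mul, inv_mul_cancel,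
      OneMemClass.coe_one, Matrix.toLin'_one]
    rfl
  iso := lin_isometry x

theorem udata_N (x : Matrix.symplecticGroup (Fin n) F) : (udata x).N = shiftT (lin x) 1 :=
  LinearMap.ext fun v => by
    rw [UData.N_apply, ClassesSp.shiftT_apply, one_smul, sub_eq_add_neg]
    congr 1
    exact (eq_neg_of_add_eq_zero_left (addV_self F v))

theorem mem_eig_iff (x : Matrix.symplecticGroup (Fin n) F) (v : Fin n ⊕ Fin n → F) :
    v ∈ eig x (1 : F) ↔ ((udata x).N ^ (n + n)) v = 0 := by rw [udata_N]; rfl

theorem exists_udata_frame {ω : F} (hω : ∀ a : F, ∃ c : F, a + c + c * c = 0 ∨ a + c + c * c = ω)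
    (x : Matrix.symplecticGroup (Fin n) F) :
    ∃ L, (udata x).Frame ω (eig x (1 : F)) L ∧ GoodList L ∧ (∀ a ∈ L, a.om = true → 3 ≤ a.e) ∧ (∀ a ∈ L, a.e ≤ n + n) ∧
      2 * codeWt (code L n) = finrank F (eig x (1 : F)) ∧ codeWt (code L n) ≤ n := by
  have hinv : (udata x).Inv (eig x (1 : F)) := by
    refine ⟨fun v hv => ?_, fun v hv => ?_⟩ <;> rw [mem_eig_iff] at hv ⊢
    · rw [← Module.End.mul_apply, ← pow_succ, pow_succ', Module.End.mul_apply, hv, map_zero]
    · rw [← Module.End.mul_apply, ← ((udata x).commute_UN.pow_right (n + n)).eq, Module.End.mul_apply, hv, map_zero]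
  have hnd : (udata x).NonDeg (eig x (1 : F)) := fun v hv h =>
    congrArg Subtype.val ((eig_symp x (one_mul 1)).nondeg ⟨v, hv⟩ fun y => h _ y.2)
  obtain ⟨L, hL, hg, hlow⟩ := UData.exists_frame hω _ _ rfl hinv hnd
    ⟨n + n, fun v hv => (mem_eig_iff x v).1 hv⟩
  have hbd : ∀ a ∈ L, a.e ≤ n + n := fun a ha => by
    obtain ⟨v, hv, w, -, h⟩ := hL.witness ha
    exact UData.atom_le h hv fun v hv => (mem_eig_iff x v).1 hv
  have hwt : 2 * codeWt (code L n) = finrank F (eig x (1 : F)) := by
    rw [two_codeWt hg, sum_levDim n L fun a ha => ⟨hg.valid a ha, hbd a ha⟩, hL.finrank_eq]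
  refine ⟨L, hL, hg, hlow, hbd, hwt, ?_⟩
  have := (Submodule.finrank_le (eig x (1 : F))).trans_eq (finrank_space (F := F) (n := n))
  omega

/-- The elementary divisors, by exponent. -/
noncomputable abbrev divs (x : Matrix.symplecticGroup (Fin n) F) : Fin (n + n) → F[X] := (invT (toGL n F x)).1

theorem divs_sd (x : Matrix.symplecticGroup (Fin n) F) (j : Fin (n + n)) : SD (divs x j) :=
  ⟨((invT (toGL n F x)).2.1 j).1, ((invT (toGL n F x)).2.1 j).2,
    ClassesSp.invT_rdual _ (ClassesSp.isConj_inv x) j⟩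

theorem mult_eq_count [DecidableEq F] (x : Matrix.symplecticGroup (Fin n) F) (j : Fin (n + n)) :
    rootMultiplicity 1 (divs x j) = Fintype.card {i // keyOf (toGL n F x) i = ((j : ℕ) + 1, X - C (1 : F))} := by
  rw [card_fibre_eq (keyOf_spec _).1]
  show _ = Multiset.count _ (UniqueFactorizationMonoid.normalizedFactors (divs x j))
  have hne : divs x j ≠ 0 := (divs_sd x j).1.ne_zero
  refine (UniqueFactorizationMonoid.count_normalizedFactors_eq (irreducible_X_sub_C _)
    (monic_X_sub_C (1 : F)).normalize_eq_self (pow_rootMultiplicity_dvd _ _) ?_).symm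
  intro hdvd
  have := (le_rootMultiplicity_iff hne).2 hdvd
  omega

theorem finrank_eig_eq (x : Matrix.symplecticGroup (Fin n) F) :
    finrank F (eig x (1 : F)) = ∑ j : Fin (n + n), ((j : ℕ) + 1) * rootMultiplicity 1 (divs x j) := by
  classical
  have hk := card_eq_kerCard x (1 : F) (n + n)
  rw [kerCard_eq _ (irreducible_X_sub_C _) (monic_X_sub_C _), natDegree_X_sub_C, one_mul] at hk
  have he : Nat.card {v : eig x (1 : F) // (shiftT (ClassesSp.linE x 1) 1 ^ (n + n)) v = 0} =
      Nat.card (eig x (1 : F)) :=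
    Nat.card_congr (Equiv.subtypeUnivEquiv fun v => by rw [ClassesSp.eig_nil]; rfl)
  rw [he, Module.natCard_eq_pow_finrank (K := F), Nat.card_eq_fintype_card] at hk
  rw [← Nat.pow_right_injective Fintype.one_lt_card hk]
  simp only [mult_eq_count]
  obtain ⟨hkey, hsum, -⟩ := keyOf_spec (toGL n F x)
  rw [← Finset.sum_fiberwise Finset.univ
    (fun i => (⟨(keyOf (toGL n F x) i).1 - 1, by have := exp_le hkey hsum i; have := (hkey i).1; omega⟩ : Fin (n + n)))]
  refine Finset.sum_congr rfl fun j _ => ?_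
  rw [← Finset.sum_filter, Finset.filter_filter, Fintype.card_subtype, mul_comm,
    ← smul_eq_mul, ← Finset.sum_const]
  refine Finset.sum_congr (Finset.filter_congr fun i _ => ?_) fun i hi => ?_
  · have := (hkey i).1
    rw [Prod.ext_iff, Fin.ext_iff]
    simp only
    constructor <;> rintro ⟨h1, h2⟩ <;> exact ⟨by omega, h2⟩
  · simp only [Finset.mem_filter] at hi
    have := (hkey i).1
    rw [min_eq_right (exp_le hkey hsum i), hi.2]

/-! ### Conjugacy -/

theorem isConj_of_eq {ω : F} {x y : Matrix.symplecticGroup (Fin n) F} {L : List Atom}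
    (hx : (udata x).Frame ω (eig x (1 : F)) L) (hy : (udata y).Frame ω (eig y (1 : F)) L)
    {gx gy : Fin (n + n) → F[X]} (hgx : ∀ j, divs x j = (X - C 1) ^ rootMultiplicity 1 (divs x j) * gx j)
    (hgy : ∀ j, divs y j = (X - C 1) ^ rootMultiplicity 1 (divs y j) * gy j) (hg : gx = gy) : IsConj x y := by
  classical
  have hnd : ∀ z : Matrix.symplecticGroup (Fin n) F, (udata z).NonDeg (eig z (1 : F)) := fun z v hv h =>
    congrArg Subtype.val ((eig_symp z (one_mul 1)).nondeg ⟨v, hv⟩ fun y => h _ y.2)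
  obtain ⟨φ, hφN, hφB⟩ := hx.exists_equiv hy (hnd x) (hnd y)
  have hNmem : ∀ (z : Matrix.symplecticGroup (Fin n) F) (v : eig z (1 : F)), (udata z).N v.1 ∈ eig z (1 : F) :=
    fun z v => by
      rw [mem_eig_iff, ← Module.End.mul_apply, ← pow_succ, pow_succ', Module.End.mul_apply,
        (mem_eig_iff z v.1).1 v.2, map_zero]
  -- the same multiplicities of the root one
  have hker : ∀ k, kerCard (toGL n F x) (X - C (1 : F)) k = kerCard (toGL n F y) (X - C (1 : F)) k := by
    intro k
    rw [card_eq_kerCard x 1 k, card_eq_kerCard y 1 k]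
    have hpow : ∀ (k : ℕ) (v : eig x (1 : F)) (hv : ((udata x).N ^ k) v.1 ∈ eig x (1 : F)),
        (φ ⟨_, hv⟩).1 = ((udata y).N ^ k) (φ v).1 := by
      intro k
      induction k with
      | zero => intro v hv; rfl
      | succ k ih =>
        intro v hv
        have hv' : ((udata x).N ^ k) v.1 ∈ eig x (1 : F) := by
          clear ih hv
          induction k with
          | zero => exact v.2
          | succ k ih => rw [pow_succ', Module.End.mul_apply]; exact hNmem x ⟨_, ih⟩
        have := hφN ⟨_, hv'⟩ (hNmem x ⟨_, hv'⟩)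
        rw [ih v hv'] at this
        conv_rhs => rw [pow_succ', Module.End.mul_apply, ← this]
        exact congrArg (fun w => (φ w).1) (Subtype.ext (LinearMap.congr_fun (pow_succ' (udata x).N k) v.1))
    refine Nat.card_congr (φ.toEquiv.subtypeEquiv fun v => ?_)
    have e : ∀ (z : Matrix.symplecticGroup (Fin n) F) (v : eig z (1 : F)),
        (shiftT (ClassesSp.linE z 1) 1 ^ k) v = 0 ↔ ((udata z).N ^ k) v.1 = 0 := fun z v => by
      rw [Subtype.ext_iff, ClassesSp.coe_linE_pow, udata_N]; rfl
    have hv : ((udata x).N ^ k) v.1 ∈ eig x (1 : F) := by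
      rw [mem_eig_iff, ← Module.End.mul_apply, ← pow_add, add_comm, pow_add, Module.End.mul_apply,
        (mem_eig_iff x v.1).1 v.2, map_zero]
    rw [e, e, show (φ.toEquiv v) = φ v from rfl, ← hpow k v hv]
    constructor
    · intro h0
      have : (⟨_, hv⟩ : eig x (1 : F)) = 0 := Subtype.ext h0
      rw [this, map_zero]; rfl
    · intro h0
      exact congrArg Subtype.val (φ.injective ((Subtype.ext h0).trans (map_zero φ).symm) :
        (⟨_, hv⟩ : eig x (1 : F)) = 0)
  have ht : invT (toGL n F x) = invT (toGL n F y) := Subtype.ext (funext fun j => by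
    show divs x j = divs y j
    rw [hgx j, hgy j, hg, mult_eq_count, mult_eq_count,
      card_fibre_eq_of_kerCard (irreducible_X_sub_C _) (monic_X_sub_C _) (irreducible_X_sub_C _) (monic_X_sub_C _)
        rfl hker _ (by omega)])
  obtain ⟨c, hc⟩ := isConj_iff.1 (invT_eq_iff.1 ht)
  let ι : (Fin n ⊕ Fin n → F) ≃ₗ[F] (Fin (n + n) → F) := LinearEquiv.funCongrLeft F F finSumFinEquiv.symm
  let cL : (Fin (n + n) → F) ≃ₗ[F] (Fin (n + n) → F) :=
    LinearMap.GeneralLinearGroup.generalLinearEquiv F _ (Matrix.GeneralLinearGroup.toLin c)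
  let g : (Fin n ⊕ Fin n → F) ≃ₗ[F] (Fin n ⊕ Fin n → F) := ι.trans (cL.trans ι.symm)
  have hgT : ∀ v, g (lin x v) = lin y (g v) := by
    intro v
    apply ι.injective
    show ι (ι.symm (cL (ι (lin x v)))) = ι (lin y (ι.symm (cL (ι v))))
    rw [ι.apply_symm_apply, lin, lin, JordanType.reindex_intertwine, JordanType.reindex_intertwine,
      ι.apply_symm_apply, ← ClassesSp.coe_toGL, ← ClassesSp.coe_toGL, ← hc]
    show Matrix.toLin' (c : Matrix (Fin (n + n)) (Fin (n + n)) F) (Matrix.toLin' _ _) =
      Matrix.toLin' _ (Matrix.toLin' (c : Matrix (Fin (n + n)) (Fin (n + n)) F) _)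
    simp only [Matrix.toLin'_apply, Matrix.mulVec_mulVec, ← Units.val_mul, inv_mul_cancel_right]
    rfl
  have hgN : ∀ v, g ((udata x).N v) = (udata y).N (g v) := fun v => by
    rw [UData.N_apply, UData.N_apply, map_add]
    exact congrArg (· + g v) (hgT v)
  have hgNk : ∀ (k : ℕ) v, g (((udata x).N ^ k) v) = ((udata y).N ^ k) (g v) := fun k => by
    induction k with
    | zero => intro v; rfl
    | succ k ih => intro v; rw [pow_succ', pow_succ', Module.End.mul_apply, Module.End.mul_apply, hgN, ih]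
  have hstd := Symplectic.isSympForm_stdForm n F
  let B' := (stdForm n F).compl₁₂ (g : (Fin n ⊕ Fin n → F) →ₗ[F] _) (g : (Fin n ⊕ Fin n → F) →ₗ[F] _)
  have hB' : ∀ u v, B' u v = stdForm n F (g u) (g v) := fun u v => rfl
  have hB's : IsSympForm B' := ⟨fun u => hstd.self _, fun u hu => g.injective (by
    rw [map_zero]
    exact hstd.nondeg _ fun v => by
      obtain ⟨w, rfl⟩ := g.surjective v
      exact hu w)⟩
  have hT' : ∀ u v, B' (lin x u) (lin x v) = B' u v := fun u v => by
    rw [hB', hB', hgT, hgT, lin_isometry]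
  haveI : Finite (Matrix.symplecticGroup (Fin n) F) := Finite.of_injective (fun z => z.1) Subtype.val_injective
  -- glue the isometry on the eigenspace and the regular part
  have hK : Good ((lin x).restrict (p := eig x (1 : F)) (q := eig x 1) fun _ h => shiftT_pow_mem h)
      (restr (stdForm n F) (eig x (1 : F))) (restr B' (eig x (1 : F))) := by
    have hmem : ∀ w : eig y (1 : F), g.symm w.1 ∈ eig x (1 : F) := fun w => by
      rw [mem_eig_iff]
      exact g.injective (by rw [hgNk, g.apply_symm_apply, map_zero]; exact (mem_eig_iff y w.1).1 w.2)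
    let ψ : eig y (1 : F) ≃ₗ[F] eig x (1 : F) :=
      { toFun := fun w => ⟨g.symm w.1, hmem w⟩
        map_add' := fun v w => Subtype.ext (map_add g.symm _ _)
        map_smul' := fun a v => Subtype.ext (map_smul g.symm _ _)
        invFun := fun v => ⟨g v.1, by rw [mem_eig_iff, ← hgNk, (mem_eig_iff x v.1).1 v.2, map_zero]⟩
        left_inv := fun v => Subtype.ext (g.apply_symm_apply _)
        right_inv := fun v => Subtype.ext (g.symm_apply_apply _) }
    refine ⟨φ.trans ψ, fun v => Subtype.ext (g.injective ?_), fun u v => ?_⟩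
    · show g (g.symm (φ ⟨lin x v.1, _⟩).1) = g (lin x (g.symm (φ v).1))
      rw [g.apply_symm_apply, hgT, g.apply_symm_apply]
      have e := hφN v (hNmem x v)
      have e2 : (⟨lin x v.1, shiftT_pow_mem v.2⟩ : eig x (1 : F)) = ⟨(udata x).N v.1, hNmem x v⟩ + v :=
        Subtype.ext ((udata x).T_apply v.1)
      rw [e2, map_add]
      show (φ ⟨_, _⟩).1 + (φ v).1 = _
      rw [e]
      exact ((udata y).T_apply _).symm
    · show B' (g.symm (φ u).1) (g.symm (φ v).1) = _
      rw [hB', g.apply_symm_apply, g.apply_symm_apply]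
      exact hφB u v
  obtain ⟨e, he, hiso⟩ : Good (lin x) (stdForm n F) B' := by
    have hc' : IsCompl (eig x (1 : F)) (LinearMap.range (shiftT (lin x) (1 : F) ^ (n + n))) :=
      isCompl_ker_range finrank_space.le _
    have hperp : ∀ {B₀ : (Fin n ⊕ Fin n → F) →ₗ[F] (Fin n ⊕ Fin n → F) →ₗ[F] F},
        (∀ u v, B₀ (lin x u) (lin x v) = B₀ u v) → ∀ u ∈ eig x (1 : F),
          ∀ v ∈ LinearMap.range (shiftT (lin x) (1 : F) ^ (n + n)), B₀ u v = 0 := by
      rintro B₀ h u hu _ ⟨z, rfl⟩
      exact perp_ker_range (lin_bijective x) h (one_mul 1) _ u z hu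
    refine GLFlags.SympConj.good_glue hstd hB's hc' (fun _ h => shiftT_pow_mem h)
      (fun _ h => shiftT_pow_mem_range h) (hperp (lin_isometry x)) (hperp hT') hK ?_
    refine GLFlags.SympConj.good_of_regular
      (GLFlags.SympConj.restr_nondeg hstd hc'.symm fun u hu v hv =>
        hstd.comm_eq_zero.1 (hperp (lin_isometry x) v hv u hu))
      (GLFlags.SympConj.restr_nondeg hB's hc'.symm fun u hu v hv => hB's.comm_eq_zero.1 (hperp hT' v hv u hu))
      (orderOf_pos x).ne' ?_ (fun u v => lin_isometry x _ _) (fun u v => hT' _ _) fun z hz => ?_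
    · rw [Module.End.pow_restrict]
      refine LinearMap.ext fun z => Subtype.ext ?_
      show (lin x ^ orderOf x) z.1 = z.1
      rw [← lin_pow, pow_orderOf_eq_one, lin, OneMemClass.coe_one, Matrix.toLin'_one]; rfl
    · have hTT : lin x (lin x z.1) = z.1 := congrArg Subtype.val hz
      have h2 : ((udata x).N ^ 2) z.1 = 0 := by
        rw [pow_two, Module.End.mul_apply, UData.N_apply, UData.N_apply, map_add]
        show lin x (lin x z.1) + lin x z.1 + (lin x z.1 + z.1) = 0
        rw [hTT, add_comm (lin x z.1) z.1, addV_self F]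
      refine Subtype.ext (Submodule.disjoint_def.1 hc'.disjoint _ ?_ z.2)
      rcases Nat.eq_zero_or_pos n with hn | hn
      · have : z.1 = 0 := funext fun i => by rcases i with i | i <;> exact absurd i.2 (by omega)
        rw [this]; exact zero_mem _
      · rw [mem_eig_iff]
        exact (udata x).kill_le h2 (by omega)
  let H := e.trans g
  have hH : ∀ u v, stdForm n F (H u) (H v) = stdForm n F u v := fun u v => hiso u v
  let z : Matrix.symplecticGroup (Fin n) F := (Symplectic.spEquiv n F).symm ⟨H, hH⟩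
  have hz : ∀ v, lin z v = H v := fun v => by
    show Matrix.toLin' (LinearMap.toMatrix' H.toLinearMap) v = H v
    rw [Matrix.toLin'_toMatrix']; rfl
  refine isConj_iff.2 ⟨z, mul_inv_eq_of_eq_mul (Subtype.ext (Matrix.toLin'.injective ?_))⟩
  refine LinearMap.ext fun v => ?_
  rw [Submonoid.coe_mul, Submonoid.coe_mul, Matrix.toLin'_mul, Matrix.toLin'_mul, LinearMap.comp_apply,
    LinearMap.comp_apply]
  show lin z (lin x v) = lin y (lin z v)
  rw [hz, hz]
  show g (e (lin x v)) = lin y (g (e v))
  rw [he, hgT]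

/-! ### The count -/

theorem card_T_le (N m : ℕ) (hN : 1 ≤ N) :
    Nat.card (ClassesGLBound.T F N m) ≤ Fintype.card F ^ m := by
  refine (card_T F N m).2.trans ?_
  rcases Nat.eq_zero_or_pos m with rfl | hm
  · rw [kk_zero_right]; simp
  · have h := kk_le (q := Fintype.card F) Fintype.one_lt_card N hN m hm
    have : (kk (Fintype.card F) N m : ℝ) ≤ ((Fintype.card F ^ m : ℕ) : ℝ) := by
      refine h.trans ?_
      push_cast
      exact mul_le_of_le_one_right (by positivity) (sub_le_self _ (by positivity))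
    exact_mod_cast this

theorem card_conjClasses_le (hn : 1 ≤ n) :
    5 * Nat.card (ConjClasses (Matrix.symplecticGroup (Fin n) F)) ≤ 76 * Fintype.card F ^ n := by
  classical
  obtain ⟨ω, -, hω⟩ := exists_omega (F := F)
  choose L hL hgood hlow hbd hwt hle using fun x : Matrix.symplecticGroup (Fin n) F => exists_udata_frame hω x
  choose g1 hg1 hsd hev hdeg using fun (x : Matrix.symplecticGroup (Fin n) F) j => exists_split (divs_sd x j)
  let S : Finset (List St) := ((Codes n true n true) ∪ (Codes n true n false)).filter fun c => codeWt c ≤ n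
  have hmem : ∀ x, code (L x) n ∈ S := fun x => by
    refine Finset.mem_filter.2 ⟨Finset.mem_union.2 ?_, hle x⟩
    have h := code_mem (hgood x) (s0 := true) (fun _ => (hlow x)) (n := n) n (hle x)
    rcases Bool.eq_false_or_eq_true (codeTop true (code (L x) n)) with hb | hb <;> rw [hb] at h
    · exact Or.inl h
    · exact Or.inr h
  have hTw : ∀ x, ∑ j : Fin (n + n), ((j : ℕ) + 1) * (half (g1 x j)).natDegree = n - codeWt (code (L x) n) := by
    intro x
    have hsum := (invT (toGL n F x)).2.2
    have e : ∀ j : Fin (n + n), ((j : ℕ) + 1) * (divs x j).natDegree =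
        ((j : ℕ) + 1) * rootMultiplicity 1 (divs x j) + 2 * (((j : ℕ) + 1) * (half (g1 x j)).natDegree) := by
      intro j
      obtain ⟨⟨m, hm⟩, -, hd, -⟩ := half_spec (hsd x j) (hev x j)
      rw [hdeg x j, hd, hm, show (m + m) / 2 = m by omega]
      ring
    rw [Finset.sum_congr rfl fun j _ => e j, Finset.sum_add_distrib, ← finrank_eig_eq, ← Finset.mul_sum,
      ← hwt x] at hsum
    omega
  let f : ConjClasses (Matrix.symplecticGroup (Fin n) F) →
      Σ c : S, ClassesGLBound.T F (n + n) (n - codeWt c.1) := fun C =>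
    ⟨⟨_, hmem (Quotient.out C)⟩, fun j => half (g1 (Quotient.out C) j),
      fun j => ⟨(half_spec (hsd _ j) (hev _ j)).2.1, (half_spec (hsd _ j) (hev _ j)).2.2.2⟩, hTw _⟩
  have hf : Function.Injective f := by
    intro C C' h
    have h' := congrArg (fun s : Σ c : S, ClassesGLBound.T F (n + n) (n - codeWt c.1) =>
      ((s.1.1, s.2.1) : List St × (Fin (n + n) → F[X]))) h
    simp only [f, Prod.mk.injEq] at h'
    rw [← Quotient.out_eq C, ← Quotient.out_eq C']
    refine Quotient.sound (isConj_of_eq (hL _) ?_ (hg1 _) (hg1 _) (funext fun j =>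
      half_inj (hsd _ j) (hsd _ j) (hev _ j) (hev _ j) (congrFun h'.2 j)))
    rw [(hgood _).eq_of_code (hgood _) (hbd _) (hbd _) h'.1]
    exact hL _
  haveI : ∀ c : S, Finite (ClassesGLBound.T F (n + n) (n - codeWt c.1)) := fun c => (card_T F _ _).1
  have h1 := Nat.card_le_card_of_injective f hf
  rw [Nat.card_sigma] at h1
  have h2 : Nat.card (ConjClasses (Matrix.symplecticGroup (Fin n) F)) ≤
      ∑ c ∈ S, Fintype.card F ^ (n - codeWt c) := by
    refine h1.trans ?_
    rw [← Finset.sum_coe_sort S]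
    exact Finset.sum_le_sum fun c _ => card_T_le _ _ (by omega)
  have hq : (2 : ℚ) ≤ Fintype.card F := by exact_mod_cast (Fintype.one_lt_card : 1 < Fintype.card F)
  have h3 : ((∑ c ∈ S, Fintype.card F ^ (n - codeWt c) : ℕ) : ℚ) ≤ (Fintype.card F : ℚ) ^ n * (76 / 5) := by
    push_cast
    calc _ ≤ ∑ c ∈ S, (Fintype.card F : ℚ) ^ n * (1 / 2 : ℚ) ^ codeWt c := by
          refine Finset.sum_le_sum fun c hc => ?_
          obtain ⟨d, hd⟩ := Nat.exists_eq_add_of_le (Finset.mem_filter.1 hc).2
          rw [hd, Nat.add_sub_cancel_left, pow_add, mul_comm ((Fintype.card F : ℚ) ^ codeWt c), mul_assoc, ← mul_pow]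
          refine le_mul_of_one_le_right (by positivity) (one_le_pow₀ ?_)
          linarith
      _ ≤ _ := by
          rw [← Finset.mul_sum]
          refine mul_le_mul_of_nonneg_left ?_ (by positivity)
          refine le_trans ?_ (wsum_le n n)
          refine (Finset.sum_le_sum_of_subset_of_nonneg (Finset.filter_subset _ _) fun _ _ _ => by positivity).trans
            (sum_union_le _ _ _ fun c => by positivity)
  have h4 : (Nat.card (ConjClasses (Matrix.symplecticGroup (Fin n) F)) : ℚ) ≤
      ((∑ c ∈ S, Fintype.card F ^ (n - codeWt c) : ℕ) : ℚ) := by exact_mod_cast h2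
  have h5 : ((5 * Nat.card (ConjClasses (Matrix.symplecticGroup (Fin n) F)) : ℕ) : ℚ) ≤
      ((76 * Fintype.card F ^ n : ℕ) : ℚ) := by push_cast; linarith
  exact_mod_cast h5

end Cfsg.Agent.Lib.ClassesSpTwo46
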