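import Cfsg.Agent.Lib.ClassesSpTwo46.Series

/-!
Codes for orthogonal groups: the parity of the signs, the flip of a free sign, and the bound
`∑ 2^(-weight) + ∑_{no free sign} 2^(-weight) ≤ 30`.

Owner: helper46.
-/

set_option autoImplicit false
set_option linter.unusedSectionVars false

namespace Cfsg.Agent.Lib.ClassesSpTwo46

/-- The number of signs at a level. -/
def St.om (s : St) : ℕ := (if s.sg then 1 else 0) + if s.cw then 1 else 0

/-- The number of signs of a code. -/
def codeOm : List St → ℕ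
  | [] => 0
  | s :: l => s.om + codeOm l

/-- A level with a sign free to change. -/
def free (bp : Bool) (s : St) : Bool := !bp && (decide (0 < s.po) || s.hasC)

/-- Change the sign of a level. -/
def flipSt (s : St) : St :=
  if 0 < s.po then { s with sg := !s.sg }
  else if s.cw then { s with c0 := s.c0 + 1, cw := false } else { s with c0 := s.c0 - 1, cw := true }

/-- Whether some level is free. -/
def hasFree : List St → Bool
  | [] => false
  | s :: l => free (codeTop false l) s || hasFree l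

/-- Change the lowest free sign. -/
def flipCode : List St → List St
  | [] => []
  | s :: l => if hasFree l then s :: flipCode l else flipSt s :: l

theorem steps_cases {n : ℕ} {bp b : Bool} {s : St} (h : s ∈ steps n bp b) :
    s.hasC = b ∧ ((∃ pe, pe ≤ n ∧ ∃ c ∈ cyc0 bp b, s = ⟨0, pe, c.1, false, c.2⟩) ∨
      ∃ pe i, pe ≤ n ∧ i < n ∧ ∃ g ∈ signs bp, ∃ c ∈ cyc1 b, s = ⟨i + 1, pe, c, g, false⟩) := by
  simp only [steps, Finset.mem_union, Finset.mem_image, Finset.mem_product, Finset.mem_range] at h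
  rcases h with ⟨⟨pe, c⟩, ⟨hpe, hc⟩, rfl⟩ | ⟨⟨pe, i, g, c⟩, ⟨hpe, hi, hg, hc⟩, rfl⟩
  · refine ⟨?_, Or.inl ⟨pe, by omega, c, hc, rfl⟩⟩
    cases bp <;> cases b <;> fin_cases hc <;> rfl
  · refine ⟨?_, Or.inr ⟨pe, i, by omega, hi, g, hg, c, hc, rfl⟩⟩
    cases b <;> fin_cases hc <;> rfl

theorem steps_mk0 {n pe : ℕ} {bp b : Bool} {c : ℕ × Bool} (h : pe ≤ n) (hc : c ∈ cyc0 bp b) :
    (⟨0, pe, c.1, false, c.2⟩ : St) ∈ steps n bp b := by
  simp only [steps, Finset.mem_union, Finset.mem_image, Finset.mem_product, Finset.mem_range]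
  exact Or.inl ⟨(pe, c), ⟨by omega, hc⟩, rfl⟩

theorem steps_mk1 {n pe i : ℕ} {bp b g : Bool} {c : ℕ} (h : pe ≤ n) (hi : i < n) (hg : g ∈ signs bp)
    (hc : c ∈ cyc1 b) : (⟨i + 1, pe, c, g, false⟩ : St) ∈ steps n bp b := by
  simp only [steps, Finset.mem_union, Finset.mem_image, Finset.mem_product, Finset.mem_range]
  exact Or.inr ⟨(pe, i, g, c), ⟨by omega, hi, hg, hc⟩, rfl⟩

theorem flipSt_spec {n k : ℕ} {bp b : Bool} {s : St} (h : s ∈ steps n bp b) (hf : free bp s = true) :
    flipSt s ∈ steps n bp b ∧ flipSt (flipSt s) = s ∧ (flipSt s).wt k = s.wt k ∧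
      free bp (flipSt s) = true ∧ (s.om + (flipSt s).om) % 2 = 1 := by
  obtain ⟨hC, hs⟩ := steps_cases h
  simp only [free, Bool.and_eq_true, Bool.not_eq_true'] at hf
  obtain ⟨rfl, hf⟩ := hf
  rcases hs with ⟨pe, hpe, ⟨c0, cw⟩, hc, rfl⟩ | ⟨pe, i, hpe, hi, g, hg, c, hc, rfl⟩
  · simp only [lt_irrefl, decide_false, Bool.false_or] at hf
    rw [hf] at hC; subst hC
    simp only [cyc0, Finset.mem_insert, Finset.mem_singleton, Prod.mk.injEq] at hc
    rcases hc with ⟨rfl, rfl⟩ | ⟨rfl, rfl⟩ | ⟨rfl, rfl⟩ | ⟨rfl, rfl⟩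
    · exact ⟨steps_mk0 (c := (0, true)) hpe (by simp [cyc0]), by simp [flipSt], by simp [flipSt, St.wt],
        by simp [free, flipSt, St.hasC], by simp [flipSt, St.om]⟩
    · exact ⟨steps_mk0 (c := (1, true)) hpe (by simp [cyc0]), by simp [flipSt], by simp [flipSt, St.wt],
        by simp [free, flipSt, St.hasC], by simp [flipSt, St.om]⟩
    · exact ⟨steps_mk0 (c := (1, false)) hpe (by simp [cyc0]), by simp [flipSt], by simp [flipSt, St.wt],
        by simp [free, flipSt, St.hasC], by simp [flipSt, St.om]⟩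
    · exact ⟨steps_mk0 (c := (2, false)) hpe (by simp [cyc0]), by simp [flipSt], by simp [flipSt, St.wt],
        by simp [free, flipSt, St.hasC], by simp [flipSt, St.om]⟩
  · have e : flipSt ⟨i + 1, pe, c, g, false⟩ = ⟨i + 1, pe, c, !g, false⟩ := by simp [flipSt]
    rw [e]
    refine ⟨steps_mk1 hpe hi ?_ hc, by simp [flipSt], rfl, by simp [free], ?_⟩
    · cases g <;> simp [signs]
    · cases g <;> simp [St.om]

theorem codeTop_mem {n : ℕ} {s0 : Bool} : ∀ {K : ℕ} {b : Bool} {c : List St},
    c ∈ Codes n s0 K b → codeTop s0 c = b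
  | 0, b, c, h => by
    by_cases hb : b = s0 <;> simp [Codes, hb] at h
    simp [h, codeTop, hb]
  | K + 1, b, c, h => by
    simp only [Codes, Finset.mem_union, Finset.mem_image, Finset.mem_product] at h
    rcases h with ⟨p, ⟨hp, -⟩, rfl⟩ | ⟨p, ⟨hp, -⟩, rfl⟩ <;> exact (steps_cases hp).1

theorem codes_cons {n : ℕ} {s0 : Bool} {K : ℕ} {b : Bool} {c : List St} :
    c ∈ Codes n s0 (K + 1) b ↔ ∃ bp s l, c = s :: l ∧ s ∈ steps n bp b ∧ l ∈ Codes n s0 K bp := by
  simp only [Codes, Finset.mem_union, Finset.mem_image, Finset.mem_product]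
  constructor
  · rintro (⟨p, ⟨h1, h2⟩, rfl⟩ | ⟨p, ⟨h1, h2⟩, rfl⟩) <;> exact ⟨_, _, _, rfl, h1, h2⟩
  · rintro ⟨bp, s, l, rfl, h1, h2⟩
    cases bp
    · exact Or.inr ⟨(s, l), ⟨h1, h2⟩, rfl⟩
    · exact Or.inl ⟨(s, l), ⟨h1, h2⟩, rfl⟩

theorem flipCode_spec {n : ℕ} : ∀ {K : ℕ} {b : Bool} {c : List St}, c ∈ Codes n false K b → hasFree c = true →
    flipCode c ∈ Codes n false K b ∧ flipCode (flipCode c) = c ∧ codeWt (flipCode c) = codeWt c ∧
      hasFree (flipCode c) = true ∧ (codeOm c + codeOm (flipCode c)) % 2 = 1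
  | 0, b, c, h, hf => by
    by_cases hb : b = false <;> simp [Codes, hb] at h
    simp [h, hasFree] at hf
  | K + 1, b, c, h, hf => by
    obtain ⟨bp, s, l, rfl, hs, hl⟩ := codes_cons.1 h
    by_cases hfl : hasFree l = true
    · obtain ⟨i1, i2, i3, i4, i5⟩ := flipCode_spec hl hfl
      have hlen : (flipCode l).length = l.length := by rw [length_of_mem i1, length_of_mem hl]
      simp only [flipCode, hfl, if_true]
      refine ⟨codes_cons.2 ⟨bp, s, _, rfl, hs, i1⟩, ?_, ?_, ?_, ?_⟩
      · simp [flipCode, i4, i2]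
      · simp only [codeWt, hlen, i3]
      · simp [hasFree, i4]
      · simp only [codeOm]; omega
    · have hfl' : hasFree l = false := by simpa using hfl
      have hfs : free bp s = true := by
        simpa [hasFree, hfl', codeTop_mem hl] using hf
      obtain ⟨j1, j2, j3, j4, j5⟩ := flipSt_spec (k := l.length + 1) hs hfs
      simp only [flipCode, hfl', Bool.false_eq_true, if_false]
      refine ⟨codes_cons.2 ⟨bp, _, l, rfl, j1, hl⟩, ?_, ?_, ?_, ?_⟩
      · simp [flipCode, hfl', j2]
      · simp only [codeWt, j3]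
      · simp [hasFree, codeTop_mem hl, j4]
      · simp only [codeOm]; omega

/-- The codes without a free sign. -/
def ZCodes (n : ℕ) : ℕ → Finset (List St)
  | 0 => {[]}
  | K + 1 => (Finset.range (n + 1) ×ˢ ZCodes n K).image fun p => ⟨0, p.1, 0, false, false⟩ :: p.2

theorem mem_ZCodes {n : ℕ} : ∀ {K : ℕ} {b : Bool} {c : List St}, c ∈ Codes n false K b → hasFree c = false →
    b = false ∧ c ∈ ZCodes n K
  | 0, b, c, h, _ => by
    by_cases hb : b = false <;> simp [Codes, hb] at h
    simp [h, ZCodes, hb]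
  | K + 1, b, c, h, hf => by
    obtain ⟨bp, s, l, rfl, hs, hl⟩ := codes_cons.1 h
    simp only [hasFree, Bool.or_eq_false_iff, codeTop_mem hl] at hf
    obtain ⟨rfl, hz⟩ := mem_ZCodes hl hf.2
    obtain ⟨hC, hs'⟩ := steps_cases hs
    simp only [free, Bool.not_false, Bool.true_and, Bool.or_eq_false_iff, decide_eq_false_iff_not] at hf
    rw [hf.1.2] at hC; subst hC
    rcases hs' with ⟨pe, hpe, c, hc, rfl⟩ | ⟨pe, i, -, -, g, -, c, -, rfl⟩
    · simp only [cyc0, Finset.mem_singleton] at hc
      subst hc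
      exact ⟨rfl, Finset.mem_image.2 ⟨(pe, l), Finset.mem_product.2 ⟨Finset.mem_range.2 (by omega), hz⟩, rfl⟩⟩
    · simp at hf

theorem length_ZCodes {n : ℕ} : ∀ {K : ℕ} {c : List St}, c ∈ ZCodes n K → c.length = K
  | 0, c, h => by simp [ZCodes] at h; simp [h]
  | K + 1, c, h => by
    simp only [ZCodes, Finset.mem_image, Finset.mem_product] at h
    obtain ⟨p, ⟨-, hp⟩, rfl⟩ := h
    rw [List.length_cons, length_ZCodes hp]

theorem zsum_le (n : ℕ) : ∀ K, (∑ c ∈ ZCodes n K, (1 / 2 : ℚ) ^ codeWt c) * (1 + (1 / 4 : ℚ) ^ K) ≤ 2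
  | 0 => by simp [ZCodes, codeWt]; norm_num
  | K + 1 => by
    have h0 : ∀ c : List St, (0 : ℚ) ≤ (1 / 2 : ℚ) ^ codeWt c := fun c => by positivity
    set S := ∑ c ∈ ZCodes n K, (1 / 2 : ℚ) ^ codeWt c with hS
    have hS0 : 0 ≤ S := Finset.sum_nonneg fun c _ => h0 c
    set s := (1 / 2 : ℚ) ^ (2 * (K + 1)) with hs
    have h1 : ∑ c ∈ ZCodes n (K + 1), (1 / 2 : ℚ) ^ codeWt c ≤ 1 / (1 - s) * S := by
      rw [ZCodes]
      refine (sum_image_le' _ _ _ h0).trans ?_
      have e : ∀ p ∈ Finset.range (n + 1) ×ˢ ZCodes n K,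
          (1 / 2 : ℚ) ^ codeWt ((⟨0, p.1, 0, false, false⟩ : St) :: p.2) = s ^ p.1 * (1 / 2 : ℚ) ^ codeWt p.2 := by
        intro p hp
        rw [codeWt, length_ZCodes (Finset.mem_product.1 hp).2, pow_add, hs, ← pow_mul]
        simp [St.wt]
      rw [Finset.sum_congr rfl e, Finset.sum_product]
      simp only [← Finset.mul_sum, ← Finset.sum_mul]
      exact mul_le_mul_of_nonneg_right (geom_half_le (by omega) (n + 1)) hS0
    have hs4 : (1 / 4 : ℚ) ^ (K + 1) = s := by rw [hs, pow_mul]; norm_num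
    have hs4' : (1 / 4 : ℚ) ^ K = 4 * s := by rw [← hs4, pow_succ]; ring
    have hsle : s ≤ 1 / 4 := by
      rw [← hs4]; exact pow_le_of_le_one (by norm_num) (by norm_num) (by omega)
    have hs0 : 0 ≤ s := by positivity
    have ih := zsum_le n K
    rw [← hS, hs4'] at ih
    rw [hs4]
    calc _ ≤ 1 / (1 - s) * S * (1 + s) := mul_le_mul_of_nonneg_right h1 (by linarith)
      _ ≤ S * (1 + 4 * s) := by
          rw [div_mul_eq_mul_div, one_mul, div_mul_eq_mul_div, div_le_iff₀ (by linarith), mul_assoc]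
          exact mul_le_mul_of_nonneg_left (by nlinarith) hS0
      _ ≤ 2 := ih

theorem otot_small (n : ℕ) : ∀ K, K ≤ 14 →
    wsum n false K true + wsum n false K false ≤ 255242 / 10000 := by
  intro K hK
  have h0 : Bd n false 0 0 1 := ⟨by simp [wsum, Codes], by simp [wsum, Codes, codeWt]⟩
  have h1 : Bd n false 1 (4 / 1) (4 / 1) := Bd.step h0 (by norm_num [fac]) (by norm_num [fac])
  have h2 : Bd n false 2 (4571429 / 1000000) (2072381 / 200000) := Bd.step h1 (by norm_num [fac]) (by norm_num [fac])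
  have h3 : Bd n false 3 (1865087 / 500000) (15999299 / 1000000) := Bd.step h2 (by norm_num [fac]) (by norm_num [fac])
  have h4 : Bd n false 4 (1200337 / 500000) (5022319 / 250000) := Bd.step h3 (by norm_num [fac]) (by norm_num [fac])
  have h5 : Bd n false 5 (344053 / 250000) (11297671 / 500000) := Bd.step h4 (by norm_num [fac]) (by norm_num [fac])
  have h6 : Bd n false 6 (739519 / 1000000) (24000163 / 1000000) := Bd.step h5 (by norm_num [fac]) (by norm_num [fac])
  have h7 : Bd n false 7 (191913 / 500000) (24747143 / 1000000) := Bd.step h6 (by norm_num [fac]) (by norm_num [fac])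
  have h8 : Bd n false 8 (195607 / 1000000) (201063 / 8000) := Bd.step h7 (by norm_num [fac]) (by norm_num [fac])
  have h9 : Bd n false 9 (98751 / 1000000) (6332241 / 250000) := Bd.step h8 (by norm_num [fac]) (by norm_num [fac])
  have h10 : Bd n false 10 (3101 / 62500) (25427837 / 1000000) := Bd.step h9 (by norm_num [fac]) (by norm_num [fac])
  have h11 : Bd n false 11 (24869 / 1000000) (6369371 / 250000) := Bd.step h10 (by norm_num [fac]) (by norm_num [fac])
  have h12 : Bd n false 12 (249 / 20000) (25502361 / 1000000) := Bd.step h11 (by norm_num [fac]) (by norm_num [fac])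
  have h13 : Bd n false 13 (6229 / 1000000) (25514813 / 1000000) := Bd.step h12 (by norm_num [fac]) (by norm_num [fac])
  have h14 : Bd n false 14 (779 / 250000) (25521043 / 1000000) := Bd.step h13 (by norm_num [fac]) (by norm_num [fac])
  interval_cases K
  · exact (add_le_add h0.1 h0.2).trans (by norm_num)
  · exact (add_le_add h1.1 h1.2).trans (by norm_num)
  · exact (add_le_add h2.1 h2.2).trans (by norm_num)
  · exact (add_le_add h3.1 h3.2).trans (by norm_num)
  · exact (add_le_add h4.1 h4.2).trans (by norm_num)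
  · exact (add_le_add h5.1 h5.2).trans (by norm_num)
  · exact (add_le_add h6.1 h6.2).trans (by norm_num)
  · exact (add_le_add h7.1 h7.2).trans (by norm_num)
  · exact (add_le_add h8.1 h8.2).trans (by norm_num)
  · exact (add_le_add h9.1 h9.2).trans (by norm_num)
  · exact (add_le_add h10.1 h10.2).trans (by norm_num)
  · exact (add_le_add h11.1 h11.2).trans (by norm_num)
  · exact (add_le_add h12.1 h12.2).trans (by norm_num)
  · exact (add_le_add h13.1 h13.2).trans (by norm_num)
  · exact (add_le_add h14.1 h14.2).trans (by norm_num)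

/-- The bound for all codes of orthogonal groups. -/
theorem owsum_le (n K : ℕ) : wsum n false K true + wsum n false K false ≤ 256 / 10 := by
  rcases le_or_gt K 14 with hK | hK
  · exact (otot_small n K hK).trans (by norm_num)
  have key : ∀ j, (wsum n false (14 + j) true + wsum n false (14 + j) false) * (1 + 5 * (1 / 2 : ℚ) ^ (14 + j)) ≤
      256 / 10 := by
    intro j
    induction j with
    | zero =>
      calc _ ≤ (255242 / 10000 : ℚ) * (1 + 5 * (1 / 2 : ℚ) ^ (14 + 0)) :=
            mul_le_mul_of_nonneg_right (otot_small n 14 le_rfl) (by positivity)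
        _ ≤ _ := by norm_num
    | succ j ih => exact (tot_step n false (14 + j) (by omega)).trans ih
  obtain ⟨j, rfl⟩ := Nat.exists_eq_add_of_le hK.le
  refine le_trans ?_ (key j)
  exact le_mul_of_one_le_right (add_nonneg (wsum_nonneg _ _ _ _) (wsum_nonneg _ _ _ _))
    (le_add_of_nonneg_right (by positivity))

/-! ### Counting by parity -/

/-- The codes of weight `j`. -/
def OSet (n j : ℕ) : Finset (List St) :=
  (Codes n false n true ∪ Codes n false n false).filter fun c => codeWt c = j

/-- The codes of weight `j` without a free sign. -/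
def ZSet (n j : ℕ) : Finset (List St) := (ZCodes n n).filter fun c => codeWt c = j

theorem two_mul_card_parity (n j p : ℕ) :
    2 * ((OSet n j).filter fun c => codeOm c % 2 = p).card ≤ (OSet n j).card + (ZSet n j).card := by
  classical
  set A := (OSet n j).filter fun c => codeOm c % 2 = p
  have hmem : ∀ c ∈ OSet n j, ∃ b, c ∈ Codes n false n b := fun c hc => by
    simp only [OSet, Finset.mem_filter, Finset.mem_union] at hc
    exact hc.1.elim (⟨_, ·⟩) (⟨_, ·⟩)
  have h1 : (A.filter fun c => hasFree c = false).card ≤ (ZSet n j).card := by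
    refine Finset.card_le_card fun c hc => ?_
    simp only [A, Finset.mem_filter] at hc
    obtain ⟨b, hb⟩ := hmem c hc.1.1
    refine Finset.mem_filter.2 ⟨(mem_ZCodes hb hc.2).2, ?_⟩
    have := hc.1.1
    simp only [OSet, Finset.mem_filter] at this
    exact this.2
  have h2 : (A.filter fun c => ¬ hasFree c = false).card ≤ ((OSet n j).filter fun c => ¬ codeOm c % 2 = p).card := by
    refine Finset.card_le_card_of_injOn flipCode (fun c hc => ?_) (fun c hc d hd h => ?_)
    · simp only [A, Finset.coe_filter, Set.mem_ofPred_eq, Finset.mem_filter, Bool.not_eq_false] at hc ⊢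
      obtain ⟨b, hb⟩ := hmem c hc.1.1
      obtain ⟨f1, f2, f3, f4, f5⟩ := flipCode_spec hb hc.2
      have hcw := hc.1.1
      simp only [OSet, Finset.mem_filter, Finset.mem_union] at hcw ⊢
      refine ⟨⟨by cases b <;> simp [f1], f3.trans hcw.2⟩, ?_⟩
      have := hc.1.2
      omega
    · simp only [A, Finset.coe_filter, Set.mem_ofPred_eq, Finset.mem_filter, Bool.not_eq_false] at hc hd
      obtain ⟨b, hb⟩ := hmem c hc.1.1
      obtain ⟨b', hb'⟩ := hmem d hd.1.1
      rw [← (flipCode_spec hb hc.2).2.1, ← (flipCode_spec hb' hd.2).2.1, h]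
  have h3 := Finset.card_filter_add_card_filter_not (s := A) (fun c => hasFree c = false)
  have h4 := Finset.card_filter_add_card_filter_not (s := OSet n j) (fun c => codeOm c % 2 = p)
  change A.card + _ = _ at h4
  omega

theorem sum_fibres_le (n : ℕ) (S : Finset (List St)) (x : ℚ) (hx : 0 ≤ x) :
    ∑ j ∈ Finset.range (n + 1), ((S.filter fun c => codeWt c = j).card : ℚ) * x ^ j ≤ ∑ c ∈ S, x ^ codeWt c := by
  classical
  calc ∑ j ∈ Finset.range (n + 1), ((S.filter fun c => codeWt c = j).card : ℚ) * x ^ j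
      = ∑ j ∈ Finset.range (n + 1), ∑ c ∈ S.filter (fun c => codeWt c = j), x ^ codeWt c :=
        Finset.sum_congr rfl fun j _ => by
          rw [Finset.sum_congr rfl fun c hc => (by rw [(Finset.mem_filter.1 hc).2] : x ^ codeWt c = x ^ j)]
          simp
    _ = ∑ c ∈ S.filter (fun c => codeWt c ∈ Finset.range (n + 1)), x ^ codeWt c := by
        rw [← Finset.sum_fiberwise_of_maps_to (fun c hc => (Finset.mem_filter.1 hc).2)]
        refine Finset.sum_congr rfl fun j hj => Finset.sum_congr ?_ fun _ _ => rfl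
        ext c
        simp only [Finset.mem_filter]
        constructor
        · rintro ⟨h1, h2⟩; exact ⟨⟨h1, h2 ▸ hj⟩, h2⟩
        · rintro ⟨⟨h1, -⟩, h2⟩; exact ⟨h1, h2⟩
    _ ≤ _ := Finset.sum_le_sum_of_subset_of_nonneg (Finset.filter_subset _ _) fun _ _ _ => by positivity

/-- The weighted count of a parity. -/
theorem parity_sum_le (n : ℕ) :
    ∑ j ∈ Finset.range (n + 1), (((OSet n j).card : ℚ) + (ZSet n j).card) * (1 / 2 : ℚ) ^ j ≤ 30 := by
  simp only [add_mul, Finset.sum_add_distrib, OSet, ZSet]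
  refine (add_le_add (sum_fibres_le n _ _ (by norm_num)) (sum_fibres_le n _ _ (by norm_num))).trans ?_
  refine (add_le_add ((sum_union_le _ _ _ fun c => by positivity).trans (owsum_le n n)) ?_).trans
    (show (256 / 10 : ℚ) + 2 ≤ 30 by norm_num)
  refine le_trans ?_ (zsum_le n n)
  exact le_mul_of_one_le_right (Finset.sum_nonneg fun c _ => by positivity) (le_add_of_nonneg_right (by positivity))

end Cfsg.Agent.Lib.ClassesSpTwo46
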