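import Cfsg.Agent.Lib.ClassesSpTwo46.OQuad

/-!
Standard pieces of an orthogonal space in characteristic two, their Gauss sums, and the decomposition.

Owner: helper46.
-/

set_option autoImplicit false
set_option linter.unusedSectionVars false

namespace Cfsg.Agent.Lib.ClassesSpTwo46

open Module

universe u v

variable {F : Type u} [Field F] {V : Type v} [AddCommGroup V] [Module F V] [CharP F 2]

namespace UData

variable (D : UData F V)

/-- A standard piece together with the values of the quadratic form on its generators. -/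
structure OIsAtom (q : V → F) (ω : F) (a : Atom) (v w : V) : Prop where
  atom : D.IsAtom ω a v w
  qv0 : q v = if a.pair = true then (if a.om = true ∧ a.e = 1 then 1 else 0)
    else (if a.om = true ∧ a.e = 2 then ω else 0)
  qw0 : a.pair = true → q w = if a.om = true ∧ a.e = 1 then ω else 0

/-- An orthogonal decomposition into standard pieces of the quadratic space. -/
inductive OFrame (q : V → F) (ω : F) : Submodule F V → List Atom → Prop
  | nil : OFrame q ω ⊥ []
  | cons {a : Atom} {v w : V} {R : Submodule F V} {L : List Atom} (h : D.OIsAtom q ω a v w)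
      (hR : OFrame q ω R L) (ho : R ≤ D.orth (D.piece a v w)) : OFrame q ω (D.piece a v w ⊔ R) (a :: L)

variable {D} {q : V → F} {ω : F}

theorem OFrame.frame {W : Submodule F V} {L : List Atom} (h : D.OFrame q ω W L) : D.Frame ω W L := by
  induction h with
  | nil => exact Frame.nil
  | cons h _ ho ih => exact Frame.cons h.atom ih ho

theorem OFrame.owitness {W : Submodule F V} {L : List Atom} (h : D.OFrame q ω W L) {b : Atom} (hb : b ∈ L) :
    ∃ v ∈ W, ∃ w ∈ W, D.OIsAtom q ω b v w := by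
  induction h with
  | nil => simp at hb
  | @cons a v w R L h _ _ ih =>
    rcases List.mem_cons.1 hb with rfl | hb
    · exact ⟨v, Submodule.mem_sup_left h.atom.v_mem, w, Submodule.mem_sup_left h.atom.w_mem, h⟩
    · obtain ⟨v', hv', w', hw', h'⟩ := ih hb
      exact ⟨v', Submodule.mem_sup_right hv', w', Submodule.mem_sup_right hw', h'⟩

/-! ### Isometry from equal lists -/

variable {D' : UData F V} {q' : V → F}

theorem OFrame.corr (hq : D.IsQuad q) (hq' : D'.IsQuad q') {W W' : Submodule F V} {L : List Atom}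
    (h : D.OFrame q ω W L) (h' : D'.OFrame q' ω W' L) :
    ∃ Γ : Submodule F (V × V), Γ.map (LinearMap.fst F V V) = W ∧ Γ.map (LinearMap.snd F V V) = W' ∧
      (∀ p ∈ Γ, ∀ r ∈ Γ, D.B p.1 r.1 = D'.B p.2 r.2) ∧ (∀ p ∈ Γ, (D.N p.1, D'.N p.2) ∈ Γ) ∧
      ∀ p ∈ Γ, q p.1 = q' p.2 := by
  classical
  induction h generalizing W' with
  | nil =>
    cases h'
    refine ⟨⊥, Submodule.map_bot _, Submodule.map_bot _, fun p hp r hr => by simp_all, fun p hp => by simp_all,
      fun p hp => ?_⟩
    rw [(Submodule.mem_bot F).1 hp]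
    exact hq.zero.trans hq'.zero.symm
  | @cons a v w R L h hR ho ih =>
    cases h' with
    | @cons _ v' w' R' _ h' hR' ho' =>
      obtain ⟨Γ, hΓ1, hΓ2, hΓB, hΓN, hΓq⟩ := ih hR'
      obtain ⟨c1, c2, cB, cN⟩ := corr_step h.atom h'.atom ho ho' hΓ1 hΓ2 hΓB hΓN
      refine ⟨_, c1, c2, cB, cN, ?_⟩
      set Δ := LinearMap.range (pairing D D' a v w v' w') ⊔ Γ
      let Ξ : Submodule F (V × V) :=
        { carrier := {p | p ∈ Δ ∧ q p.1 = q' p.2}
          add_mem' := fun {x y} hx hy => ⟨add_mem hx.1 hy.1, by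
            simp only [Prod.fst_add, Prod.snd_add, hq.add, hq'.add, hx.2, hy.2, cB x hx.1 y hy.1]⟩
          zero_mem' := ⟨zero_mem _, by simp [hq.zero, hq'.zero]⟩
          smul_mem' := fun c x hx => ⟨Δ.smul_mem c hx.1, by simp [hq.smul, hq'.smul, hx.2]⟩ }
      have hgen : ∀ g : a.Gen, q (gen v w g) = q' (gen v' w' g) := by
        intro g
        rcases g with ⟨g, hg⟩
        cases g
        · have hp : a.pair = true := hg.resolve_right (by simp)
          simp only [gen, Bool.false_eq_true, if_false]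
          rw [h.qw0 hp, h'.qw0 hp]
        · simp only [gen, if_true]
          rw [h.qv0, h'.qv0]
      have hpair : ∀ p, (D.fam a v w p, D'.fam a v' w' p) ∈ Ξ := by
        intro p
        refine ⟨Submodule.mem_sup_left ⟨Pi.single p 1, by
          rw [pairing, Fintype.linearCombination_apply_single, one_smul]⟩, ?_⟩
        show q ((D.N ^ (p.2 : ℕ)) (gen v w p.1)) = q' ((D'.N ^ (p.2 : ℕ)) (gen v' w' p.1))
        rcases Nat.eq_zero_or_pos (p.2 : ℕ) with h0 | h0
        · rw [h0]; exact hgen p.1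
        · rw [show (p.2 : ℕ) = (p.2 : ℕ) - 1 + 1 by omega, hq.q_Npow, hq'.q_Npow]
          exact h.atom.gram_eq h'.atom _ _ _ _
      have hle : Δ ≤ Ξ := by
        refine sup_le ?_ fun p hp => ⟨Submodule.mem_sup_right hp, hΓq p hp⟩
        rintro _ ⟨c, rfl⟩
        rw [pairing, Fintype.linearCombination_apply]
        exact Submodule.sum_mem _ fun p _ => Ξ.smul_mem _ (hpair p)
      exact fun p hp => (hle hp).2

/-- On nondegenerate subspaces the correspondence is an isometry of the quadratic spaces. -/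
theorem OFrame.exists_equiv (hq : D.IsQuad q) (hq' : D'.IsQuad q') {W W' : Submodule F V} {L : List Atom}
    (h : D.OFrame q ω W L) (h' : D'.OFrame q' ω W' L) (hnd : D.NonDeg W) (hnd' : D'.NonDeg W') :
    ∃ e : W ≃ₗ[F] W', (∀ x : W, ∀ hx : D.N x.1 ∈ W, (e ⟨D.N x.1, hx⟩).1 = D'.N (e x).1) ∧
      (∀ x y : W, D'.B (e x).1 (e y).1 = D.B x.1 y.1) ∧ ∀ x : W, q' (e x).1 = q x.1 := by
  obtain ⟨Γ, hΓ1, hΓ2, hΓB, hΓN, hΓq⟩ := h.corr hq hq' h'
  have hm1 : ∀ p ∈ Γ, p.1 ∈ W := fun p hp => hΓ1 ▸ ⟨p, hp, rfl⟩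
  have hm2 : ∀ p ∈ Γ, p.2 ∈ W' := fun p hp => hΓ2 ▸ ⟨p, hp, rfl⟩
  let f1 : Γ →ₗ[F] W := LinearMap.codRestrict W ((LinearMap.fst F V V).comp Γ.subtype) fun p => hm1 _ p.2
  let f2 : Γ →ₗ[F] W' := LinearMap.codRestrict W' ((LinearMap.snd F V V).comp Γ.subtype) fun p => hm2 _ p.2
  have hs1 : Function.Surjective f1 := fun x => by
    obtain ⟨p, hp, hx⟩ := (hΓ1.symm ▸ x.2 : x.1 ∈ Γ.map (LinearMap.fst F V V))
    exact ⟨⟨p, hp⟩, Subtype.ext hx⟩
  have hs2 : Function.Surjective f2 := fun x => by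
    obtain ⟨p, hp, hx⟩ := (hΓ2.symm ▸ x.2 : x.1 ∈ Γ.map (LinearMap.snd F V V))
    exact ⟨⟨p, hp⟩, Subtype.ext hx⟩
  have hi1 : Function.Injective f1 := by
    rw [injective_iff_map_eq_zero]
    intro p hp
    have h1 : p.1.1 = 0 := congrArg Subtype.val hp
    refine Subtype.ext (Prod.ext h1 (hnd' _ (hm2 _ p.2) fun y hy => ?_))
    obtain ⟨r, hr⟩ := hs2 ⟨y, hy⟩
    rw [← show r.1.2 = y from congrArg Subtype.val hr, ← hΓB _ p.2 _ r.2, h1, map_zero, LinearMap.zero_apply]
  have hi2 : Function.Injective f2 := by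
    rw [injective_iff_map_eq_zero]
    intro p hp
    have h1 : p.1.2 = 0 := congrArg Subtype.val hp
    refine Subtype.ext (Prod.ext (hnd _ (hm1 _ p.2) fun y hy => ?_) h1)
    obtain ⟨r, hr⟩ := hs1 ⟨y, hy⟩
    rw [← show r.1.1 = y from congrArg Subtype.val hr, hΓB _ p.2 _ r.2, h1, map_zero, LinearMap.zero_apply]
  let e1 := LinearEquiv.ofBijective f1 ⟨hi1, hs1⟩
  let e := e1.symm.trans (LinearEquiv.ofBijective f2 ⟨hi2, hs2⟩)
  have he : ∀ x : W, (x.1, (e x).1) ∈ Γ := fun x => by
    obtain ⟨p, rfl⟩ := e1.surjective x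
    have : e (e1 p) = f2 p := by simp [e]; rfl
    rw [this]; exact p.2
  have huniq : ∀ p : Γ, e (f1 p) = f2 p := fun p => by
    show e (e1 p) = f2 p
    simp [e]; rfl
  refine ⟨e, fun x hx => ?_, fun x y => (hΓB _ (he x) _ (he y)).symm, fun x => (hΓq _ (he x)).symm⟩
  exact congrArg Subtype.val (huniq ⟨_, hΓN _ (he x)⟩)

/-! ### Gauss sums of the pieces -/

theorem gen_self_high {a : Atom} {v w : V} (h : D.IsAtom ω a v w) {p m : ℕ} (hm : a.e ≤ m) (g g' : a.Gen) :
    D.B (D.Z p m (gen v w g)) (gen v w g') = 0 := by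
  rw [D.Z_kill (h.gen_kill g) p hm, map_zero, LinearMap.zero_apply]

variable [Finite V] [Fintype F] [FiniteDimensional F V]

theorem gsum_atom (ψ : Sgn F) (hq : D.IsQuad q) {a : Atom} (hval : a.Valid) {v w : V}
    (h : D.OIsAtom q ψ.ω a v w) :
    ∃ P : ℤ, 0 < P ∧ gsum ψ q (D.piece a v w) = (if a.om then -1 else 1) * P := by
  classical
  have hA := h.atom
  have hp := hA.pos
  -- the threshold of the singular subspace
  obtain ⟨h0, hh0, hh1⟩ : ∃ h0, a.e ≤ h0 + h0 ∧ h0 + h0 ≤ a.e + 2 ∧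
      (a.pair = true → h0 + h0 ≤ a.e + 1) ∧ (a.pair = false → h0 + h0 = a.e + 2) := by
    rcases Bool.eq_false_or_eq_true a.pair with hpr | hpr
    · exact ⟨(a.e + 1) / 2, by omega, by omega, fun _ => by omega, fun h' => by simp [hpr] at h'⟩
    · obtain ⟨k, hk⟩ := hA.even hpr
      exact ⟨k + 1, by omega, by omega, fun h' => by simp [hpr] at h', fun _ => by omega⟩
  obtain ⟨hh1, hhp, hhc⟩ := hh1
  set H := Submodule.span F {x : V | ∃ (g : a.Gen) (i : ℕ), h0 ≤ i ∧ x = (D.N ^ i) (gen v w g)} with hHdef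
  set P := Submodule.span F {x : V | ∃ (g : a.Gen) (i : ℕ), a.e ≤ i + h0 ∧ i < h0 ∧ x = (D.N ^ i) (gen v w g)}
    with hPdef
  have hgg : ∀ (g g' : a.Gen) (i j : ℕ), a.e ≤ i + j →
      D.B ((D.N ^ i) (gen v w g)) ((D.N ^ j) (gen v w g')) = 0 := by
    intro g g' i j hij
    rw [← D.Z_zero i, form_N]
    exact gen_self_high hA (by omega) g g'
  have hHM : H ≤ D.piece a v w :=
    Submodule.span_le.2 fun x ⟨g, i, _, hx⟩ => hx ▸ hA.gen_mem_self g i
  have hPM : P ≤ D.piece a v w :=
    Submodule.span_le.2 fun x ⟨g, i, _, _, hx⟩ => hx ▸ hA.gen_mem_self g i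
  have horth : ∀ x ∈ H ⊔ P, ∀ y ∈ H, D.B y x = 0 := by
    intro x hx y hy
    have key : ∀ (g : a.Gen) (i : ℕ), h0 ≤ i → D.B ((D.N ^ i) (gen v w g)) x = 0 := by
      intro g i hi
      have hle : H ⊔ P ≤ LinearMap.ker (D.B ((D.N ^ i) (gen v w g))) := by
        refine sup_le (Submodule.span_le.2 ?_) (Submodule.span_le.2 ?_)
        · rintro _ ⟨g', j, hj, rfl⟩; exact hgg g g' i j (by omega)
        · rintro _ ⟨g', j, hj, -, rfl⟩; exact hgg g g' i j (by omega)
      exact LinearMap.mem_ker.1 (hle hx)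
    have hle : H ≤ LinearMap.ker (D.B.flip x) :=
      Submodule.span_le.2 fun z ⟨g, i, hi, hz⟩ => hz ▸ key g i hi
    exact LinearMap.mem_ker.1 (hle hy)
  have hsing : ∀ x ∈ H, q x = 0 := by
    intro x hx
    induction hx using Submodule.span_induction with
    | mem x hx =>
      obtain ⟨g, i, hi, rfl⟩ := hx
      rw [show i = i - 1 + 1 by omega, hq.q_Npow]
      rcases Nat.lt_or_ge (i - 1 + (i - 1) + 1) a.e with hlt | hge
      · -- only a pair reaches the top exponent here
        have hpr : a.pair = true := by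
          rcases Bool.eq_false_or_eq_true a.pair with h' | h'
          · exact h'
          · have := hhc h'; omega
        rw [D.Z_top (hA.gen_kill g) _ (by omega), show i - 1 + (i - 1) + 1 = a.e - 1 by omega, hA.top, if_neg]
        rw [Atom.dual, dif_pos hpr]
        intro hg; exact absurd (congrArg Subtype.val hg) (by simp)
      · exact gen_self_high hA hge g g
    | zero => exact hq.zero
    | add x y hx hy hqx hqy => rw [hq.add, hqx, hqy, horth y (Submodule.mem_sup_left hy) x hx]; simp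
    | smul c x _ hqx => rw [hq.smul, hqx, mul_zero]
  -- the vectors orthogonal to the singular subspace
  have hperp : D.piece a v w ⊓ D.orth H = H ⊔ P := by
    refine le_antisymm ?_ (sup_le (le_inf hHM fun x hx y hy => horth x (Submodule.mem_sup_left hx) y hy)
      (le_inf hPM fun x hx y hy => horth x (Submodule.mem_sup_right hx) y hy))
    rintro _ ⟨⟨c, rfl⟩, hx⟩
    have hlow : ∀ n, ∀ p : a.Gen × Fin a.e, (p.2 : ℕ) < n → (p.2 : ℕ) + h0 < a.e → c p = 0 := by
      intro n
      induction n with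
      | zero => intro p hp; omega
      | succ n ihn =>
        rintro ⟨g, i⟩ hi hlt
        simp only at hi hlt
        rcases Nat.lt_succ_iff_lt_or_eq.1 hi with hin | hin
        · exact ihn _ hin hlt
        have hmemH : (D.N ^ (a.e - 1 - n)) (gen v w (a.dual g)) ∈ H :=
          Submodule.subset_span ⟨_, _, by omega, rfl⟩
        have e0 := hx _ hmemH
        rw [D.swap, Fintype.linearCombination_apply, map_sum, LinearMap.sum_apply,
          Finset.sum_eq_single (g, i)] at e0
        · simp only [fam, map_smul, LinearMap.smul_apply] at e0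
          rw [← D.Z_zero i.val, form_N, hin, show a.e - 1 - n + n = a.e - 1 by omega,
            D.Z_top (hA.gen_kill g) _ (by omega), hA.top, if_pos rfl, smul_eq_mul, mul_one] at e0
          exact e0
        · rintro ⟨g', j⟩ - hne
          simp only [fam, map_smul, LinearMap.smul_apply]
          rcases lt_trichotomy (j : ℕ) n with hj | hj | hj
          · rw [ihn (g', j) hj (by simp only; omega), zero_smul]
          · rw [← D.Z_zero j.val, form_N, hj, show a.e - 1 - n + n = a.e - 1 by omega,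
              D.Z_top (hA.gen_kill g') _ (by omega), hA.top, if_neg, smul_zero]
            intro he
            refine hne (Prod.ext ?_ (Fin.ext (hj.trans hin.symm)))
            have hinv : Function.Involutive a.dual := fun g => by
              unfold Atom.dual
              split_ifs with hp <;> simp
            exact (hinv.injective he).symm
          · rw [← D.Z_zero j.val, form_N, D.Z_kill (hA.gen_kill g') _ (by omega), map_zero, LinearMap.zero_apply,
              smul_zero]
        · intro hm; exact absurd (Finset.mem_univ _) hm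
    rw [Fintype.linearCombination_apply]
    refine Submodule.sum_mem _ fun p _ => ?_
    by_cases h1 : (p.2 : ℕ) + h0 < a.e
    · rw [hlow _ p (Nat.lt_succ_self _) h1, zero_smul]; exact zero_mem _
    · refine Submodule.smul_mem _ _ ?_
      by_cases h2 : h0 ≤ (p.2 : ℕ)
      · exact Submodule.mem_sup_left (Submodule.subset_span ⟨p.1, p.2, h2, rfl⟩)
      · exact Submodule.mem_sup_right (Submodule.subset_span ⟨p.1, p.2, by omega, by omega, rfl⟩)
  have hPH : H ≤ D.orth P := fun x hx y hy => by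
    rw [D.swap]; exact horth y (Submodule.mem_sup_right hy) x hx
  have hcardH : gsum ψ q H = ((Set.toFinite (H : Set V)).toFinset.card : ℤ) := by
    rw [gsum, Finset.sum_congr rfl fun x hx => (by
      rw [hsing x (by simpa using hx), ψ.map_zero] : ψ.f (q x) = (1 : ℤ))]
    simp
  have hHpos : (0 : ℤ) < (Set.toFinite (H : Set V)).toFinset.card := by
    exact_mod_cast Finset.card_pos.2 ⟨0, by simp⟩
  have fin : ∀ (s : ℤ), Disjoint P H → (∃ c : ℤ, 0 < c ∧ gsum ψ q P = s * c) →
      ∃ c : ℤ, 0 < c ∧ gsum ψ q (D.piece a v w) = s * c := by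
    rintro s hd ⟨c, hc, hP⟩
    refine ⟨c * (Set.toFinite (H : Set V)).toFinset.card, mul_pos hc hHpos, ?_⟩
    rw [gsum_singular ψ hq hHM hsing, hperp, sup_comm, gsum_sup ψ hq hd hPH, hP, hcardH, mul_assoc]
  -- the middle plane
  by_cases hev : a.pair = true ∧ Even a.e
  · obtain ⟨r, hr⟩ := hev.2
    have hP0 : P = ⊥ := by
      rw [hPdef, Submodule.span_eq_bot]
      rintro x ⟨g, i, h1, h2, -⟩
      have := hhp hev.1; omega
    have hom : a.om = false := by
      by_contra ho
      simp only [Bool.not_eq_false] at ho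
      exact Nat.not_odd_iff_even.2 hev.2 (hval.omPair ho hev.1)
    refine fin _ (hP0 ▸ disjoint_bot_left) ⟨1, one_pos, ?_⟩
    rw [hP0, gsum_bot ψ hq, hom]; rfl
  -- two vectors span the middle
  obtain ⟨x, y, hxy, hP', hval'⟩ : ∃ x y : V, D.B x y = 1 ∧ P = Submodule.span F {x} ⊔ Submodule.span F {y} ∧
      ψ.f (q x * q y) = if a.om then -1 else 1 := by
    rcases Bool.eq_false_or_eq_true a.pair with hpr | hpr
    · obtain ⟨r, hr⟩ : Odd a.e := Nat.not_even_iff_odd.1 fun he => hev ⟨hpr, he⟩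
      have hh : h0 = r + 1 := by have := hhp hpr; omega
      refine ⟨(D.N ^ r) v, (D.N ^ r) w, ?_, ?_, ?_⟩
      · have e := D.form_N 0 r r v w
        rw [Z_zero] at e
        rw [e, D.Z_top hA.kv _ (by omega), hA.cross hpr, if_pos (by omega)]
      · rw [← Submodule.span_union, hPdef]
        congr 1
        ext z
        constructor
        · rintro ⟨⟨g, hg⟩, i, h1, h2, rfl⟩
          rw [show i = r by omega]
          cases g <;> simp [gen]
        · rintro (rfl | rfl)
          · exact ⟨⟨true, Or.inr rfl⟩, r, by omega, by omega, rfl⟩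
          · exact ⟨⟨false, Or.inl hpr⟩, r, by omega, by omega, rfl⟩
      · have hval2 : ∀ (t : F) (z : V), q z = (if a.om = true ∧ a.e = 1 then t else 0) →
            (∀ l, D.Q l z = if a.om = true ∧ l + l + 3 = a.e then t else 0) →
            q ((D.N ^ r) z) = if a.om then t else 0 := by
          intro t z h1 h2
          rcases Nat.eq_zero_or_pos r with h0' | h0'
          · subst h0'
            simp only [pow_zero, Module.End.one_apply, h1, show a.e = 1 by omega, and_true]
          · rw [show r = r - 1 + 1 by omega, hq.q_Npow, ← Q, h2]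
            simp [show r - 1 + (r - 1) + 3 = a.e by omega]
        rw [hval2 1 v (by rw [h.qv0, if_pos hpr]) (hA.qv hpr), hval2 ψ.ω w (h.qw0 hpr) (hA.qw hpr)]
        split_ifs <;> simp [ψ.map_omega, ψ.map_zero]
    · obtain ⟨k, hk⟩ := hA.even hpr
      have hh : h0 = k + 1 := by have := hhc hpr; omega
      obtain ⟨j, rfl⟩ : ∃ j, k = j + 1 := ⟨k - 1, by omega⟩
      refine ⟨(D.N ^ j) v, (D.N ^ (j + 1)) v, ?_, ?_, ?_⟩
      · have e := hA.qc hpr j
        rw [if_pos (by omega), Q, D.Z_top hA.kv _ (by omega)] at e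
        rw [← D.Z_zero j, form_N, D.Z_top hA.kv _ (by omega), show j + 1 + j = j + j + 1 by omega, e]
      · rw [← Submodule.span_union, hPdef]
        congr 1
        ext z
        constructor
        · rintro ⟨⟨g, hg⟩, i, h1, h2, rfl⟩
          have : g = true := hg.resolve_left (by simp [hpr])
          subst this
          rcases (show i = j ∨ i = j + 1 by omega) with rfl | rfl <;> simp [gen]
        · rintro (rfl | rfl)
          · exact ⟨⟨true, Or.inr rfl⟩, j, by omega, by omega, rfl⟩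
          · exact ⟨⟨true, Or.inr rfl⟩, j + 1, by omega, by omega, rfl⟩
      · have e1 : q ((D.N ^ (j + 1)) v) = 1 := by
          rw [hq.q_Npow, ← Q, hA.qc hpr, if_pos (by omega)]
        have e2 : q ((D.N ^ j) v) = if a.om then ψ.ω else 0 := by
          rcases Nat.eq_zero_or_pos j with h0' | h0'
          · subst h0'
            rw [pow_zero, Module.End.one_apply, h.qv0, if_neg (by simp [hpr])]
            simp [show a.e = 2 by omega]
          · rw [show j = j - 1 + 1 by omega, hq.q_Npow, ← Q, hA.qc hpr, if_neg (by omega)]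
            simp [show j - 1 + (j - 1) + 4 = a.e by omega]
        rw [e1, e2, mul_one]
        split_ifs <;> simp [ψ.map_omega, ψ.map_zero]
  refine fin _ ?_ ⟨Fintype.card F, by exact_mod_cast Fintype.card_pos, ?_⟩
  · rw [Submodule.disjoint_def]
    intro z hz hzH
    have o : ∀ t ∈ P, D.B z t = 0 := fun t ht => horth t (Submodule.mem_sup_right ht) z hzH
    rw [hP'] at hz
    obtain ⟨u, hu, s, hs, rfl⟩ := Submodule.mem_sup.1 hz
    obtain ⟨α, rfl⟩ := Submodule.mem_span_singleton.1 hu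
    obtain ⟨β, rfl⟩ := Submodule.mem_span_singleton.1 hs
    have o1 := o x (hP' ▸ Submodule.mem_sup_left (Submodule.mem_span_singleton_self x))
    have o2 := o y (hP' ▸ Submodule.mem_sup_right (Submodule.mem_span_singleton_self y))
    simp [D.symp.self, hxy, D.swap y x] at o1 o2
    rw [o1, o2, zero_smul, zero_smul, add_zero]
  · rw [hP', gsum_plane ψ hq hxy, hval', mul_comm]

/-- The parity of the number of signs. -/
def sgnPar (L : List Atom) : ℤ := (L.map fun a => if a.om then (-1 : ℤ) else 1).prod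

theorem OFrame.gsum_eq (ψ : Sgn F) (hq : D.IsQuad q) {W : Submodule F V} {L : List Atom}
    (h : D.OFrame q ψ.ω W L) (hg : GoodList L) : ∃ P : ℤ, 0 < P ∧ gsum ψ q W = sgnPar L * P := by
  induction h with
  | nil => exact ⟨1, one_pos, by rw [gsum_bot ψ hq]; rfl⟩
  | @cons a v w R L h _ ho ih =>
    obtain ⟨P, hP, hR⟩ := ih hg.2.2
    obtain ⟨P', hP', hM⟩ := gsum_atom ψ hq hg.1 h
    refine ⟨P' * P, mul_pos hP' hP, ?_⟩
    rw [gsum_sup ψ hq (h.atom.disjoint.mono_right ho) ho, hM, hR]
    show _ = (List.map _ (a :: L)).prod * (P' * P)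
    rw [List.map_cons, List.prod_cons]
    show _ = (if a.om then (-1 : ℤ) else 1) * sgnPar L * (P' * P)
    ring

/-! ### The greedy decomposition -/

theorem addtop_pair {a : Atom} {v w : V} (hq : D.IsQuad q) (h : D.IsAtom ω a v w) (hp : a.pair = true)
    (he : 2 ≤ a.e) :
    ∃ v' ∈ D.piece a v w, ∃ w' ∈ D.piece a v w, D.IsAtom ω a v' w' ∧ q v' = 0 ∧ q w' = 0 := by
  obtain ⟨i, hi⟩ : ∃ i, i + 1 = a.e := ⟨a.e - 1, by omega⟩
  have hbv : ∀ x y : V, (D.N ^ a.e) x = 0 → D.B x ((D.N ^ i) y) = D.B ((D.N ^ i) x) y := fun x y hx => by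
    rw [B_Npow, D.Z_top hx _ (by omega)]
  have htop : D.B ((D.N ^ i) v) w = 1 := by rw [h.cross hp, if_pos hi]
  have hqi : ∀ x : V, (D.N ^ a.e) x = 0 → D.B ((D.N ^ i) x) x = 0 → q ((D.N ^ i) x) = 0 := by
    intro x hx hb
    rw [show i = i - 1 + 1 by omega, hq.q_Npow]
    exact self_high hx (by rwa [show a.e - 1 = i by omega]) _ (by omega)
  have hQz : ∀ l (x y : V), (D.N ^ a.e) x = 0 → (D.N ^ a.e) y = 0 → ∀ c : F,
      D.Q l (x + c • (D.N ^ i) y) = D.Q l x := by
    intro l x y hx hy c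
    rw [Q_add, Q_smul, Q_N, D.Z_kill hy _ (by omega), map_smul, form_N, D.Z_kill hx _ (by omega)]
    simp
  have hbb : D.B ((D.N ^ i) v) v = 0 ∧ D.B ((D.N ^ i) w) w = 0 := by
    have t1 := h.top ⟨true, Or.inr rfl⟩ ⟨true, Or.inr rfl⟩
    have t2 := h.top ⟨false, Or.inl hp⟩ ⟨false, Or.inl hp⟩
    rw [if_neg (by simp [Atom.dual, hp])] at t1 t2
    simp only [gen, if_true, if_false, Bool.false_eq_true, show a.e - 1 = i by omega] at t1 t2
    exact ⟨t1, t2⟩
  obtain ⟨v', hv'⟩ : ∃ v', v' = v + q v • (D.N ^ i) w := ⟨_, rfl⟩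
  obtain ⟨w', hw'⟩ : ∃ w', w' = w + q w • (D.N ^ i) v' := ⟨_, rfl⟩
  have kv : (D.N ^ a.e) v' = 0 := hv' ▸ kill_add h.kv h.kw _ _
  have kw : (D.N ^ a.e) w' = 0 := hw' ▸ kill_add h.kw kv _ _
  have htv : (D.N ^ i) v' = (D.N ^ i) v := by
    rw [hv', map_add, map_smul, ← Module.End.mul_apply, ← pow_add, D.kill_le h.kw (by omega), smul_zero, add_zero]
  have hc1 : ∀ d, D.B ((D.N ^ d) v') w = D.B ((D.N ^ d) v) w := fun d => by
    have : D.B ((D.N ^ d) ((D.N ^ i) w)) w = 0 := by
      rcases Nat.eq_zero_or_pos d with rfl | hd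
      · exact hbb.2
      · rw [← Module.End.mul_apply, ← pow_add, D.kill_le h.kw (by omega), map_zero, LinearMap.zero_apply]
    simp [hv', this]
  have hc2 : ∀ d, D.B ((D.N ^ d) v') w' = D.B ((D.N ^ d) v) w := fun d => by
    have : D.B ((D.N ^ d) v') ((D.N ^ i) v') = 0 := by
      rw [← D.Z_zero d, form_N]
      refine self_high kv ?_ _ (by omega)
      rw [show a.e - 1 = i by omega, htv, hv', map_add, map_smul, hbb.1]
      have e1 : D.B ((D.N ^ i) v) ((D.N ^ i) w) = 0 := pair_zero h.kv i (by omega) w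
      simp [e1]
    rw [hw', map_add, map_smul, this, hc1]
    simp
  refine ⟨v', hv' ▸ add_mem h.v_mem (Submodule.smul_mem _ _ (h.inv_piece.Npow_mem D i h.w_mem)), w',
    hw' ▸ add_mem h.w_mem (Submodule.smul_mem _ _ (h.inv_piece.Npow_mem D i
      (hv' ▸ add_mem h.v_mem (Submodule.smul_mem _ _ (h.inv_piece.Npow_mem D i h.w_mem))))),
    ⟨h.pos, kv, kw, fun _ d => by rw [hc2, h.cross hp], fun _ l => by rw [hv', hQz l v w h.kv h.kw, h.qv hp],
      fun _ l => by rw [hw', hQz l w v' h.kw kv, h.qw hp], fun h' => by simp [hp] at h',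
      fun h' => by simp [hp] at h', fun h' => by simp [hp] at h'⟩, ?_, ?_⟩
  · rw [hv', hq.add, hq.smul, hqi w h.kw hbb.2, map_smul, hbv v w h.kv, htop]
    simp [CharTwo.add_self_eq_zero]
  · have hq1 : q ((D.N ^ i) v') = 0 := by rw [htv]; exact hqi v h.kv hbb.1
    rw [hw', hq.add, hq.smul, hq1, map_smul, hbv w v' h.kw,
      D.top_symm (m := i) (by rw [hi]; exact kv), hc1, htop]
    simp [CharTwo.add_self_eq_zero]

theorem addtop_cyc {a : Atom} {v w : V} (hq : D.IsQuad q) (h : D.IsAtom ω a v w) (hp : a.pair = false)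
    (he : 4 ≤ a.e) : ∃ v' ∈ D.piece a v w, D.IsAtom ω a v' v' ∧ q v' = 0 := by
  obtain ⟨k, hk⟩ := h.even hp
  obtain ⟨i, hi⟩ : ∃ i, i + 1 = a.e := ⟨a.e - 1, by omega⟩
  have hQz : ∀ l, D.Q l (v + q v • (D.N ^ i) v) = D.Q l v := by
    intro l
    rw [Q_add, Q_smul, Q_N, D.Z_kill h.kv _ (by omega), map_smul, form_N, D.Z_kill h.kv _ (by omega)]
    simp
  have htop : D.B ((D.N ^ i) v) v = 1 := by
    have e := h.qc hp (k - 1)
    rw [if_pos (by omega), Q, D.Z_top h.kv _ (by omega)] at e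
    rwa [show i = k - 1 + (k - 1) + 1 by omega]
  refine ⟨v + q v • (D.N ^ i) v, add_mem h.v_mem (Submodule.smul_mem _ _ (h.inv_piece.Npow_mem D i h.v_mem)),
    ⟨h.pos, kill_add h.kv h.kv _ _, kill_add h.kv h.kv _ _, fun h' => by simp [hp] at h',
      fun h' => by simp [hp] at h', fun h' => by simp [hp] at h', h.even, fun _ l => by rw [hQz, h.qc hp],
      fun _ => rfl⟩, ?_⟩
  have e1 : q ((D.N ^ i) v) = 0 := by
    rw [show i = i - 1 + 1 by omega, hq.q_Npow, D.Z_kill h.kv _ (by omega), map_zero, LinearMap.zero_apply]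
  rw [hq.add, hq.smul, e1, map_smul, B_Npow, D.Z_top h.kv _ (by omega), htop]
  simp [CharTwo.add_self_eq_zero]

theorem piece_eq {a : Atom} {v w v' w' : V} (h : D.IsAtom ω a v w) (h' : D.IsAtom ω a v' w')
    (hv : v' ∈ D.piece a v w) (hw : w' ∈ D.piece a v w) : D.piece a v' w' = D.piece a v w :=
  Submodule.eq_of_le_of_finrank_eq (piece_le h.inv_piece hv hw) (by rw [h'.finrank_piece, h.finrank_piece])

/-- A standard piece of the quadratic space at the top exponent. -/
theorem exists_otop (hq : D.IsQuad q) (hω : ∀ a : F, ∃ c : F, a + c + c * c = 0 ∨ a + c + c * c = ω)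
    (W : Submodule F V) (hW : D.Inv W) (hnd : D.NonDeg W) (hW0 : W ≠ ⊥) {e : ℕ}
    (hk : ∀ x ∈ W, (D.N ^ e) x = 0) (hmin : ∀ i < e, ¬ ∀ x ∈ W, (D.N ^ i) x = 0) :
    ∃ a : Atom, ∃ v ∈ W, ∃ w ∈ W, D.OIsAtom q ω a v w ∧ a.e = e ∧
      ∀ R L, R ≤ W → D.OFrame q ω R L → R ≤ D.orth (D.piece a v w) → a.Valid ∧ a.Rules L := by
  classical
  obtain ⟨a, v, hv, w, hw, ha, hae, hnoP, hom, hgood⟩ := exists_top hω W hW hnd hW0 hk hmin
  have hple := piece_le (a := a) hW hv hw
  have hp0 := ha.pos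
  by_cases he1 : a.e = 1
  · -- exponent one: choose the pair by the value of the form
    have hpr : a.pair = true := by
      by_contra h'
      obtain ⟨j, hj⟩ := ha.even (by simpa using h')
      omega
    have h1 : ∀ x ∈ W, D.N x = 0 := fun x hx => by
      have := hk x hx; rwa [← hae, he1, pow_one] at this
    have hQ0 : ∀ x ∈ W, ∀ l, D.Q l x = 0 := fun x hx l =>
      D.Q_kill (e := 1) (by rw [pow_one]; exact h1 x hx) (by omega)
    have mkAtom : ∀ (o : Bool) (x y : V), x ∈ W → y ∈ W → D.B x y = 1 →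
        D.IsAtom ω ⟨1, true, o⟩ x y := by
      intro o x y hx hy hxy
      refine ⟨le_rfl, by rw [pow_one]; exact h1 x hx, by rw [pow_one]; exact h1 y hy, fun _ d => ?_,
        fun _ l => by rw [hQ0 x hx, if_neg (by simp)], fun _ l => by rw [hQ0 y hy, if_neg (by simp)],
        fun h' => by simp at h', fun h' => by simp at h', fun h' => by simp at h'⟩
      rcases Nat.eq_zero_or_pos d with rfl | hd
      · simpa using hxy
      · rw [D.kill_le (e := 1) (by rw [pow_one]; exact h1 x hx) hd, map_zero, LinearMap.zero_apply,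
          if_neg (by simp only; omega)]
    have hvw : D.B v w = 1 := by have := ha.cross hpr 0; simpa [he1] using this
    have hle : ∀ R L, R ≤ W → D.Frame ω R L → ∀ b ∈ L, b.e ≤ 1 := fun R L hR hL b hb => by
      obtain ⟨x, hx, _, _, hxy⟩ := hL.witness hb
      exact atom_le hxy (hR hx) fun z hz => by rw [pow_one]; exact h1 z hz
    by_cases hplus : ∃ x ∈ W, ∃ y ∈ W, D.B x y = 1 ∧ q x = 0 ∧ q y = 0
    · obtain ⟨x, hx, y, hy, hxy, h0x, h0y⟩ := hplus
      refine ⟨⟨1, true, false⟩, x, hx, y, hy, ⟨mkAtom _ x y hx hy hxy, by simp [h0x], fun _ => by simp [h0y]⟩,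
        by show 1 = e; omega, fun R L hR hL _ =>
        ⟨⟨le_rfl, fun h' => by simp at h', fun h' => by simp at h'⟩,
         ⟨hle R L hR hL.frame, fun h' => by simp at h', fun h' => by simp at h', fun h' => by simp at h',
          fun h' => by simp at h'⟩⟩⟩
    · have mk : ∀ x ∈ W, ∀ y ∈ W, D.B x y = 1 → q x = 0 → False := fun x hx y hy hxy h0 =>
        hplus ⟨x, hx, y + q y • x, add_mem hy (W.smul_mem _ hx), by simp [hxy, D.symp.self], h0, by
          rw [hq.add, hq.smul, h0, map_smul, D.swap y x, hxy]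
          simp [CharTwo.add_self_eq_zero]⟩
      have hqv : q v ≠ 0 := fun h0 => mk v hv w hw hvw h0
      obtain ⟨s, hs⟩ := exists_sqrt F (q v)⁻¹
      have hs0 : s ≠ 0 := fun h0 => inv_ne_zero hqv (by rw [← hs, h0, mul_zero])
      obtain ⟨x, hx⟩ : ∃ x, x = s • v := ⟨_, rfl⟩
      obtain ⟨c, hc⟩ := hω (q (s⁻¹ • w))
      obtain ⟨y, hy⟩ : ∃ y, y = s⁻¹ • w + c • x := ⟨_, rfl⟩
      have hxW : x ∈ W := hx ▸ W.smul_mem _ hv
      have hyW : y ∈ W := hy ▸ add_mem (W.smul_mem _ hw) (W.smul_mem _ hxW)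
      have hxw : D.B x (s⁻¹ • w) = 1 := by simp [hx, hvw, hs0]
      have hxy : D.B x y = 1 := by simp [hy, hxw, D.symp.self, -map_smul, map_add]
      have hqx : q x = 1 := by rw [hx, hq.smul, hs, inv_mul_cancel₀ hqv]
      have hqy : q y = ω := by
        have e1 : q y = q (s⁻¹ • w) + c + c * c := by
          rw [hy, hq.add, hq.smul c x, hqx, map_smul (D.B _) c, D.swap (s⁻¹ • w) x, hxw, smul_eq_mul]
          ring
        rcases hc with hc | hc
        · exact absurd (e1.trans hc) fun h0 => mk y hyW x hxW (by rw [D.swap, hxy]) h0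
        · exact e1.trans hc
      have hat : D.OIsAtom q ω ⟨1, true, true⟩ x y := ⟨mkAtom _ x y hxW hyW hxy, by simp [hqx], fun _ => by simp [hqy]⟩
      refine ⟨_, x, hxW, y, hyW, hat, by show 1 = e; omega, fun R L hR hL hperp =>
        ⟨⟨le_rfl, fun h' => by simp at h', fun _ _ => odd_one⟩,
         ⟨hle R L hR hL.frame, fun h' => by simp at h', fun _ _ b hb => ?_, fun _ h' => by simp at h',
          fun h' => by simp at h'⟩⟩⟩
      obtain ⟨t, ht, t', ht', htt⟩ := hL.owitness hb
      have hb1 : b.e ≠ 1 := by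
        intro hbe
        have hbp : b.pair = true := by
          by_contra h'
          obtain ⟨j, hj⟩ := htt.atom.even (by simpa using h')
          omega
        have o : ∀ z ∈ R, D.B x z = 0 ∧ D.B z y = 0 := fun z hz =>
          ⟨hperp hz _ hat.atom.v_mem, by rw [D.swap]; exact hperp hz _ hat.atom.w_mem⟩
        obtain ⟨u, hu, hqu⟩ : ∃ u ∈ R, q u = 1 := by
          by_cases ho : b.om = true
          · exact ⟨t, ht, by rw [htt.qv0, if_pos hbp, if_pos ⟨ho, hbe⟩]⟩
          · refine ⟨t + t', add_mem ht ht', ?_⟩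
            have := htt.atom.cross hbp 0
            rw [pow_zero, Module.End.one_apply, if_pos (by omega)] at this
            rw [hq.add, htt.qv0, if_pos hbp, htt.qw0 hbp, if_neg (by tauto), if_neg (by tauto), this]
            simp
        refine mk (x + u) (add_mem hxW (hR hu)) y hyW ?_ ?_
        · simp [hxy, (o u hu).2]
        · rw [hq.add, hqx, hqu, (o u hu).1]; simp [CharTwo.add_self_eq_zero]
      have := htt.atom.pos
      exact ⟨hb1, fun hbe => by simp only at hbe; omega⟩
  rcases Bool.eq_false_or_eq_true a.pair with hpr | hpr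
  · obtain ⟨v', hv', w', hw', ha', h0v, h0w⟩ := addtop_pair hq ha hpr (by omega)
    refine ⟨a, v', hple hv', w', hple hw', ⟨ha', by rw [h0v, if_pos hpr, if_neg (by omega)],
      fun _ => by rw [h0w, if_neg (by omega)]⟩, hae, fun R L hR hL hperp =>
        hgood R L hR hL.frame (by rw [← piece_eq ha ha' hv' hw']; exact hperp)⟩
  by_cases he2 : a.e = 2
  swap
  · obtain ⟨v', hv', ha', h0v⟩ := addtop_cyc hq ha hpr (by
      obtain ⟨j, hj⟩ := ha.even hpr; omega)
    refine ⟨a, v', hple hv', v', hple hv', ⟨ha', by rw [h0v, if_neg (by simp [hpr]), if_neg (by omega)],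
      fun h' => by simp [hpr] at h'⟩, hae, fun R L hR hL hperp =>
        hgood R L hR hL.frame (by rw [← piece_eq ha ha' hv' hv']; exact hperp)⟩
  -- exponent two, one generator
  have h2 : ∀ x ∈ W, (D.N ^ 2) x = 0 := fun x hx => by
    have := hk x hx; rwa [← hae, he2] at this
  have hP : ¬ ∃ v ∈ W, ∃ w ∈ W, D.Pre 2 v w := by
    have := hnoP hpr; rwa [← hae, he2] at this
  have hv1 : D.Q 0 v = 1 := by rw [ha.qc hpr, if_pos (by omega)]
  have mkAtom : ∀ (o : Bool) (x : V), x ∈ W → D.Q 0 x = 1 → D.IsAtom ω ⟨2, false, o⟩ x x := by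
    intro o x hx hx1
    refine ⟨by simp, h2 x hx, h2 x hx, fun h' => by simp at h', fun h' => by simp at h', fun h' => by simp at h',
      fun _ => ⟨1, rfl⟩, fun _ l => ?_, fun _ => rfl⟩
    rcases Nat.eq_zero_or_pos l with rfl | hl
    · simp [hx1]
    · rw [D.Q_kill (h2 x hx) (by omega), if_neg (by simp only; omega), if_neg (by simp only; omega)]
  have hle : ∀ R L, R ≤ W → D.Frame ω R L → ∀ b ∈ L, b.e ≤ 2 := fun R L hR hL b hb => by
    obtain ⟨x, hx, _, _, hxy⟩ := hL.witness hb
    exact atom_le hxy (hR hx) h2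
  have hpf : ∀ R L, R ≤ W → D.Frame ω R L → ∀ b ∈ L, b.e = 2 → b.pair = false := fun R L hR hL =>
    pairFirst_of_no_pre (by norm_num) h2 hP hR hL
  by_cases hzero : ∃ x ∈ W, D.Q 0 x = 1 ∧ q x = 0
  · obtain ⟨x, hx, hx1, hx0⟩ := hzero
    have hat : D.IsAtom ω ⟨2, false, false⟩ x x := mkAtom _ x hx hx1
    refine ⟨_, x, hx, x, hx, ⟨hat, by simp [hx0], fun h' => by simp at h'⟩, by show 2 = e; omega,
      fun R L hR hL hperp => ⟨⟨by simp, fun _ => ⟨1, rfl⟩, fun h' => by simp at h'⟩,
        ⟨hle R L hR hL.frame, fun _ => hpf R L hR hL.frame, fun h' => by simp at h', fun h' => by simp at h',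
          fun _ => three_of_no_pre (k := 0) rfl h2 hP hat hx rfl rfl hR hL.frame hperp⟩⟩⟩
  · obtain ⟨c, hc⟩ := hω (q v)
    obtain ⟨x, hx⟩ : ∃ x, x = v + c • D.N v := ⟨_, rfl⟩
    have hxW : x ∈ W := hx ▸ add_mem hv (W.smul_mem _ (hW.N_mem v hv))
    have hk2 : ∀ p m, 2 ≤ m → D.B (D.Z p m v) v = 0 := fun p m hm => by
      rw [D.Z_kill (h2 v hv) p hm, map_zero, LinearMap.zero_apply]
    have hx1 : D.Q 0 x = 1 := by
      rw [hx, show D.N v = (D.N ^ 1) v by rw [pow_one], Q_add, Q_smul, Q_N, hk2 _ _ (by omega), map_smul, form_N,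
        hk2 _ _ (by omega), hv1]
      simp
    have hbN : D.B (D.N v) v = 1 := by
      rw [Q, D.Z_top (h2 v hv) _ (by omega), pow_one] at hv1; exact hv1
    have hqx : q x = ω := by
      have e1 : q x = q v + c + c * c := by
        rw [hx, hq.add, hq.smul, hq.q_N, hbN, map_smul, D.swap v (D.N v), hbN]
        simp only [smul_eq_mul]; ring
      rcases hc with hc | hc
      · exact absurd ⟨x, hxW, hx1, e1.trans hc⟩ hzero
      · exact e1.trans hc
    have hat : D.IsAtom ω ⟨2, false, true⟩ x x := mkAtom _ x hxW hx1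
    refine ⟨_, x, hxW, x, hxW, ⟨hat, by simp [hqx], fun h' => by simp at h'⟩, by show 2 = e; omega,
      fun R L hR hL hperp => ⟨⟨by simp, fun _ => ⟨1, rfl⟩, fun _ h' => by simp at h'⟩,
        ⟨hle R L hR hL.frame, fun _ => hpf R L hR hL.frame, fun _ h' => by simp at h', fun _ _ b hb => ?_,
          fun _ => three_of_no_pre (k := 0) rfl h2 hP hat hxW rfl rfl hR hL.frame hperp⟩⟩⟩
    obtain ⟨t, ht, t', ht', htt⟩ := hL.owitness hb
    obtain ⟨s, hs⟩ := exists_sqrt F ω
    have key : ¬ ∃ u ∈ R, D.Q 0 u = 0 ∧ q u = 1 := by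
      rintro ⟨u, hu, hu0, hqu⟩
      have o : ∀ p m, D.B (D.Z p m x) u = 0 := fun p m =>
        hperp hu _ (hat.inv_piece.Z_mem D p m hat.v_mem)
      refine hzero ⟨x + s • u, add_mem hxW (W.smul_mem _ (hR hu)), ?_, ?_⟩
      · rw [Q_add, Q_smul, hu0, map_smul, o, hx1]; simp
      · have o0 := o 0 0
        simp [Z] at o0
        rw [hq.add, hq.smul, hqu, map_smul, o0, hqx, mul_one, hs]
        simp [CharTwo.add_self_eq_zero]
    have hb2 : b.e ≠ 2 := by
      intro hbe
      have hbp := hpf R L hR hL.frame b hb hbe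
      refine key ⟨D.N t, hL.frame.inv.N_mem t ht, ?_, ?_⟩
      · rw [show D.N t = (D.N ^ 1) t by rw [pow_one], Q_N, D.Z_kill (h2 t (hR ht)) _ (by omega), map_zero,
          LinearMap.zero_apply]
      · have e1 := htt.atom.qc hbp 0
        rw [if_pos (by omega), Q, D.Z_top htt.atom.kv _ (by omega), pow_one] at e1
        rw [hq.q_N, e1]
    refine ⟨hb2, fun hbe => ?_, fun hbe => ?_⟩
    · simp only at hbe
      have hbp : b.pair = true := by
        by_contra h'
        obtain ⟨j, hj⟩ := htt.atom.even (by simpa using h')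
        omega
      have hk1 : ∀ z, (D.N ^ b.e) z = 0 → D.Q 0 z = 0 := fun z hz => D.Q_kill hz (by omega)
      by_cases ho : b.om = true
      · exact key ⟨t, ht, hk1 t htt.atom.kv, by rw [htt.qv0, if_pos hbp, if_pos ⟨ho, by omega⟩]⟩
      · refine key ⟨t + t', add_mem ht ht', hk1 _ (by rw [map_add, htt.atom.kv, htt.atom.kw, add_zero]), ?_⟩
        have := htt.atom.cross hbp 0
        rw [pow_zero, Module.End.one_apply, if_pos (by omega)] at this
        rw [hq.add, htt.qv0, if_pos hbp, htt.qw0 hbp, if_neg (by tauto), if_neg (by tauto), this]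
        simp
    · simp only at hbe
      have := htt.atom.pos
      omega

/-- Every nondegenerate invariant subspace of the quadratic space decomposes. -/
theorem exists_oframe (hq : D.IsQuad q) (hω : ∀ a : F, ∃ c : F, a + c + c * c = 0 ∨ a + c + c * c = ω) :
    ∀ (n : ℕ) (W : Submodule F V), finrank F W = n → D.Inv W → D.NonDeg W →
      (∃ M, ∀ x ∈ W, (D.N ^ M) x = 0) → ∃ L, D.OFrame q ω W L ∧ GoodList L := by
  classical
  intro n
  induction n using Nat.strong_induction_on with
  | _ n ih =>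
  intro W hn hW hnd hM
  rcases eq_or_ne W ⊥ with rfl | hW0
  · exact ⟨[], OFrame.nil, trivial⟩
  obtain ⟨a, v, hv, w, hw, ha, hae, hgood⟩ := exists_otop hq hω W hW hnd hW0 (Nat.find_spec hM)
    fun i hi => Nat.find_min hM hi
  obtain ⟨hsup, hndR⟩ := ha.atom.split hnd (piece_le hW hv hw)
  have hlt : finrank F ↥(W ⊓ D.orth (D.piece a v w)) < n := by
    have e1 := Submodule.finrank_sup_add_finrank_inf_eq (D.piece a v w) (W ⊓ D.orth (D.piece a v w))
    rw [hsup, (ha.atom.disjoint.mono_right inf_le_right).eq_bot, finrank_bot, add_zero, hn,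
      ha.atom.finrank_piece, Atom.dim] at e1
    have := ha.atom.pos
    split_ifs at e1 <;> omega
  obtain ⟨L, hL, hg⟩ := ih _ hlt _ rfl (hW.inf D (ha.atom.inv_piece.orth D)) hndR
    (hM.imp fun M hM x hx => hM x hx.1)
  obtain ⟨h1, h2⟩ := hgood _ L inf_le_left hL inf_le_right
  exact ⟨a :: L, hsup ▸ OFrame.cons ha hL inf_le_right, h1, h2, hg⟩

end UData

end Cfsg.Agent.Lib.ClassesSpTwo46
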