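import Cfsg.Agent.Lib.ClassesSpTwo46.Greedy

/-!
Invariant quadratic forms in characteristic two, and their Gauss sums with respect to the character
trivial exactly on `{c + c²}`.

Owner: helper46.
-/

set_option autoImplicit false
set_option linter.unusedSectionVars false

namespace Cfsg.Agent.Lib.ClassesSpTwo46

open Module

universe u v

variable {F : Type u} [Field F] {V : Type v} [AddCommGroup V] [Module F V] [CharP F 2]

/-- A sign on `F` that is additive and trivial exactly on the values `c + c²`. -/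
structure Sgn (F : Type u) [Field F] where
  /-- the value -/
  f : F → ℤ
  /-- the distinguished non-value -/
  ω : F
  omega_spec : ∀ a : F, ∃ c : F, a + c + c * c = 0 ∨ a + c + c * c = ω
  map_add : ∀ a b, f (a + b) = f a * f b
  map_wp : ∀ c, f (c + c * c) = 1
  map_omega : f ω = -1

theorem exists_sgn [Finite F] : Nonempty (Sgn F) := by
  classical
  obtain ⟨ω, hne, hω⟩ := exists_omega (F := F)
  have hsum : ∀ c d : F, (c + d) + (c + d) * (c + d) = (c + c * c) + (d + d * d) := fun c d => by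
    linear_combination CharTwo.add_self_eq_zero (c * d)
  refine ⟨⟨fun a => if ∃ c, c + c * c = a then 1 else -1, ω, hω, fun a b => ?_, fun c => if_pos ⟨c, rfl⟩,
    if_neg fun ⟨c, hc⟩ => hne c hc⟩⟩
  have key : ∀ a, (¬ ∃ c, c + c * c = a) → ∃ c, c + c * c = a + ω := fun a ha => by
    obtain ⟨c, hc | hc⟩ := hω a
    · exact absurd ⟨c, by linear_combination hc - CharTwo.add_self_eq_zero a⟩ ha
    · exact ⟨c, by linear_combination hc - CharTwo.add_self_eq_zero a⟩
  by_cases ha : ∃ c, c + c * c = a <;> by_cases hb : ∃ c, c + c * c = b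
  · obtain ⟨c, rfl⟩ := ha; obtain ⟨d, rfl⟩ := hb
    rw [if_pos ⟨c + d, hsum c d⟩, if_pos ⟨c, rfl⟩, if_pos ⟨d, rfl⟩]; rfl
  · obtain ⟨c, rfl⟩ := ha
    rw [if_neg, if_pos ⟨c, rfl⟩, if_neg hb]; · rfl
    rintro ⟨d, hd⟩
    exact hb ⟨c + d, by rw [hsum, hd]; linear_combination CharTwo.add_self_eq_zero (c + c * c)⟩
  · obtain ⟨d, rfl⟩ := hb
    rw [if_neg, if_neg ha, if_pos ⟨d, rfl⟩]; · rfl
    rintro ⟨c, hc⟩
    exact ha ⟨c + d, by rw [hsum, hc]; linear_combination CharTwo.add_self_eq_zero (d + d * d)⟩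
  · obtain ⟨c, hc⟩ := key a ha; obtain ⟨d, hd⟩ := key b hb
    rw [if_pos ⟨c + d, by rw [hsum, hc, hd]; linear_combination CharTwo.add_self_eq_zero ω⟩, if_neg ha,
      if_neg hb]
    rfl

namespace Sgn

variable (ψ : Sgn F)

theorem map_zero : ψ.f 0 = 1 := by simpa using ψ.map_wp 0

theorem eq_or (a : F) : ψ.f a = 1 ∨ ψ.f a = -1 := by
  have h := ψ.map_add a a
  rw [CharTwo.add_self_eq_zero, map_zero] at h
  exact (mul_self_eq_one_iff.1 h.symm)

theorem map_sq (c : F) : ψ.f (c * c) = ψ.f c := by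
  have h := ψ.map_wp c
  rw [ψ.map_add] at h
  rcases ψ.eq_or c with h1 | h1 <;> rw [h1] at h ⊢ <;> linarith

theorem exists_neg {x : F} (hx : x ≠ 0) : ∃ c, ψ.f (c * x) = -1 :=
  ⟨ψ.ω / x, by rw [div_mul_cancel₀ _ hx, ψ.map_omega]⟩

theorem exists_root (a : F) (h : ψ.f a = 1) : ∃ c, c + c * c = a := by
  obtain ⟨c, hc | hc⟩ := ψ.omega_spec a
  · exact ⟨c, by linear_combination hc - CharTwo.add_self_eq_zero a⟩
  · have h' := congrArg ψ.f hc
    rw [add_assoc, ψ.map_add, h, ψ.map_wp, ψ.map_omega] at h'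
    norm_num at h'

theorem sum_mul [Fintype F] (x : F) [Decidable (x = 0)] :
    ∑ c : F, ψ.f (c * x) = if x = 0 then (Fintype.card F : ℤ) else 0 := by
  split_ifs with hx
  · simp [hx, ψ.map_zero]
  · obtain ⟨c₀, hc₀⟩ := ψ.exists_neg hx
    have h : ∑ c : F, ψ.f (c * x) = ∑ c : F, ψ.f ((c + c₀) * x) :=
      (Equiv.sum_comp (Equiv.addRight c₀) fun c => ψ.f (c * x)).symm
    simp only [add_mul, ψ.map_add, hc₀, mul_neg_one, Finset.sum_neg_distrib] at h
    linarith

end Sgn

namespace UData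

variable (D : UData F V)

/-- An invariant quadratic form with polar form `B`. -/
structure IsQuad (q : V → F) : Prop where
  smul : ∀ (c : F) v, q (c • v) = c * c * q v
  add : ∀ u v, q (u + v) = q u + q v + D.B u v
  inv : ∀ v, q (D.T v) = q v

variable {D} {q : V → F}

theorem IsQuad.zero (hq : D.IsQuad q) : q 0 = 0 := by simpa using hq.smul 0 0

theorem IsQuad.q_N (hq : D.IsQuad q) (v : V) : q (D.N v) = D.B (D.N v) v := by
  rw [N_apply, hq.add, hq.inv, CharTwo.add_self_eq_zero, zero_add, map_add, LinearMap.add_apply, D.symp.self,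
    add_zero]

theorem IsQuad.q_Npow (hq : D.IsQuad q) (i : ℕ) (v : V) :
    q ((D.N ^ (i + 1)) v) = D.B (D.Z i (i + i + 1) v) v := by
  rw [pow_succ', Module.End.mul_apply, hq.q_N, ← Module.End.mul_apply, ← pow_succ', ← D.Z_zero (i + 1),
    form_N, show i + (i + 1) = i + i + 1 by omega, add_zero]

/-- The Gauss sum of `q` over a subspace. -/
noncomputable def gsum [Finite V] (ψ : Sgn F) (q : V → F) (W : Submodule F V) : ℤ :=
  ∑ x ∈ (Set.toFinite (W : Set V)).toFinset, ψ.f (q x)

variable [Finite V] (ψ : Sgn F)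

theorem gsum_sup (hq : D.IsQuad q) {M R : Submodule F V} (hd : Disjoint M R) (ho : R ≤ D.orth M) :
    gsum ψ q (M ⊔ R) = gsum ψ q M * gsum ψ q R := by
  classical
  rw [gsum, gsum, gsum, Finset.sum_mul_sum, ← Finset.sum_product']
  refine (Finset.sum_bij (fun p _ => p.1 + p.2) (fun p hp => ?_) (fun p hp p' hp' h => ?_) (fun x hx => ?_)
    fun p hp => ?_).symm <;> simp only [Finset.mem_product, Set.Finite.mem_toFinset, SetLike.mem_coe] at *
  · exact Submodule.add_mem_sup hp.1 hp.2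
  · have h0 : p.1 - p'.1 = p'.2 - p.2 := by rw [sub_eq_sub_iff_add_eq_add, h]; abel
    have h1 : p.1 = p'.1 := sub_eq_zero.1
      (Submodule.disjoint_def.1 hd _ (sub_mem hp.1 hp'.1) (h0 ▸ sub_mem hp'.2 hp.2))
    exact Prod.ext h1 (by rw [h1] at h; exact add_left_cancel h)
  · obtain ⟨y, hy, z, hz, rfl⟩ := Submodule.mem_sup.1 hx
    exact ⟨(y, z), ⟨hy, hz⟩, rfl⟩
  · rw [hq.add, ho hp.2 _ hp.1, add_zero, ψ.map_add]

theorem gsum_bot (hq : D.IsQuad q) : gsum ψ q (⊥ : Submodule F V) = 1 := by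
  have : (Set.toFinite ((⊥ : Submodule F V) : Set V)).toFinset = {0} := by ext; simp
  rw [gsum, this, Finset.sum_singleton, hq.zero, ψ.map_zero]

/-- Translation along a totally singular subspace. -/
theorem gsum_singular (hq : D.IsQuad q) {M H : Submodule F V} (hH : H ≤ M) (hs : ∀ h ∈ H, q h = 0) :
    gsum ψ q M = gsum ψ q (M ⊓ D.orth H) := by
  classical
  set Hs := (Set.toFinite (H : Set V)).toFinset
  set Ms := (Set.toFinite (M : Set V)).toFinset with hMs
  have e1 : ∀ h ∈ Hs, gsum ψ q M = ∑ x ∈ Ms, ψ.f (q x) * ψ.f (D.B x h) := by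
    intro h hh
    simp only [Hs, Set.Finite.mem_toFinset, SetLike.mem_coe] at hh
    have hm := hH hh
    refine (Finset.sum_bij (fun x _ => x + h) (fun x hx => ?_) (fun x _ y _ e => add_right_cancel e)
      (fun x hx => ⟨x - h, ?_, sub_add_cancel x h⟩) fun x hx => ?_).symm <;>
      simp only [Ms, Set.Finite.mem_toFinset, SetLike.mem_coe] at *
    · exact add_mem hx hm
    · exact sub_mem hx hm
    · rw [hq.add, hs h hh, add_zero, ψ.map_add]
  have e2 : ∀ x, (∑ h ∈ Hs, ψ.f (D.B x h)) = if x ∈ D.orth H then (Hs.card : ℤ) else 0 := by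
    intro x
    split_ifs with hx
    · rw [Finset.sum_congr rfl fun h hh => (by
        simp only [Hs, Set.Finite.mem_toFinset, SetLike.mem_coe] at hh
        rw [D.swap, hx h hh, ψ.map_zero] : ψ.f (D.B x h) = (1 : ℤ))]
      simp
    · simp only [mem_orth, not_forall] at hx
      obtain ⟨h₀, hh₀, hne⟩ := hx
      obtain ⟨c, hc⟩ := ψ.exists_neg hne
      have h := Finset.sum_bij (s := Hs) (t := Hs) (f := fun h => ψ.f (D.B x (h + c • h₀)))
        (g := fun h => ψ.f (D.B x h)) (fun h _ => h + c • h₀) (fun h hh => ?_) (fun a _ b _ e => add_right_cancel e)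
        (fun h hh => ⟨h - c • h₀, ?_, sub_add_cancel _ _⟩) fun h _ => rfl
      · simp only [map_add, map_smul, smul_eq_mul, ψ.map_add, D.swap x h₀, hc, mul_neg_one,
          Finset.sum_neg_distrib] at h
        linarith
      all_goals simp only [Hs, Set.Finite.mem_toFinset, SetLike.mem_coe] at *
      · exact add_mem hh (H.smul_mem _ hh₀)
      · exact sub_mem hh (H.smul_mem _ hh₀)
  have hpos : (0 : ℤ) < Hs.card := by
    exact_mod_cast Finset.card_pos.2 ⟨0, by simp [Hs]⟩
  refine mul_left_cancel₀ hpos.ne' ?_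
  calc (Hs.card : ℤ) * gsum ψ q M = ∑ h ∈ Hs, gsum ψ q M := by rw [Finset.sum_const, nsmul_eq_mul]
    _ = ∑ h ∈ Hs, ∑ x ∈ Ms, ψ.f (q x) * ψ.f (D.B x h) := Finset.sum_congr rfl e1
    _ = ∑ x ∈ Ms, ψ.f (q x) * if x ∈ D.orth H then (Hs.card : ℤ) else 0 := by
      rw [Finset.sum_comm]; exact Finset.sum_congr rfl fun x _ => by rw [← Finset.mul_sum, e2]
    _ = _ := by
      have hf : (Set.toFinite ((M ⊓ D.orth H : Submodule F V) : Set V)).toFinset =
          Ms.filter fun x => x ∈ D.orth H := by ext; simp [Ms]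
      rw [gsum, hf, Finset.sum_filter, Finset.mul_sum]
      exact Finset.sum_congr rfl fun x _ => by split_ifs <;> ring

/-- The sum over the whole nondegenerate space is not zero. -/
theorem gsum_top_ne_zero (hq : D.IsQuad q) : gsum ψ q (⊤ : Submodule F V) ≠ 0 := by
  classical
  haveI := Fintype.ofFinite V
  have e : gsum ψ q (⊤ : Submodule F V) = ∑ x : V, ψ.f (q x) := by
    rw [gsum]; exact Finset.sum_congr (by ext; simp) fun _ _ => rfl
  have hz : ∀ w : V, ∑ v : V, ψ.f (D.B v w) = if w = 0 then (Fintype.card V : ℤ) else 0 := by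
    intro w
    split_ifs with hw
    · simp [hw, ψ.map_zero]
    · obtain ⟨v₀, hv₀⟩ : ∃ v₀, D.B v₀ w ≠ 0 := by
        by_contra h
        simp only [not_exists, not_not] at h
        exact hw (D.symp.nondeg w fun v => by rw [D.swap]; exact h v)
      obtain ⟨c, hc⟩ := ψ.exists_neg hv₀
      have h : ∑ v : V, ψ.f (D.B v w) = ∑ v : V, ψ.f (D.B (v + c • v₀) w) :=
        (Equiv.sum_comp (Equiv.addRight (c • v₀)) fun v => ψ.f (D.B v w)).symm
      simp only [map_add, map_smul, LinearMap.add_apply, LinearMap.smul_apply, smul_eq_mul, ψ.map_add, hc,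
        mul_neg_one, Finset.sum_neg_distrib] at h
      linarith
  have hsq : (∑ x : V, ψ.f (q x)) * (∑ x : V, ψ.f (q x)) = (Fintype.card V : ℤ) := by
    have h1 : ∀ v : V, (∑ u : V, ψ.f (q u)) * ψ.f (q v) = ∑ w : V, ψ.f (q w) * ψ.f (D.B v w) := by
      intro v
      rw [Finset.sum_mul, ← Equiv.sum_comp (Equiv.addRight v)]
      refine Finset.sum_congr rfl fun w _ => ?_
      rw [Equiv.coe_addRight, hq.add, ψ.map_add, ψ.map_add, D.swap w v]
      rcases ψ.eq_or (q v) with h | h <;> rw [h] <;> ring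
    rw [Finset.mul_sum, Finset.sum_congr rfl fun v _ => h1 v, Finset.sum_comm]
    simp only [← Finset.mul_sum, hz, mul_ite, mul_zero, Finset.sum_ite_eq', Finset.mem_univ, if_true, hq.zero,
      ψ.map_zero, one_mul]
  rw [e]
  intro h0
  rw [h0, zero_mul] at hsq
  exact Fintype.card_ne_zero (α := V) (by exact_mod_cast hsq.symm)

theorem gsum_plane [Fintype F] (hq : D.IsQuad q) {x y : V} (h : D.B x y = 1) :
    gsum ψ q (Submodule.span F {x} ⊔ Submodule.span F {y}) = Fintype.card F * ψ.f (q x * q y) := by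
  classical
  have hinj : ∀ a b : F, a • x + b • y = 0 → a = 0 ∧ b = 0 := fun a b h0 => by
    have h1 := congrArg (fun z => D.B z y) h0
    have h2 := congrArg (fun z => D.B x z) h0
    simp [D.symp.self, h] at h1 h2
    exact ⟨h1, h2⟩
  have e : gsum ψ q (Submodule.span F {x} ⊔ Submodule.span F {y}) = ∑ p : F × F, ψ.f (q (p.1 • x + p.2 • y)) := by
    refine (Finset.sum_bij (fun p _ => p.1 • x + p.2 • y) (fun p _ => ?_) (fun p _ p' _ h => ?_) (fun z hz => ?_)
      fun p _ => rfl).symm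
    · simp only [Set.Finite.mem_toFinset, SetLike.mem_coe]
      exact Submodule.add_mem_sup (Submodule.smul_mem _ _ (Submodule.mem_span_singleton_self x))
        (Submodule.smul_mem _ _ (Submodule.mem_span_singleton_self y))
    · have h0 : (p.1 - p'.1) • x + (p.2 - p'.2) • y = 0 := by
        rw [sub_smul, sub_smul, sub_add_sub_comm, h, sub_self]
      obtain ⟨h1, h2⟩ := hinj _ _ h0
      exact Prod.ext (sub_eq_zero.1 h1) (sub_eq_zero.1 h2)
    · simp only [Set.Finite.mem_toFinset, SetLike.mem_coe] at hz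
      obtain ⟨u, hu, w, hw, rfl⟩ := Submodule.mem_sup.1 hz
      obtain ⟨a, rfl⟩ := Submodule.mem_span_singleton.1 hu
      obtain ⟨b, rfl⟩ := Submodule.mem_span_singleton.1 hw
      exact ⟨(a, b), Finset.mem_univ _, rfl⟩
  obtain ⟨r, hr⟩ := exists_sqrt F (q y)
  have hterm : ∀ a b, ψ.f (q (a • x + b • y)) = ψ.f (a * a * q x) * ψ.f (b * (a + r)) := by
    intro a b
    have e1 : q (a • x + b • y) = a * a * q x + ((b * r) * (b * r) + a * b) := by
      simp only [hq.add, hq.smul, map_smul, LinearMap.smul_apply, h, smul_eq_mul, ← hr]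
      ring
    rw [e1, ψ.map_add, ψ.map_add, ψ.map_sq, ← ψ.map_add, show b * r + a * b = b * (a + r) by ring]
  rw [e, Fintype.sum_prod_type]
  simp only [hterm, ← Finset.mul_sum, ψ.sum_mul, mul_ite, mul_zero]
  rw [Finset.sum_eq_single r]
  · rw [if_pos (CharTwo.add_self_eq_zero r), show r * r * q x = q x * q y by rw [hr, mul_comm], mul_comm]
  · intro a _ ha
    rw [if_neg fun h0 => ha (CharTwo.add_eq_zero.1 h0)]
  · intro hn; exact absurd (Finset.mem_univ _) hn

end UData

end Cfsg.Agent.Lib.ClassesSpTwo46
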