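import Cfsg.Agent.Lib.ClassesSpTwo46.Greedy
import Cfsg.Agent.Lib.ClassesSpTwo46.OQuad
import Mathlib.RingTheory.AdjoinRoot
import Mathlib.Algebra.Polynomial.Expand

/-!
A regular element of an orthogonal group with given trace polynomial `h`, and the sign of its form: it is
the sign of `h₁ / h₀`.

Owner: helper46.
-/

set_option autoImplicit false
set_option linter.unusedSectionVars false

namespace Cfsg.Agent.Lib.ClassesSpTwo46

open Polynomial Module
open Cfsg.Agent.Lib.Symplectic (IsSympForm)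

universe u

variable {F : Type u} [Field F] [Fintype F] [CharP F 2]

/-! ### A residue identity -/

theorem deriv_deriv (f : F[X]) : derivative (derivative f) = 0 := by
  ext i
  rw [coeff_derivative, coeff_derivative, coeff_zero, mul_assoc]
  have h : (((i + 1 : ℕ) : F) + 1) * ((i : F) + 1) = 0 := by
    have : ((((i + 1 + 1) * (i + 1)) : ℕ) : F) = 0 := by
      rw [CharP.cast_eq_zero_iff F 2, mul_comm]
      exact even_iff_two_dvd.1 (Nat.even_mul_succ_self (i + 1))
    push_cast at this ⊢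
    exact this
  rw [h, mul_zero]

theorem exists_sq_deriv (f : F[X]) : ∃ v : F[X], v ^ 2 = derivative f := by
  refine ⟨(contract 2 (derivative f)).map ((frobeniusEquiv F 2).symm : F →+* F), ?_⟩
  rw [← map_frobenius_expand, map_expand, Polynomial.map_map]
  have : (frobenius F 2).comp ((frobeniusEquiv F 2).symm : F →+* F) = RingHom.id F := RingHom.ext fun c => by
    simp [frobenius_apply_frobeniusEquiv_symm]
  rw [this, Polynomial.map_id, expand_contract 2 (deriv_deriv f) two_ne_zero]

/-- The top coefficient of the reduction modulo `h`. -/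
noncomputable def lam (h : F[X]) (n : ℕ) : F[X] →ₗ[F] F := (lcoeff F (n - 1)).comp (Polynomial.modByMonicHom h)

theorem lam_apply (h : F[X]) (n : ℕ) (p : F[X]) : lam h n p = (p %ₘ h).coeff (n - 1) := rfl

theorem lam_small {h : F[X]} (hm : h.Monic) {n : ℕ} {p : F[X]} (hp : p.degree < h.degree) :
    lam h n p = p.coeff (n - 1) := by rw [lam_apply, (modByMonic_eq_self_iff hm).2 hp]

theorem lam_mul_self {h : F[X]} (hm : h.Monic) (n : ℕ) (p : F[X]) : lam h n (h * p) = 0 := by
  rw [lam_apply, (modByMonic_eq_zero_iff_dvd hm).2 (dvd_mul_right h p), coeff_zero]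

/-- If `v² = (g h)'` then `λ (g b²) = λ (v b)²`. -/
theorem lam_sq {h : F[X]} (hm : h.Monic) {n : ℕ} (hd : h.natDegree = n) (hn : 1 ≤ n) {g v : F[X]}
    (hv : v ^ 2 = derivative (g * h)) (b : F[X]) : lam h n (g * b ^ 2) = lam h n (v * b) * lam h n (v * b) := by
  obtain ⟨w, hw⟩ : ∃ w, w = (g * b ^ 2) %ₘ h := ⟨_, rfl⟩
  obtain ⟨t, ht⟩ : ∃ t, t = (g * b ^ 2) /ₘ h := ⟨_, rfl⟩
  obtain ⟨r, hr⟩ : ∃ r, r = (v * b) %ₘ h := ⟨_, rfl⟩
  obtain ⟨s, hs⟩ : ∃ s, s = (v * b) /ₘ h := ⟨_, rfl⟩
  have e1 : w + h * t = g * b ^ 2 := by rw [hw, ht]; exact modByMonic_add_div _ _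
  have e2 : r + h * s = v * b := by rw [hr, hs]; exact modByMonic_add_div _ _
  have h2 : (2 : F[X]) = 0 := CharTwo.two_eq_zero
  have key : derivative (w * h) + r ^ 2 = h ^ 2 * (s ^ 2 + derivative t) := by
    have d1 : derivative (g * b ^ 2 * h) = v ^ 2 * b ^ 2 := by
      rw [show g * b ^ 2 * h = g * h * b ^ 2 by ring, derivative_mul, hv, derivative_pow]
      simp [h2, CharTwo.two_eq_zero]
    have d2 : derivative (g * b ^ 2 * h) = derivative (w * h) + h ^ 2 * derivative t := by
      rw [← e1, add_mul, derivative_add, show h * t * h = t * h ^ 2 by ring, derivative_mul (f := t),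
        derivative_pow]
      simp [h2, CharTwo.two_eq_zero, mul_comm]
    rw [d1, ← mul_pow, ← e2] at d2
    linear_combination (derivative (w * h)) * h2 + d2.symm * (-1 : F[X]) - (h ^ 2 * s ^ 2 + h * s * r) * h2
  have hwd : w.natDegree < n := by
    rw [hw, ← hd]; exact natDegree_modByMonic_lt _ hm (fun e => by rw [e, natDegree_one] at hd; omega)
  have hrd : r.natDegree < n := by
    rw [hr, ← hd]; exact natDegree_modByMonic_lt _ hm (fun e => by rw [e, natDegree_one] at hd; omega)
  have hzero : s ^ 2 + derivative t = 0 := by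
    by_contra hne
    have hdeg : (derivative (w * h) + r ^ 2).natDegree < n + n := by
      refine lt_of_le_of_lt (natDegree_add_le _ _) (max_lt ?_ ?_)
      · have := natDegree_derivative_le (w * h)
        have := natDegree_mul_le (p := w) (q := h)
        omega
      · have := natDegree_pow_le (p := r) (n := 2)
        omega
    rw [key, natDegree_mul (pow_ne_zero _ hm.ne_zero) hne, natDegree_pow, hd] at hdeg
    omega
  rw [hzero, mul_zero] at key
  have e3 : derivative (w * h) = r ^ 2 := CharTwo.add_eq_zero.1 key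
  have e4 := congrArg (fun p => p.coeff (n - 1 + (n - 1))) e3
  simp only [coeff_derivative] at e4
  rw [show n - 1 + (n - 1) + 1 = n - 1 + n by omega, sq r,
    coeff_mul_add_eq_of_natDegree_le (by omega) (by omega) (f := r) (g := r),
    coeff_mul_add_eq_of_natDegree_le (by omega) hd.le (f := w) (g := h),
    show h.coeff n = 1 by rw [← hd]; exact hm.coeff_natDegree, mul_one,
    show ((n - 1 + (n - 1) : ℕ) : F) + 1 = 1 by rw [Nat.cast_add, CharTwo.add_self_eq_zero, zero_add],
    mul_one] at e4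
  rw [lam_apply, lam_apply, ← hw, ← hr]
  exact e4

/-- The inverse of `X` modulo `h`, and the value of `λ (v²)`. -/
theorem exists_inv_X {h : F[X]} (hm : h.Monic) {n : ℕ} (hd : h.natDegree = n) (hn : 2 ≤ n) (h0 : h.coeff 0 ≠ 0) :
    ∃ g v : F[X], h ∣ X * g - 1 ∧ v ^ 2 = derivative (g * h) ∧ lam h n (v * v) = h.coeff 1 / h.coeff 0 := by
  obtain ⟨p, hp⟩ : ∃ p, p = h.divX := ⟨_, rfl⟩
  have hh : X * p + C (h.coeff 0) = h := by rw [hp]; exact X_mul_divX_add h
  have hpd : p.natDegree = n - 1 := by rw [hp, natDegree_divX_eq_natDegree_tsub_one, hd]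
  have hpt : p.coeff (n - 1) = 1 := by
    rw [hp, coeff_divX, show n - 1 + 1 = n by omega, ← hd]; exact hm.coeff_natDegree
  obtain ⟨v, hv⟩ := exists_sq_deriv (C (h.coeff 0)⁻¹ * p * h)
  refine ⟨C (h.coeff 0)⁻¹ * p, v, ⟨C (h.coeff 0)⁻¹, ?_⟩, hv, ?_⟩
  · have e' : C (h.coeff 0)⁻¹ * C (h.coeff 0) = 1 := by rw [← C_mul, inv_mul_cancel₀ h0, C_1]
    linear_combination C (h.coeff 0)⁻¹ * hh - e' - (CharTwo.two_eq_zero : (2 : F[X]) = 0)
  have hv2 : v * v = (h.coeff 0)⁻¹ • (p * p) + derivative p := by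
    have e' : C (h.coeff 0)⁻¹ * C (h.coeff 0) = 1 := by rw [← C_mul, inv_mul_cancel₀ h0, C_1]
    have h2 : (2 : F[X]) = 0 := CharTwo.two_eq_zero
    rw [smul_eq_C_mul, ← sq v, hv, mul_assoc, derivative_C_mul]
    generalize h.coeff 0 = c0 at e' hh ⊢
    rw [← hh]
    rw [mul_add, derivative_add, derivative_mul, derivative_mul, derivative_mul, derivative_X, derivative_C]
    linear_combination (derivative p) * e' + (C c0⁻¹ * X * p * derivative p) * h2
  have hsmall : ∀ i, i < n - 1 → lam h n (X ^ i) = 0 := fun i hi => by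
    rw [lam_small hm (by rw [degree_X_pow, degree_eq_natDegree hm.ne_zero, hd]; exact_mod_cast (by omega : i < n)),
      coeff_X_pow, if_neg (by omega)]
  have hmono : ∀ i, i < n → lam h n (X ^ i * p) = if i = 0 then 1 else 0 := by
    intro i hi
    rcases i with _ | i
    · rw [pow_zero, one_mul, if_pos rfl, lam_small hm ?_, hpt]
      refine degree_lt_degree ?_
      omega
    · rw [if_neg (by omega), show X ^ (i + 1) * p = h * X ^ i + h.coeff 0 • (X ^ i : F[X]) by
        rw [smul_eq_C_mul]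
        linear_combination (X : F[X]) ^ i * hh - (C (h.coeff 0) * X ^ i) * (CharTwo.two_eq_zero : (2 : F[X]) = 0),
        map_add, map_smul, lam_mul_self hm, hsmall i (by omega), smul_zero, add_zero]
  have hpp : lam h n (p * p) = h.coeff 1 := by
    have : p * p = ∑ i ∈ Finset.range n, p.coeff i • (X ^ i * p) := by
      conv_lhs => arg 1; rw [as_sum_range' p n (by omega)]
      rw [Finset.sum_mul]
      refine Finset.sum_congr rfl fun i _ => ?_
      rw [← C_mul_X_pow_eq_monomial, smul_eq_C_mul, mul_assoc]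
    rw [this, map_sum, Finset.sum_eq_single 0]
    · rw [map_smul, hmono 0 (by omega), if_pos rfl, smul_eq_mul, mul_one, hp, coeff_divX]
    · intro i hi hne
      rw [map_smul, hmono i (Finset.mem_range.1 hi), if_neg hne, smul_zero]
    · intro hh; exact absurd (Finset.mem_range.2 (by omega)) hh
  have hder : lam h n (derivative p) = 0 := by
    have hle := natDegree_derivative_le p
    rw [lam_small hm (degree_lt_degree (by omega)), coeff_eq_zero_of_natDegree_lt (by omega)]
  rw [hv2, map_add, map_smul, hpp, hder, add_zero, smul_eq_mul, div_eq_mul_inv, mul_comm]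

/-! ### The model -/

/-- A regular element with trace polynomial `h`, with the Gauss sum of its form. -/
theorem exists_model (ψ : Sgn F) {h : F[X]} (hm : h.Monic) {n : ℕ} (hd : h.natDegree = n) (hn : 2 ≤ n)
    (h0 : h.coeff 0 ≠ 0) :
    ∃ (V : Type u) (_ : AddCommGroup V) (_ : Module F V) (_ : Fintype V) (B : V →ₗ[F] V →ₗ[F] F)
      (Q : V → F) (T U : Module.End F V),
      IsSympForm B ∧ finrank F V = 2 * n ∧ (∀ (c : F) v, Q (c • v) = c * c * Q v) ∧
      (∀ u v, Q (u + v) = Q u + Q v + B u v) ∧ T * U = 1 ∧ U * T = 1 ∧ (∀ v, Q (T v) = Q v) ∧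
      (∀ u v, B (T u) (T v) = B u v) ∧ (∀ v, T v = v → v = 0) ∧ (∀ p : F[X], aeval (T + U) p = 0 ↔ h ∣ p) ∧
      ∑ v : V, ψ.f (Q v) = (Fintype.card F : ℤ) ^ n * ψ.f (h.coeff 1 / h.coeff 0) := by
  classical
  obtain ⟨g, v, ⟨c, hc⟩, hv, hval⟩ := exists_inv_X hm hd hn h0
  let l : AdjoinRoot h →ₗ[F] F := (lcoeff F (n - 1)).comp (AdjoinRoot.modByMonicHom hm)
  have hl : ∀ p, l (AdjoinRoot.mk h p) = lam h n p := fun p => rfl
  haveI : Module.Finite F (AdjoinRoot h) := (AdjoinRoot.powerBasis hm.ne_zero).finite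
  haveI : Finite (AdjoinRoot h) := Module.finite_of_finite F
  haveI : CharP (AdjoinRoot h) 2 := by
    haveI : Nontrivial (AdjoinRoot h) := AdjoinRoot.nontrivial h (by rw [degree_eq_natDegree hm.ne_zero]; exact_mod_cast (by omega : h.natDegree ≠ 0))
    exact charP_of_injective_algebraMap (algebraMap F (AdjoinRoot h)).injective 2
  letI : Fintype (AdjoinRoot h) := Fintype.ofFinite _
  have hxz : AdjoinRoot.root h * AdjoinRoot.mk h g = 1 := by
    rw [← AdjoinRoot.mk_X, ← map_mul, ← sub_eq_zero, ← map_one (AdjoinRoot.mk h), ← map_sub, AdjoinRoot.mk_eq_zero]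
    exact ⟨c, hc⟩
  have hlsq : ∀ b, l (AdjoinRoot.mk h g * (b * b)) = l (AdjoinRoot.mk h v * b) * l (AdjoinRoot.mk h v * b) := by
    intro b
    obtain ⟨p, rfl⟩ := AdjoinRoot.mk_surjective b
    rw [← map_mul (AdjoinRoot.mk h), ← map_mul (AdjoinRoot.mk h), ← map_mul (AdjoinRoot.mk h), hl, hl, ← sq,
      lam_sq hm hd (by omega) hv]
  have hnd : ∀ a, (∀ b, l (a * b) = 0) → a = 0 := by
    intro a ha
    obtain ⟨p, rfl⟩ := AdjoinRoot.mk_surjective a
    by_contra hne
    obtain ⟨r, hr⟩ : ∃ r, r = p %ₘ h := ⟨_, rfl⟩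
    have hpr : AdjoinRoot.mk h r = AdjoinRoot.mk h p := by
      rw [AdjoinRoot.mk_eq_mk, hr, modByMonic_eq_sub_mul_div, sub_sub_cancel_left, dvd_neg]
      exact dvd_mul_right _ _
    have hr0 : r ≠ 0 := fun e => hne (by rw [← hpr, e, map_zero])
    have hrd : r.natDegree < n := by
      rw [hr, ← hd]; exact natDegree_modByMonic_lt _ hm (fun e => by rw [e, natDegree_one] at hd; omega)
    have hb := ha (AdjoinRoot.mk h (X ^ (n - 1 - r.natDegree)))
    rw [← hpr, ← map_mul, hl, lam_small hm (degree_lt_degree ?_), 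
      show n - 1 = r.natDegree + (n - 1 - r.natDegree) by omega, Nat.add_sub_cancel_left, coeff_mul_X_pow,
      coeff_natDegree, leadingCoeff_eq_zero] at hb
    · exact hr0 hb
    · rw [natDegree_mul hr0 (pow_ne_zero _ X_ne_zero), natDegree_X_pow]; omega
  obtain ⟨x, hx⟩ : ∃ x, x = AdjoinRoot.root h := ⟨_, rfl⟩
  obtain ⟨z, hz⟩ : ∃ z, z = AdjoinRoot.mk h g := ⟨_, rfl⟩
  obtain ⟨w, hw⟩ : ∃ w, w = AdjoinRoot.mk h v := ⟨_, rfl⟩
  rw [← hx, ← hz] at hxz
  rw [← hz, ← hw] at hlsq
  have two : ∀ a : AdjoinRoot h, a + a = 0 := fun a => CharTwo.add_self_eq_zero a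
  let B : (AdjoinRoot h × AdjoinRoot h) →ₗ[F] (AdjoinRoot h × AdjoinRoot h) →ₗ[F] F :=
    LinearMap.mk₂ F (fun u w => l (u.1 * w.2 + u.2 * w.1))
      (fun u u' w => by simp only [Prod.fst_add, Prod.snd_add, ← map_add]; congr 1; ring)
      (fun c u w => by simp only [Prod.smul_fst, Prod.smul_snd, smul_mul_assoc, ← smul_add, map_smul, smul_eq_mul])
      (fun u w w' => by simp only [Prod.fst_add, Prod.snd_add, ← map_add]; congr 1; ring)
      (fun c u w => by simp only [Prod.smul_fst, Prod.smul_snd, mul_smul_comm, ← smul_add, map_smul, smul_eq_mul])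
  have hB : ∀ u w, B u w = l (u.1 * w.2 + u.2 * w.1) := fun u w => rfl
  let T : Module.End F (AdjoinRoot h × AdjoinRoot h) :=
    (LinearMap.snd F _ _).prod (LinearMap.fst F _ _ + (LinearMap.mulLeft F x).comp (LinearMap.snd F _ _))
  let U : Module.End F (AdjoinRoot h × AdjoinRoot h) :=
    ((LinearMap.mulLeft F x).comp (LinearMap.fst F _ _) + LinearMap.snd F _ _).prod (LinearMap.fst F _ _)
  have hT : ∀ u, T u = (u.2, u.1 + x * u.2) := fun u => rfl
  have hU : ∀ u, U u = (x * u.1 + u.2, u.1) := fun u => rfl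
  refine ⟨AdjoinRoot h × AdjoinRoot h, inferInstance, inferInstance, inferInstance, B,
    fun u => l (u.1 * u.2 + z * (u.1 * u.1 + u.2 * u.2)), T, U, ⟨fun u => ?_, fun u hu => ?_⟩, ?_, fun c u => ?_,
    fun u w => ?_, ?_, ?_, fun u => ?_, fun u w => ?_, fun u hu => ?_, fun p => ?_, ?_⟩
  · rw [hB, mul_comm u.2, two, map_zero]
  · refine Prod.ext (hnd _ fun b => ?_) (hnd _ fun b => ?_)
    · simpa [hB] using hu (0, b)
    · simpa [hB, mul_comm] using hu (b, 0)
  · rw [finrank_prod, (AdjoinRoot.powerBasis hm.ne_zero).finrank, AdjoinRoot.powerBasis_dim, hd, two_mul]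
  · simp only [Prod.smul_fst, Prod.smul_snd, smul_mul_assoc, mul_smul_comm, ← smul_add, map_smul, smul_eq_mul]
    ring
  · simp only [hB, Prod.fst_add, Prod.snd_add, ← map_add]
    congr 1
    linear_combination z * (two (u.1 * w.1) + two (u.2 * w.2))
  · refine LinearMap.ext fun u => ?_
    rw [Module.End.mul_apply, hU, hT, Module.End.one_apply]
    refine Prod.ext rfl ?_
    show x * u.1 + u.2 + x * u.1 = u.2
    linear_combination two (x * u.1)
  · refine LinearMap.ext fun u => ?_
    rw [Module.End.mul_apply, hT, hU, Module.End.one_apply]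
    refine Prod.ext ?_ rfl
    show x * u.2 + (u.1 + x * u.2) = u.1
    linear_combination two (x * u.2)
  · simp only [hT]
    congr 1
    linear_combination (u.1 * u.2 + x * u.2 * u.2) * (sub_self (0 : AdjoinRoot h)) + (x * (u.2 * u.2)) * hxz +
      two (x * (u.2 * u.2)) + two (z * (x * u.2 * u.1))
  · rw [hB, hB, hT, hT]
    congr 1
    linear_combination two (x * u.2 * w.2)
  · rw [hT] at hu
    have h1 : u.2 = u.1 := congrArg Prod.fst hu
    have h2 : u.1 + x * u.2 = u.2 := congrArg Prod.snd hu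
    have h3 : u.2 = 0 := by
      have : x * u.2 = 0 := by linear_combination h2 + h1
      linear_combination z * this - u.2 * hxz
    exact Prod.ext (h1 ▸ h3) h3
  · have e : T + U = Algebra.lsmul F F (AdjoinRoot h × AdjoinRoot h) x := by
      refine LinearMap.ext fun u => ?_
      rw [LinearMap.add_apply, hT, hU]
      refine Prod.ext ?_ ?_
      · show u.2 + (x * u.1 + u.2) = x * u.1
        linear_combination two u.2
      · show u.1 + x * u.2 + u.1 = x * u.2
        linear_combination two u.1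
    rw [e, aeval_algHom_apply, hx, AdjoinRoot.aeval_eq, ← AdjoinRoot.mk_eq_zero]
    constructor
    · intro hp
      have := congrArg Prod.fst (LinearMap.congr_fun hp ((1 : AdjoinRoot h), 0))
      simpa using this
    · intro hp
      rw [hp, map_zero]
  · have hchar : ∀ a : AdjoinRoot h, ∑ b, ψ.f (l (a * b)) = if a = 0 then (Fintype.card (AdjoinRoot h) : ℤ) else 0 := by
      intro a
      split_ifs with ha
      · simp [ha, ψ.map_zero]
      · obtain ⟨b₀, hb₀⟩ : ∃ b, l (a * b) ≠ 0 := by
          by_contra h'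
          simp only [not_exists, not_not] at h'
          exact ha (hnd a h')
        obtain ⟨c, hc⟩ := ψ.exists_neg hb₀
        have h1 : ∑ b, ψ.f (l (a * b)) = ∑ b, ψ.f (l (a * (b + c • b₀))) :=
          (Equiv.sum_comp (Equiv.addRight (c • b₀)) fun b => ψ.f (l (a * b))).symm
        simp only [mul_add, mul_smul_comm, map_add, map_smul, smul_eq_mul, ψ.map_add, hc, mul_neg_one,
          Finset.sum_neg_distrib] at h1
        linarith
    have hsplit : ∀ a b, ψ.f (l (a * b + z * (a * a + b * b))) = ψ.f (l (z * (a * a))) * ψ.f (l ((a + w) * b)) := by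
      intro a b
      rw [mul_add z, map_add, map_add, add_mul, map_add, ψ.map_add, ψ.map_add, ψ.map_add, hlsq b, ψ.map_sq]
      ring
    rw [Fintype.sum_prod_type]
    simp only [hsplit, ← Finset.mul_sum, hchar, mul_ite, mul_zero]
    rw [Finset.sum_eq_single w]
    · rw [if_pos (two w), hlsq, ψ.map_sq, hw, ← map_mul, hl, hval, mul_comm,
        Module.card_eq_pow_finrank (K := F), (AdjoinRoot.powerBasis hm.ne_zero).finrank, AdjoinRoot.powerBasis_dim,
        hd, Nat.cast_pow]
    · intro a _ ha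
      exact if_neg fun e => ha (CharTwo.add_eq_zero.1 e)
    · intro hh; exact absurd (Finset.mem_univ _) hh

end Cfsg.Agent.Lib.ClassesSpTwo46
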