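import Cfsg.Agent.Lib.ClassesSpTwo46.OUpper
import Cfsg.Agent.Lib.ClassesSpTwo46.OModel
import Cfsg.Agent.Lib.Elem70.ClassCount.SpClasses

/-!
The lower bound `qⁿ ≤ 2 k(O^±_{2n}(q))` for even `q`.

Owner: helper46.
-/

set_option autoImplicit false
set_option linter.unusedSectionVars false
set_option linter.style.haveILetI false

namespace Cfsg.Agent.Lib.ClassesSpTwo46

open Polynomial Module
open Cfsg.Agent.Lib.Symplectic (IsSympForm stdForm)
open Cfsg.Agent.Lib.ClassesSp (lin lin_isometry lin_bijective finrank_space)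

universe u

variable {F : Type u} [Field F] [Fintype F] [CharP F 2] {n : ℕ}

/-- The Gauss sum over the whole space. -/
noncomputable def qsum (ψ : Sgn F) (q : (Fin n ⊕ Fin n → F) → F) : ℤ := ∑ v, ψ.f (q v)

variable {q q' : (Fin n ⊕ Fin n → F) → F}

theorem qsum_ne_zero (ψ : Sgn F) (hq : IsPolar q) : qsum ψ q ≠ 0 := by
  classical
  have h := UData.gsum_top_ne_zero ψ (isQuad_udata hq (one_mem (OG q)))
  have e : UData.gsum ψ q (⊤ : Submodule F (Fin n ⊕ Fin n → F)) = qsum ψ q := by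
    rw [UData.gsum, qsum]
    exact Finset.sum_congr (by ext; simp) fun _ _ => rfl
  rwa [e] at h

theorem std_swap (u v : Fin n ⊕ Fin n → F) : stdForm n F u v = stdForm n F v u := by
  rw [(Symplectic.isSympForm_stdForm n F).swap, CharTwo.neg_eq]

theorem IsPolar.shift (hq : IsPolar q) (a : Fin n ⊕ Fin n → F) :
    IsPolar fun v => q v + stdForm n F a v * stdForm n F a v where
  smul c v := by simp only [hq.smul, map_smul, smul_eq_mul]; ring
  add u v := by
    simp only [hq.add, map_add, CharTwo.add_mul_self]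
    ring

theorem qsum_shift (ψ : Sgn F) (hq : IsPolar q) (a : Fin n ⊕ Fin n → F) :
    qsum ψ (fun v => q v + stdForm n F a v * stdForm n F a v) = ψ.f (q a) * qsum ψ q := by
  rw [qsum, qsum, Finset.mul_sum]
  refine Fintype.sum_equiv (Equiv.addRight a) _ _ fun v => ?_
  rw [Equiv.coe_addRight, ψ.map_add, ψ.map_sq, hq.add, ψ.map_add, ψ.map_add, std_swap v a]
  rcases ψ.eq_or (q a) with h | h <;> rw [h] <;> ring

theorem exists_diff (hq : IsPolar q) (hq' : IsPolar q') :
    ∃ a, ∀ v, q' v = q v + stdForm n F a v * stdForm n F a v := by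
  classical
  choose f hf using fun v => UData.exists_sqrt F (q' v + q v)
  have inj : ∀ s t : F, s * s = t * t → s = t := fun s t h => by
    have : (s + t) * (s + t) = 0 := by rw [CharTwo.add_mul_self, h, CharTwo.add_self_eq_zero]
    exact CharTwo.add_eq_zero.1 (mul_self_eq_zero.1 this)
  let L : (Fin n ⊕ Fin n → F) →ₗ[F] F :=
    { toFun := f
      map_add' := fun u v => inj _ _ (by
        rw [hf, CharTwo.add_mul_self, hf, hf, hq.add, hq'.add]
        linear_combination CharTwo.add_self_eq_zero (stdForm n F u v))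
      map_smul' := fun c v => inj _ _ (by
        rw [hf, hq.smul, hq'.smul, RingHom.id_apply, smul_eq_mul, mul_mul_mul_comm, hf]
        ring) }
  obtain ⟨Bd, hBd⟩ := GLFlags.SympConj.exists_rep (Symplectic.isSympForm_stdForm n F)
  refine ⟨Bd.symm L, fun v => ?_⟩
  rw [← hBd, LinearEquiv.apply_symm_apply]
  show q' v = q v + f v * f v
  rw [hf]
  linear_combination -(CharTwo.add_self_eq_zero (q v))

theorem lin_eq (z : Matrix.symplecticGroup (Fin n) F) (v : Fin n ⊕ Fin n → F) :
    lin z v = Symplectic.spLE z v := by rw [lin, Matrix.toLin'_apply, Symplectic.spLE_apply]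

theorem lin_cancel (z : Matrix.symplecticGroup (Fin n) F) (v : Fin n ⊕ Fin n → F) :
    lin z⁻¹ (lin z v) = v := by rw [← lin_mul, inv_mul_cancel, lin_one]

theorem lin_cancel' (z : Matrix.symplecticGroup (Fin n) F) (v : Fin n ⊕ Fin n → F) :
    lin z (lin z⁻¹ v) = v := by rw [← lin_mul, mul_inv_cancel, lin_one]

/-- Forms of the same sign are equivalent under the symplectic group. -/
theorem exists_transport (ψ : Sgn F) (hq : IsPolar q) (hq' : IsPolar q') (h : 0 < qsum ψ q * qsum ψ q') :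
    ∃ z : Matrix.symplecticGroup (Fin n) F, ∀ v, q (lin z v) = q' v := by
  obtain ⟨a, ha⟩ := exists_diff hq hq'
  have hs : qsum ψ q' = ψ.f (q a) * qsum ψ q := by rw [← qsum_shift ψ hq a]; exact Finset.sum_congr rfl fun v _ => by rw [ha]
  have h1 : ψ.f (q a) = 1 := by
    rcases ψ.eq_or (q a) with h1 | h1
    · exact h1
    · rw [hs, h1] at h
      nlinarith [mul_self_nonneg (qsum ψ q)]
  obtain ⟨μ, hμ⟩ : ∃ μ : F, μ * μ * q a + μ = 1 := by
    rcases eq_or_ne (q a) 0 with h0 | h0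
    · exact ⟨1, by rw [h0]; ring⟩
    · obtain ⟨c, hc⟩ := ψ.exists_root (q a) h1
      refine ⟨c / q a, ?_⟩
      field_simp
      linear_combination hc
  have hs' := Symplectic.isSympForm_stdForm n F
  refine ⟨(Symplectic.spEquiv n F).symm (Symplectic.transv hs' a μ), fun v => ?_⟩
  rw [lin, Matrix.toLin'_apply, Symplectic.spEquiv_symm_mulVec, Symplectic.transv_smul, hq.add, hq.smul, map_smul,
    smul_eq_mul, ha, std_swap v a]
  linear_combination (stdForm n F a v * stdForm n F a v) * hμ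

theorem conj_mem {z x : Matrix.symplecticGroup (Fin n) F} (hz : ∀ v, q (lin z v) = q' v) (hx : x ∈ OG q') :
    z * x * z⁻¹ ∈ OG q := fun v => by
  rw [lin_mul, lin_mul, hz, hx, ← hz, lin_cancel']

/-- The trace polynomial. -/
def Tr (x : Matrix.symplecticGroup (Fin n) F) (h : F[X]) : Prop :=
  ∀ p : F[X], aeval (lin x + lin x⁻¹) p = 0 ↔ h ∣ p

/-- No fixed vectors. -/
def NoFix (x : Matrix.symplecticGroup (Fin n) F) : Prop := ∀ v, lin x v = v → v = 0

theorem NoFix.conj {x : Matrix.symplecticGroup (Fin n) F} (h : NoFix x) (z : Matrix.symplecticGroup (Fin n) F) :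
    NoFix (z * x * z⁻¹) := fun v hv => by
  rw [lin_mul, lin_mul] at hv
  have := congrArg (lin z⁻¹) hv
  rw [lin_cancel] at this
  rw [← lin_cancel' z v, h _ this, map_zero]

theorem Tr.conj {x : Matrix.symplecticGroup (Fin n) F} {h : F[X]} (hx : Tr x h)
    (z : Matrix.symplecticGroup (Fin n) F) : Tr (z * x * z⁻¹) h := by
  intro p
  rw [← hx p]
  have hi : ∀ v, (lin (z * x * z⁻¹) + lin (z * x * z⁻¹)⁻¹) (Symplectic.spLE z v) =
      Symplectic.spLE z ((lin x + lin x⁻¹) v) := fun v => by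
    simp only [LinearMap.add_apply, mul_inv_rev, inv_inv, ← mul_assoc, ← lin_eq, lin_mul, lin_cancel, map_add]
  constructor <;> intro h0 <;> refine LinearMap.ext fun v => ?_
  · apply (Symplectic.spLE z).injective
    rw [← aeval_intertwine (Symplectic.spLE z) hi, h0, LinearMap.zero_apply, LinearMap.zero_apply, map_zero]
  · obtain ⟨w, rfl⟩ := (Symplectic.spLE z).surjective v
    rw [aeval_intertwine (Symplectic.spLE z) hi, h0, LinearMap.zero_apply, map_zero, LinearMap.zero_apply]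

theorem exists_regular_rep (ψ : Sgn F) (hn : 2 ≤ n) (hq : IsPolar q) {h : F[X]} (hm : h.Monic)
    (hd : h.natDegree = n) (h0 : h.coeff 0 ≠ 0) (hs : 0 < qsum ψ q * ψ.f (h.coeff 1 / h.coeff 0)) :
    ∃ x : OG q, NoFix x.1 ∧ Tr x.1 h := by
  classical
  obtain ⟨V, _, _, _, B, Q, T, U, hB, hdim, hQs, hQa, hTU, hUT, hQT, hBT, hfix, htr, hsum⟩ :=
    exists_model ψ hm hd hn h0
  haveI : FiniteDimensional F V := Module.Finite.of_finite
  obtain ⟨m, hm2, e, he⟩ := Symplectic.exists_std hB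
  obtain rfl : m = n := by omega
  have hTU' : ∀ v, T (U v) = v := fun v => by rw [← Module.End.mul_apply, hTU]; rfl
  have hUT' : ∀ v, U (T v) = v := fun v => by rw [← Module.End.mul_apply, hUT]; rfl
  let E : (Fin m ⊕ Fin m → F) ≃ₗ[F] (Fin m ⊕ Fin m → F) :=
    e.trans ((LinearEquiv.ofLinearMap T U hTU hUT : V ≃ₗ[F] V).trans e.symm)
  have hEB : ∀ u v, stdForm m F (E u) (E v) = stdForm m F u v := fun u v => by
    rw [← he, ← he]
    show B (e (e.symm (T (e u)))) (e (e.symm (T (e v)))) = _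
    rw [e.apply_symm_apply, e.apply_symm_apply, hBT]
  let x0 : Matrix.symplecticGroup (Fin m) F := (Symplectic.spEquiv m F).symm ⟨E, hEB⟩
  have hl : ∀ v, lin x0 v = e.symm (T (e v)) := fun v => by
    show Matrix.toLin' (LinearMap.toMatrix' E.toLinearMap) v = E v
    rw [Matrix.toLin'_toMatrix']; rfl
  have hl' : ∀ v, lin x0⁻¹ v = e.symm (U (e v)) := fun v => by
    apply (lin_bijective x0).injective
    rw [lin_cancel', hl, e.apply_symm_apply, hTU', e.symm_apply_apply]
  have hp : IsPolar fun v => Q (e v) :=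
    ⟨fun c v => by simp only [map_smul, hQs], fun u v => by simp only [map_add, hQa, he]⟩
  have hx0 : x0 ∈ OG fun v => Q (e v) := fun v => by
    show Q (e (lin x0 v)) = Q (e v)
    rw [hl, e.apply_symm_apply, hQT]
  have hqs : qsum ψ (fun v => Q (e v)) = (Fintype.card F : ℤ) ^ m * ψ.f (h.coeff 1 / h.coeff 0) := by
    rw [← hsum, qsum]; exact Equiv.sum_comp e.toEquiv fun v => ψ.f (Q v)
  obtain ⟨z, hz⟩ := exists_transport ψ hq hp (by
    rw [hqs, mul_left_comm]
    exact mul_pos (pow_pos (by exact_mod_cast Fintype.card_pos) _) hs)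
  have hnf : NoFix x0 := fun v hv => e.injective (by
    rw [map_zero]
    refine hfix _ ?_
    rw [hl] at hv
    conv_rhs => rw [← hv, e.apply_symm_apply])
  have htr0 : Tr x0 h := by
    intro p
    rw [← htr p]
    have hi : ∀ v, (T + U) (e v) = e ((lin x0 + lin x0⁻¹) v) := fun v => by
      rw [LinearMap.add_apply, LinearMap.add_apply, map_add, hl, hl', e.apply_symm_apply, e.apply_symm_apply]
    constructor <;> intro h0 <;> refine LinearMap.ext fun v => ?_
    · obtain ⟨w, rfl⟩ := e.surjective v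
      rw [aeval_intertwine e hi, h0, LinearMap.zero_apply, map_zero, LinearMap.zero_apply]
    · apply e.injective
      rw [← aeval_intertwine e hi, h0, LinearMap.zero_apply, LinearMap.zero_apply, map_zero]
  exact ⟨⟨z * x0 * z⁻¹, conj_mem hz hx0⟩, hnf.conj z, htr0.conj z⟩

theorem exists_fixed_rep (ψ : Sgn F) (hn : 1 ≤ n) (hq : IsPolar q) {g : Matrix.symplecticGroup (Fin n) F}
    (hg : (orderOf g).Coprime 2) {h : F[X]} (h0 : h.coeff 0 = 0)
    (he : ∀ x : AlgebraicClosure F, x ≠ 0 →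
      aeval x (g : Matrix (Fin n ⊕ Fin n) (Fin n ⊕ Fin n) F).charpoly = x ^ n * aeval (x + x⁻¹) h) :
    ∃ x : OG q, ¬ NoFix x.1 ∧ IsConj g x.1 := by
  classical
  obtain ⟨a, ha0, haf⟩ : ∃ a, a ≠ 0 ∧ lin g a = a := by
    have e1 := he 1 one_ne_zero
    rw [inv_one, one_pow, one_mul, CharTwo.add_self_eq_zero, ← coeff_zero_eq_aeval_zero', h0, map_zero,
      ← map_one (algebraMap F (AlgebraicClosure F)), aeval_algebraMap_apply_eq_algebraMap_eval, map_eq_zero,
      Matrix.eval_charpoly, ← Matrix.exists_mulVec_eq_zero_iff] at e1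
    obtain ⟨v, hv, hv'⟩ := e1
    refine ⟨v, hv, ?_⟩
    rw [map_one, Matrix.sub_mulVec, Matrix.one_mulVec, sub_eq_zero] at hv'
    rw [lin, Matrix.toLin'_apply, ← hv']
  set m := orderOf g with hm
  have hodd : ((m : ℕ) : F) = 1 := by
    obtain ⟨k, hk⟩ := Nat.coprime_two_right.1 hg
    rw [hk, Nat.cast_add, Nat.cast_mul, Nat.cast_ofNat, CharTwo.two_eq_zero, zero_mul, zero_add, Nat.cast_one]
  have hshift : ∀ {M : Type u} [AddCommGroup M] (f : Matrix.symplecticGroup (Fin n) F → M),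
      ∑ i ∈ Finset.range m, f (g ^ (i + 1)) = ∑ i ∈ Finset.range m, f (g ^ i) := by
    intro M _ f
    have e1 := Finset.sum_range_succ' (fun i => f (g ^ i)) m
    have e2 := Finset.sum_range_succ (fun i => f (g ^ i)) m
    rw [e2, hm, pow_orderOf_eq_one, pow_zero] at e1
    exact (add_right_cancel e1).symm
  have hapow : ∀ i : ℕ, lin (g ^ i) a = a := fun i => by
    induction i with
    | zero => rw [pow_zero, lin_one]
    | succ i ih => rw [pow_succ, lin_mul, haf, ih]
  obtain ⟨w, hw⟩ := (Symplectic.isSympForm_stdForm n F).exists_eq_one ha0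
  obtain ⟨b, hb⟩ : ∃ b, b = ∑ i ∈ Finset.range m, lin (g ^ i) w := ⟨_, rfl⟩
  have hbf : lin g b = b := by
    rw [hb, map_sum]
    refine Eq.trans (Finset.sum_congr rfl fun i _ => ?_) (hshift fun x => lin x w)
    rw [← lin_mul, ← pow_succ']
  have hab : stdForm n F a b = 1 := by
    rw [hb, map_sum, Finset.sum_congr rfl fun i _ => (by
      conv_lhs => rw [← hapow i]
      rw [lin_isometry, hw] : stdForm n F a (lin (g ^ i) w) = 1)]
    simp [hodd]
  -- the averaged form
  obtain ⟨q₀, hq₀⟩ : ∃ q₀ : (Fin n ⊕ Fin n → F) → F, q₀ = fun v => ∑ i ∈ Finset.range m, q (lin (g ^ i) v) := ⟨_, rfl⟩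
  have hp₀ : IsPolar q₀ := by
    subst hq₀
    refine ⟨fun c v => by simp only [map_smul, hq.smul, Finset.mul_sum], fun u v => ?_⟩
    simp only [map_add, hq.add, lin_isometry, Finset.sum_add_distrib, Finset.sum_const, Finset.card_range,
      nsmul_eq_mul, hodd, one_mul]
  have hinv₀ : g ∈ OG q₀ := fun v => by
    subst hq₀
    refine Eq.trans (Finset.sum_congr rfl fun i _ => ?_) (hshift fun x => q (lin x v))
    rw [← lin_mul, ← pow_succ]
  obtain ⟨c, hcf, hc0⟩ : ∃ c, lin g c = c ∧ q₀ c ≠ 0 := by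
    by_cases h1 : q₀ a = 0
    · by_cases h2 : q₀ b = 0
      · exact ⟨a + b, by rw [map_add, haf, hbf], by rw [hp₀.add, h1, h2, hab]; simp⟩
      · exact ⟨b, hbf, h2⟩
    · exact ⟨a, haf, h1⟩
  obtain ⟨q₁, hp₁, hinv₁, hs₁⟩ : ∃ q₁, IsPolar q₁ ∧ g ∈ OG q₁ ∧ 0 < qsum ψ q * qsum ψ q₁ := by
    by_cases hpos : 0 < qsum ψ q * qsum ψ q₀
    · exact ⟨q₀, hp₀, hinv₀, hpos⟩
    obtain ⟨t, ht⟩ := UData.exists_sqrt F (ψ.ω / q₀ c)
    refine ⟨_, hp₀.shift (t • c), fun v => ?_, ?_⟩
    · have e : stdForm n F (t • c) (lin g v) = stdForm n F (t • c) v := by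
        conv_lhs => rw [← hcf, ← map_smul]
        exact lin_isometry g _ _
      show q₀ (lin g v) + _ = q₀ v + _
      rw [hinv₀ v, e]
    · rw [qsum_shift ψ hp₀, hp₀.smul, ht, div_mul_cancel₀ _ hc0, ψ.map_omega]
      have := mul_ne_zero (qsum_ne_zero ψ hq) (qsum_ne_zero ψ hp₀)
      have := lt_of_le_of_ne (not_lt.1 hpos) this
      linarith
  obtain ⟨z, hz⟩ := exists_transport ψ hq hp₁ hs₁
  refine ⟨⟨z * g * z⁻¹, conj_mem hz hinv₁⟩, fun hnf => ha0 ?_, isConj_iff.2 ⟨z, rfl⟩⟩
  have := hnf (lin z a) (by show lin (z * g * z⁻¹) (lin z a) = lin z a; rw [lin_mul, lin_mul, lin_cancel, haf])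
  rw [← lin_cancel z a, this, map_zero]

theorem le_card_OG_classes (hn : 2 ≤ n) (hq : IsPolar q) :
    Fintype.card F ^ n ≤ 2 * Nat.card (ConjClasses (OG q)) := by
  classical
  obtain ⟨ψ⟩ := exists_sgn (F := F)
  haveI : Fact (Nat.Prime 2) := ⟨Nat.prime_two⟩
  haveI : Finite (Matrix.symplecticGroup (Fin n) F) := Finite.of_injective (fun z => z.1) Subtype.val_injective
  obtain ⟨g, hgo, hge, hgi, -⟩ := Elem70.ClassCount.exists_sp_reps (F := F) 2 n
  let M := {h : F[X] // h.Monic ∧ h.natDegree = n}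
  let P : M → Prop := fun h => h.1.coeff 0 = 0 ∨ 0 < qsum ψ q * ψ.f (h.1.coeff 1 / h.1.coeff 0)
  have hrep : ∀ h : {h : M // P h}, ∃ x : OG q,
      (h.1.1.coeff 0 = 0 → ¬ NoFix x.1 ∧ IsConj (g h.1) x.1) ∧ (h.1.1.coeff 0 ≠ 0 → NoFix x.1 ∧ Tr x.1 h.1.1) := by
    rintro ⟨h, hP⟩
    by_cases h0 : h.1.coeff 0 = 0
    · obtain ⟨x, hx⟩ := exists_fixed_rep ψ (by omega) hq (hgo h) h0 (hge h)
      exact ⟨x, fun _ => hx, fun h1 => absurd h0 h1⟩
    · obtain ⟨x, hx⟩ := exists_regular_rep ψ hn hq h.2.1 h.2.2 h0 (hP.resolve_left h0)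
      exact ⟨x, fun h1 => absurd h1 h0, fun _ => hx⟩
  choose r hr0 hr1 using hrep
  have hinj : Function.Injective fun h => ConjClasses.mk (r h) := by
    intro h h' e
    obtain ⟨c, hc⟩ := isConj_iff.1 (ConjClasses.mk_eq_mk_iff_isConj.1 e)
    have hc' : (c : Matrix.symplecticGroup (Fin n) F) * (r h).1 * (c : Matrix.symplecticGroup (Fin n) F)⁻¹ = (r h').1 :=
      congrArg Subtype.val hc
    apply Subtype.ext
    by_cases h0 : h.1.1.coeff 0 = 0 <;> by_cases h0' : h'.1.1.coeff 0 = 0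
    · exact hgi _ _ (((hr0 h h0).2.trans (isConj_iff.2 ⟨_, hc'⟩)).trans (hr0 h' h0').2.symm)
    · exfalso
      refine (hr0 h h0).1 ?_
      have := (hr1 h' h0').1.conj (c : Matrix.symplecticGroup (Fin n) F)⁻¹
      rwa [← hc', inv_inv, show ∀ c y : Matrix.symplecticGroup (Fin n) F, c⁻¹ * (c * y * c⁻¹) * c = y from
        fun c y => by group] at this
    · exact absurd (hc' ▸ (hr1 h h0).1.conj _) (hr0 h' h0').1
    · have ht := hc' ▸ (hr1 h h0).2.conj (c : Matrix.symplecticGroup (Fin n) F)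
      have ht' := (hr1 h' h0').2
      refine Subtype.ext (eq_of_monic_of_associated h.1.2.1 h'.1.2.1 (associated_of_dvd_dvd ?_ ?_))
      · exact (ht _).1 ((ht' _).2 dvd_rfl)
      · exact (ht' _).1 ((ht _).2 dvd_rfl)
  -- counting the parameters
  have eM : M ≃ (Fin n → F) := (monicEquivDegreeLT n).trans (degreeLTEquiv F n).toEquiv
  letI : Fintype M := Fintype.ofEquiv _ eM.symm
  have hcard : Fintype.card M = Fintype.card F ^ n := by
    rw [Fintype.card_congr eM, Fintype.card_fun, Fintype.card_fin]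
  let τ : M → M := fun h => ⟨h.1 + C (ψ.ω * h.1.coeff 0) * X, by
    have hdeg : (C (ψ.ω * h.1.coeff 0) * X).natDegree < h.1.natDegree :=
      lt_of_le_of_lt ((natDegree_C_mul_le _ _).trans natDegree_X_le) (by rw [h.2.2]; omega)
    exact ⟨h.2.1.add_of_left (degree_lt_degree hdeg), by rw [natDegree_add_eq_left_of_natDegree_lt hdeg, h.2.2]⟩⟩
  have hτ0 : ∀ h, (τ h).1.coeff 0 = h.1.coeff 0 := fun h => by simp [τ]
  have hτ1 : ∀ h, (τ h).1.coeff 1 = h.1.coeff 1 + ψ.ω * h.1.coeff 0 := fun h => by simp [τ]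
  have hτ : (Finset.univ.filter fun h => ¬ P h).card ≤ (Finset.univ.filter P).card := by
    refine Finset.card_le_card_of_injOn τ (fun h hh => ?_) fun h _ h' _ e => ?_
    · simp only [Finset.coe_filter, Finset.mem_univ, true_and, Set.mem_ofPred_eq] at hh ⊢
      simp only [P, not_or] at hh
      refine Or.inr ?_
      rw [hτ0, hτ1, add_div, mul_div_assoc, div_self hh.1, mul_one, ψ.map_add, ψ.map_omega]
      have hne : qsum ψ q * ψ.f (h.1.coeff 1 / h.1.coeff 0) ≠ 0 :=
        mul_ne_zero (qsum_ne_zero ψ hq) (by rcases ψ.eq_or (h.1.coeff 1 / h.1.coeff 0) with e | e <;> rw [e] <;> norm_num)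
      have := lt_of_le_of_ne (not_lt.1 hh.2) hne
      linarith
    · have e0 : h.1.coeff 0 = h'.1.coeff 0 := by rw [← hτ0 h, ← hτ0 h', e]
      have e1 : h.1 + C (ψ.ω * h.1.coeff 0) * X = h'.1 + C (ψ.ω * h'.1.coeff 0) * X := congrArg Subtype.val e
      rw [e0] at e1
      exact Subtype.ext (add_right_cancel e1)
  haveI : Finite (OG q) := inferInstance
  have h1 := Nat.card_le_card_of_injective _ hinj
  rw [Nat.subtype_card (Finset.univ.filter P) (fun h => by simp)] at h1
  have h2 := Finset.card_filter_add_card_filter_not (s := (Finset.univ : Finset M)) P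
  rw [Finset.card_univ, hcard] at h2
  omega

/-- Transfer to the isometry group of a form given in other coordinates. -/
noncomputable def isomOG {ι : Type} [Fintype ι] [DecidableEq ι] (L : (ι → F) ≃ₗ[F] (Fin n ⊕ Fin n → F))
    (hq : IsPolar q) {Q : (ι → F) → F} (hQ : ∀ v, Q v = q (L v)) : Cfsg.isometryGroup F Q ≃* OG q where
  toFun A := ⟨(Symplectic.spEquiv n F).symm ⟨L.symm.trans
      ((LinearMap.GeneralLinearGroup.generalLinearEquiv F _ (Matrix.GeneralLinearGroup.toLin A.1)).trans L),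
    fun u v => by
      have key : ∀ w, q (L (Matrix.toLin' (A.1 : Matrix ι ι F) (L.symm w))) = q w := fun w => by
        rw [← hQ, Matrix.toLin'_apply]
        exact (A.2 (L.symm w) 0).trans (by show Q _ = _; rw [hQ, L.apply_symm_apply])
      show stdForm n F (L (Matrix.toLin' (A.1 : Matrix ι ι F) (L.symm u)))
        (L (Matrix.toLin' (A.1 : Matrix ι ι F) (L.symm v))) = stdForm n F u v
      have := key (u + v)
      rw [map_add, map_add, map_add, hq.add, hq.add, key, key] at this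
      exact add_left_cancel this⟩, fun w => by
      rw [lin, Matrix.toLin'_apply, Symplectic.spEquiv_symm_mulVec]
      show q (L (Matrix.toLin' (A.1 : Matrix ι ι F) (L.symm w))) = q w
      rw [← hQ, Matrix.toLin'_apply]
      exact (A.2 (L.symm w) 0).trans (by show Q _ = _; rw [hQ, L.apply_symm_apply])⟩
  invFun x := ⟨⟨LinearMap.toMatrix' (L.trans ((Symplectic.spLE x.1).trans L.symm) : (ι → F) ≃ₗ[F] (ι → F)).toLinearMap,
      LinearMap.toMatrix' (L.trans ((Symplectic.spLE x.1).trans L.symm) : (ι → F) ≃ₗ[F] (ι → F)).symm.toLinearMap,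
      by rw [← LinearMap.toMatrix'_comp, LinearEquiv.comp_symm, LinearMap.toMatrix'_id],
      by rw [← LinearMap.toMatrix'_comp, LinearEquiv.symm_comp, LinearMap.toMatrix'_id]⟩, fun u _ => by
      show Q (Matrix.mulVec (LinearMap.toMatrix' _) u) = Q u
      rw [LinearMap.toMatrix'_mulVec]
      show Q (L.symm (Symplectic.spLE x.1 (L u))) = Q u
      rw [hQ, hQ, L.apply_symm_apply, ← lin_eq, x.2]⟩
  left_inv A := by
    refine Subtype.ext (Units.ext (Matrix.toLin'.injective (LinearMap.ext fun v => ?_)))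
    show Matrix.toLin' (LinearMap.toMatrix' _) v = _
    rw [Matrix.toLin'_toMatrix']
    show L.symm (Symplectic.spLE ((Symplectic.spEquiv n F).symm _) (L v)) = _
    rw [Symplectic.spLE_apply, Symplectic.spEquiv_symm_mulVec]
    show L.symm (L (Matrix.toLin' (A.1 : Matrix ι ι F) (L.symm (L v)))) = _
    rw [L.symm_apply_apply, L.symm_apply_apply]
  right_inv x := by
    refine Subtype.ext (Subtype.ext (Matrix.toLin'.injective (LinearMap.ext fun v => ?_)))
    show Matrix.toLin' (LinearMap.toMatrix' _) v = _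
    rw [Matrix.toLin'_toMatrix']
    show L (Matrix.toLin' (LinearMap.toMatrix' _) (L.symm v)) = _
    rw [Matrix.toLin'_toMatrix']
    show L (L.symm (Symplectic.spLE x.1 (L (L.symm v)))) = _
    rw [L.apply_symm_apply, L.apply_symm_apply, ← lin_eq]
    rfl
  map_mul' A C := by
    refine Subtype.ext (Subtype.ext (Matrix.toLin'.injective (LinearMap.ext fun v => ?_)))
    show Matrix.toLin' _ v = Matrix.toLin' (_ * _) v
    rw [Matrix.toLin'_mul, LinearMap.comp_apply]
    show Matrix.toLin' (LinearMap.toMatrix' _) v =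
      Matrix.toLin' (LinearMap.toMatrix' _) (Matrix.toLin' (LinearMap.toMatrix' _) v)
    simp only [Matrix.toLin'_toMatrix']
    show L (Matrix.toLin' ((A * C).1 : Matrix ι ι F) (L.symm v)) =
      L (Matrix.toLin' (A.1 : Matrix ι ι F) (L.symm (L (Matrix.toLin' (C.1 : Matrix ι ι F) (L.symm v)))))
    rw [L.symm_apply_apply, Subgroup.coe_mul, Units.val_mul, Matrix.toLin'_mul, LinearMap.comp_apply]

end Cfsg.Agent.Lib.ClassesSpTwo46
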