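import Cfsg.Agent.Lib.ClassesSpTwo46.Main
import Cfsg.Agent.Lib.ClassesSpTwo46.OFrame
import Cfsg.Agent.Lib.ClassesSpTwo46.OCount

/-!
The upper bound `k(O^±_{2n}(q)) ≤ 15 qⁿ` for even `q`.

Owner: helper46.
-/

set_option autoImplicit false
set_option linter.unusedSectionVars false
set_option linter.style.haveILetI false

namespace Cfsg.Agent.Lib.ClassesSpTwo46

open Polynomial Module
open Cfsg.Agent.Lib.ClassesGLBound
open Cfsg.Agent.Lib.ClassesSL
open Cfsg.Agent.Lib.Symplectic (IsSympForm restr stdForm)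
open Cfsg.Agent.Lib.ClassesSp (SD rdual toGL lin lin_isometry lin_bijective lin_pow eig shiftT shiftT_pow_mem
  shiftT_pow_mem_range isCompl_ker_range perp_ker_range finrank_space eig_symp)
open Cfsg.Agent.Lib.GLFlags.SympConj (Good)

universe u

variable {F : Type u} [Field F] [Fintype F] [CharP F 2] {n : ℕ}

/-- A quadratic form polarising to the standard symplectic form. -/
structure IsPolar (q : (Fin n ⊕ Fin n → F) → F) : Prop where
  smul : ∀ (c : F) v, q (c • v) = c * c * q v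
  add : ∀ u v, q (u + v) = q u + q v + stdForm n F u v

theorem lin_mul (x y : Matrix.symplecticGroup (Fin n) F) (v : Fin n ⊕ Fin n → F) :
    lin (x * y) v = lin x (lin y v) := by
  rw [lin, lin, lin, Submonoid.coe_mul, Matrix.toLin'_mul]; rfl

theorem lin_one (v : Fin n ⊕ Fin n → F) : lin (1 : Matrix.symplecticGroup (Fin n) F) v = v := by
  rw [lin, OneMemClass.coe_one, Matrix.toLin'_one]; rfl

/-- The orthogonal group inside the symplectic group. -/
def OG (q : (Fin n ⊕ Fin n → F) → F) : Subgroup (Matrix.symplecticGroup (Fin n) F) where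
  carrier := {x | ∀ v, q (lin x v) = q v}
  mul_mem' := fun {x y} hx hy v => by rw [lin_mul, hx, hy]
  one_mem' := fun v => by rw [lin_one]
  inv_mem' := fun {x} hx v => by
    conv_rhs => rw [← lin_one v, ← mul_inv_cancel x, lin_mul, hx]

variable {q : (Fin n ⊕ Fin n → F) → F}

theorem isQuad_udata (hq : IsPolar q) {x : Matrix.symplecticGroup (Fin n) F} (hx : x ∈ OG q) :
    (udata x).IsQuad q :=
  ⟨hq.smul, hq.add, hx⟩

/-- The generalised image. -/
noncomputable abbrev reg (x : Matrix.symplecticGroup (Fin n) F) : Submodule F (Fin n ⊕ Fin n → F) :=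
  LinearMap.range (shiftT (lin x) (1 : F) ^ (n + n))

theorem reg_isCompl (x : Matrix.symplecticGroup (Fin n) F) : IsCompl (eig x (1 : F)) (reg x) :=
  isCompl_ker_range finrank_space.le _

theorem reg_perp (x : Matrix.symplecticGroup (Fin n) F) {u v : Fin n ⊕ Fin n → F} (hu : u ∈ eig x (1 : F))
    (hv : v ∈ reg x) : stdForm n F u v = 0 := by
  obtain ⟨z, rfl⟩ := hv
  exact perp_ker_range (lin_bijective x) (lin_isometry x) (one_mul 1) _ u z hu

theorem aeval_intertwine {W : Type*} [AddCommGroup W] [Module F W] {V : Type*} [AddCommGroup V] [Module F V]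
    (ι : V ≃ₗ[F] W) {T : Module.End F V} {a : Module.End F W} (h : ∀ v, a (ι v) = ι (T v)) (p : F[X]) (v : V) :
    aeval a p (ι v) = ι (aeval T p v) := by
  induction p using Polynomial.induction_on' generalizing v with
  | add p p' hp hp' => rw [map_add, map_add, LinearMap.add_apply, LinearMap.add_apply, hp, hp', map_add]
  | monomial k c =>
    have hk : ∀ w, (a ^ k) (ι w) = ι ((T ^ k) w) := by
      induction k with
      | zero => intro w; rfl
      | succ k ih => intro w; rw [pow_succ, pow_succ, Module.End.mul_apply, Module.End.mul_apply, h, ih]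
    rw [aeval_monomial, aeval_monomial, Module.End.mul_apply, Module.End.mul_apply, hk]
    simp [Module.algebraMap_end_apply]

theorem count_divs [DecidableEq F] (x : Matrix.symplecticGroup (Fin n) F) (j : Fin (n + n)) {g : F[X]}
    (hg : divs x j = (X - C 1) ^ rootMultiplicity 1 (divs x j) * g) {f : F[X]} (hf : f ≠ X - C 1) :
    Fintype.card {i // keyOf (toGL n F x) i = ((j : ℕ) + 1, f)} =
      Multiset.count f (UniqueFactorizationMonoid.normalizedFactors g) := by
  classical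
  rw [card_fibre_eq (keyOf_spec _).1]
  show Multiset.count f (UniqueFactorizationMonoid.normalizedFactors (divs x j)) = _
  have hne : divs x j ≠ 0 := (divs_sd x j).1.ne_zero
  have hg0 : g ≠ 0 := fun h0 => hne (by rw [hg, h0, mul_zero])
  rw [hg, UniqueFactorizationMonoid.normalizedFactors_mul (pow_ne_zero _ (X_sub_C_ne_zero _)) hg0,
    UniqueFactorizationMonoid.normalizedFactors_pow,
    UniqueFactorizationMonoid.normalizedFactors_irreducible (irreducible_X_sub_C _),
    (monic_X_sub_C (1 : F)).normalize_eq_self, Multiset.count_add, Multiset.count_nsmul,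
    Multiset.count_singleton, if_neg hf, mul_zero, zero_add]

/-- A map of the regular part, injective and equivariant. -/
theorem exists_reg_map (x y : Matrix.symplecticGroup (Fin n) F) {g : Fin (n + n) → F[X]}
    (hgx : ∀ j, divs x j = (X - C 1) ^ rootMultiplicity 1 (divs x j) * g j)
    (hgy : ∀ j, divs y j = (X - C 1) ^ rootMultiplicity 1 (divs y j) * g j) :
    ∃ E : Module.End F (Fin n ⊕ Fin n → F), (∀ v, E (lin x v) = lin y (E v)) ∧
      ∀ v ∈ reg x, E v = 0 → v = 0 := by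
  classical
  obtain ⟨hkx, hsx, ⟨φx⟩⟩ := keyOf_spec (toGL n F x)
  obtain ⟨hky, hsy, ⟨φy⟩⟩ := keyOf_spec (toGL n F y)
  -- matching of the keys away from `X - 1`
  have hfib : ∀ k : ℕ × F[X], Nonempty
      ({s : {i // (keyOf (toGL n F x) i).2 ≠ X - C 1} // keyOf (toGL n F x) s.1 = k} ≃
        {s : {i // (keyOf (toGL n F y) i).2 ≠ X - C 1} // keyOf (toGL n F y) s.1 = k}) := by
    intro k
    refine Fintype.card_eq.1 ?_
    by_cases hk : (1 ≤ k.1 ∧ k.1 ≤ n + n) ∧ k.2 ≠ X - C 1
    · obtain ⟨j, hj⟩ : ∃ j : Fin (n + n), k = ((j : ℕ) + 1, k.2) :=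
        ⟨⟨k.1 - 1, by omega⟩, Prod.ext (by simp; omega) rfl⟩
      have e : ∀ z, keyOf (toGL n F x) z = k → (keyOf (toGL n F x) z).2 ≠ X - C 1 := fun z hz => hz ▸ hk.2
      have e' : ∀ z, keyOf (toGL n F y) z = k → (keyOf (toGL n F y) z).2 ≠ X - C 1 := fun z hz => hz ▸ hk.2
      rw [Fintype.card_congr (Equiv.subtypeSubtypeEquivSubtype (e _)),
        Fintype.card_congr (Equiv.subtypeSubtypeEquivSubtype (e' _)), hj, count_divs x j (hgx j) hk.2,
        count_divs y j (hgy j) hk.2]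
    · rw [Fintype.card_eq_zero_iff.2 ⟨fun s => hk ?_⟩, Fintype.card_eq_zero_iff.2 ⟨fun s => hk ?_⟩]
      · rw [← s.2]; exact ⟨⟨(hky _).1, exp_le hky hsy _⟩, s.1.2⟩
      · rw [← s.2]; exact ⟨⟨(hkx _).1, exp_le hkx hsx _⟩, s.1.2⟩
  let σ := Equiv.ofFiberEquiv (f := fun s : {i // (keyOf (toGL n F x) i).2 ≠ X - C 1} => keyOf (toGL n F x) s.1)
    (g := fun s : {i // (keyOf (toGL n F y) i).2 ≠ X - C 1} => keyOf (toGL n F y) s.1) fun k => (hfib k).some
  have hσ : ∀ s, keyOf (toGL n F y) (σ s).1 = keyOf (toGL n F x) s.1 := fun s =>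
    Equiv.ofFiberEquiv_map (g := fun s : {i // (keyOf (toGL n F y) i).2 ≠ X - C 1} => keyOf (toGL n F y) s.1) _ s
  have hσ' : ∀ t, keyOf (toGL n F x) (σ.symm t).1 = keyOf (toGL n F y) t.1 := fun t => by
    rw [← hσ (σ.symm t), σ.apply_symm_apply]
  -- the map of modules
  let ψ : (∀ i, Q (keyOf (toGL n F x) i)) →ₗ[F[X]] (∀ j, Q (keyOf (toGL n F y) j)) :=
    LinearMap.pi fun j => if h : (keyOf (toGL n F y) j).2 ≠ X - C 1 then
      (Submodule.quotEquivOfEq _ _ (by rw [hσ' ⟨j, h⟩])).toLinearMap.comp (LinearMap.proj (σ.symm ⟨j, h⟩).1) else 0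
  have hψ : ∀ m, ψ m = 0 → ∀ s : {i // (keyOf (toGL n F x) i).2 ≠ X - C 1}, m s.1 = 0 := by
    intro m hm
    have key : ∀ t, m (σ.symm t).1 = 0 := by
      intro t
      have h := congrFun hm t.1
      simp only [ψ, LinearMap.pi_apply, dif_pos t.2, LinearMap.comp_apply, LinearMap.proj_apply,
        LinearEquiv.coe_coe, Pi.zero_apply, LinearEquiv.map_eq_zero_iff] at h
      exact h
    intro s
    have h := key (σ s)
    rw [σ.symm_apply_apply] at h
    exact h
  let ι : (Fin n ⊕ Fin n → F) ≃ₗ[F] (Fin (n + n) → F) := LinearEquiv.funCongrLeft F F finSumFinEquiv.symm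
  have hι : ∀ (z : Matrix.symplecticGroup (Fin n) F) v,
      Matrix.toLin' (toGL n F z : Matrix (Fin (n + n)) (Fin (n + n)) F) (ι v) = ι (lin z v) := fun z v => by
    rw [lin, JordanType.reindex_intertwine, ← ClassesSp.coe_toGL]
  let E₀ : (Fin (n + n) → F) →ₗ[F] (Fin (n + n) → F) :=
    ((Module.AEval'.of _).symm.toLinearMap.comp
      ((φy.symm.toLinearMap.comp (ψ.comp φx.toLinearMap)).restrictScalars F)).comp (Module.AEval'.of _).toLinearMap
  have hE₀ : ∀ v, E₀ (Matrix.toLin' (toGL n F x : Matrix (Fin (n + n)) (Fin (n + n)) F) v) =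
      Matrix.toLin' (toGL n F y : Matrix (Fin (n + n)) (Fin (n + n)) F) (E₀ v) := fun v => by
    show (Module.AEval'.of _).symm (φy.symm (ψ (φx (Module.AEval'.of _ _)))) = _
    refine ((congrArg (fun z => (Module.AEval'.of _).symm (φy.symm (ψ (φx z))))
      (Module.AEval'.X_smul_of _ v).symm).trans ?_)
    show (Module.AEval'.of _).symm (φy.symm (ψ (φx ((X : F[X]) • _)))) = _
    rw [map_smul, map_smul, map_smul, Module.AEval'.of_symm_X_smul]
    rfl
  refine ⟨(ι.symm.toLinearMap.comp E₀).comp ι.toLinearMap, fun v => ?_, fun v hv h0 => ?_⟩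
  · show ι.symm (E₀ (ι (lin x v))) = lin y (ι.symm (E₀ (ι v)))
    apply ι.injective
    rw [ι.apply_symm_apply, ← hι, hE₀, ← hι, ι.apply_symm_apply]
  · have h1 : ψ (φx (Module.AEval'.of _ (ι v))) = 0 := by
      have h2 : E₀ (ι v) = 0 := ι.symm.injective (h0.trans (map_zero _).symm)
      exact φy.symm.injective ((Module.AEval'.of _).symm.injective
        (h2.trans ((congrArg _ (map_zero φy.symm)).trans (map_zero _)).symm))
    have hkill : ((X - C (1 : F)) ^ (n + n)) • φx (Module.AEval'.of _ (ι v)) = 0 := by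
      funext i
      rw [Pi.smul_apply, Pi.zero_apply]
      by_cases hi : (keyOf (toGL n F x) i).2 ≠ X - C 1
      · rw [hψ _ h1 ⟨i, hi⟩, smul_zero]
      · obtain ⟨p, hp⟩ := Ideal.Quotient.mk_surjective (φx (Module.AEval'.of _ (ι v)) i)
        rw [← hp]
        show Ideal.Quotient.mk _ ((X - C (1 : F)) ^ (n + n) * p) = 0
        rw [Ideal.Quotient.eq_zero_iff_mem, Ideal.mem_span_singleton, not_not.1 hi]
        exact dvd_mul_of_dvd_left (pow_dvd_pow _ (exp_le hkx hsx i)) _
    have h3 : aeval (Matrix.toLin' (toGL n F x : Matrix (Fin (n + n)) (Fin (n + n)) F))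
        ((X - C (1 : F)) ^ (n + n)) (ι v) = 0 := by
      refine (Module.AEval'.of _).injective (φx.injective ?_)
      rw [map_zero, map_zero, ← hkill, ← map_smul]
      exact congrArg φx (Module.AEval.of_aeval_smul (R := F) (M := Fin (n + n) → F) _ _ (ι v))
    rw [aeval_intertwine ι (hι x), LinearEquiv.map_eq_zero_iff, map_pow, map_sub, aeval_X, aeval_C,
      Algebra.algebraMap_eq_smul_one] at h3
    exact Submodule.disjoint_def.1 (reg_isCompl x).disjoint v (LinearMap.mem_ker.2 h3) hv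

/-- The regular parts are isometric when the stripped divisors agree. -/
theorem exists_reg_equiv (hn : 1 ≤ n) (hq : IsPolar q) {x y : Matrix.symplecticGroup (Fin n) F} (hx : x ∈ OG q)
    (hy : y ∈ OG q) {g : Fin (n + n) → F[X]}
    (hgx : ∀ j, divs x j = (X - C 1) ^ rootMultiplicity 1 (divs x j) * g j)
    (hgy : ∀ j, divs y j = (X - C 1) ^ rootMultiplicity 1 (divs y j) * g j) :
    ∃ ρ : reg x ≃ₗ[F] reg y, (∀ v : reg x, (ρ ⟨lin x v.1, shiftT_pow_mem_range v.2⟩).1 = lin y (ρ v).1) ∧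
      (∀ u v : reg x, stdForm n F (ρ u).1 (ρ v).1 = stdForm n F u.1 v.1) ∧
      ∀ v : reg x, q (ρ v).1 = q v.1 := by
  classical
  have hpow : ∀ (a b : Matrix.symplecticGroup (Fin n) F) (E : Module.End F (Fin n ⊕ Fin n → F)),
      (∀ v, E (lin a v) = lin b (E v)) → ∀ k v, E ((shiftT (lin a) 1 ^ k) v) = (shiftT (lin b) 1 ^ k) (E v) := by
    intro a b E hE k
    induction k with
    | zero => intro v; rfl
    | succ k ih =>
      intro v
      rw [pow_succ, pow_succ, Module.End.mul_apply, Module.End.mul_apply, ih, ClassesSp.shiftT_apply,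
        ClassesSp.shiftT_apply, map_sub, hE, one_smul, one_smul]
  have hmk : ∀ (a b : Matrix.symplecticGroup (Fin n) F) (E : Module.End F (Fin n ⊕ Fin n → F)),
      (∀ v, E (lin a v) = lin b (E v)) → ∀ v ∈ reg a, E v ∈ reg b := by
    rintro a b E hE _ ⟨z, rfl⟩
    exact ⟨E z, (hpow a b E hE _ z).symm⟩
  obtain ⟨E, hE, hEi⟩ := exists_reg_map x y hgx hgy
  obtain ⟨E', hE', hEi'⟩ := exists_reg_map y x hgy hgx
  have inj : ∀ (a b : Matrix.symplecticGroup (Fin n) F) (E : Module.End F (Fin n ⊕ Fin n → F))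
      (hE : ∀ v, E (lin a v) = lin b (E v)), (∀ v ∈ reg a, E v = 0 → v = 0) →
      Function.Injective (E.restrict (p := reg a) (q := reg b) (hmk a b E hE)) := fun a b E hE h =>
    (injective_iff_map_eq_zero _).2 fun v hv => Subtype.ext (h v.1 v.2 (congrArg Subtype.val hv))
  have hd : finrank F (reg x) = finrank F (reg y) :=
    le_antisymm (LinearMap.finrank_le_finrank_of_injective (inj x y E hE hEi))
      (LinearMap.finrank_le_finrank_of_injective (inj y x E' hE' hEi'))
  let ρ₀ := LinearEquiv.ofBijective (E.restrict (p := reg x) (q := reg y) (hmk x y E hE))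
    ⟨inj x y E hE hEi, (LinearMap.injective_iff_surjective_of_finrank_eq_finrank hd).1 (inj x y E hE hEi)⟩
  let TX := (lin x).restrict (p := reg x) (q := reg x) fun _ h => shiftT_pow_mem_range h
  let TY := (lin y).restrict (p := reg y) (q := reg y) fun _ h => shiftT_pow_mem_range h
  have hρ₀ : ∀ v, ρ₀ (TX v) = TY (ρ₀ v) := fun v => Subtype.ext (hE v.1)
  have hstd := Symplectic.isSympForm_stdForm n F
  have hnd : ∀ z : Matrix.symplecticGroup (Fin n) F, IsSympForm (restr (stdForm n F) (reg z)) := fun z =>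
    GLFlags.SympConj.restr_nondeg hstd (reg_isCompl z).symm fun u hu v hv =>
      hstd.comm_eq_zero.1 (reg_perp z hv hu)
  let B' := (restr (stdForm n F) (reg y)).compl₁₂ (ρ₀ : reg x →ₗ[F] reg y) (ρ₀ : reg x →ₗ[F] reg y)
  have hB' : ∀ u v, B' u v = restr (stdForm n F) (reg y) (ρ₀ u) (ρ₀ v) := fun u v => rfl
  have hB's : IsSympForm B' := ⟨fun u => (hnd y).self _, fun u hu => ρ₀.injective (by
    rw [map_zero]
    exact (hnd y).nondeg _ fun v => by
      obtain ⟨w, rfl⟩ := ρ₀.surjective v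
      exact hu w)⟩
  haveI : Finite (Matrix.symplecticGroup (Fin n) F) := Finite.of_injective (fun z => z.1) Subtype.val_injective
  obtain ⟨e, he, hiso⟩ : Good TX (restr (stdForm n F) (reg x)) B' := by
    refine GLFlags.SympConj.good_of_regular (hnd x) hB's (orderOf_pos x).ne' ?_
      (fun u v => lin_isometry x _ _) (fun u v => ?_) fun z hz => ?_
    · rw [Module.End.pow_restrict]
      refine LinearMap.ext fun z => Subtype.ext ?_
      show (lin x ^ orderOf x) z.1 = z.1
      rw [← lin_pow, pow_orderOf_eq_one, lin_one]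
    · rw [hB', hB', hρ₀, hρ₀]; exact lin_isometry y _ _
    · have hTT : lin x (lin x z.1) = z.1 := congrArg Subtype.val hz
      have h2 : ((udata x).N ^ 2) z.1 = 0 := by
        rw [pow_two, Module.End.mul_apply, UData.N_apply, UData.N_apply, map_add]
        show lin x (lin x z.1) + lin x z.1 + (lin x z.1 + z.1) = 0
        rw [hTT, add_comm (lin x z.1) z.1, addV_self F]
      refine Subtype.ext (Submodule.disjoint_def.1 (reg_isCompl x).disjoint _ ?_ z.2)
      rw [mem_eig_iff]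
      exact (udata x).kill_le h2 (by omega)
  have hT : ∀ v, (e.trans ρ₀) (TX v) = TY ((e.trans ρ₀) v) := fun v => by
    show ρ₀ (e (TX v)) = TY (ρ₀ (e v))
    rw [he, hρ₀]
  have hB : ∀ u v : reg x, stdForm n F ((e.trans ρ₀) u).1 ((e.trans ρ₀) v).1 = stdForm n F u.1 v.1 :=
    fun u v => hiso u v
  refine ⟨e.trans ρ₀, fun v => congrArg Subtype.val (hT v), hB, fun v => ?_⟩
  -- `N` maps the regular part onto itself
  obtain ⟨w, hw⟩ : ∃ w : reg x, v.1 = (udata x).N w.1 := by
    obtain ⟨z, hz⟩ := v.2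
    obtain ⟨u, hu, r, hr, rfl⟩ := Submodule.mem_sup.1
      ((reg_isCompl x).sup_eq_top ▸ Submodule.mem_top : z ∈ eig x (1 : F) ⊔ reg x)
    have hr' : (shiftT (lin x) (1 : F) ^ (n + n - 1)) r ∈ reg x := by
      obtain ⟨s, rfl⟩ := hr
      exact ⟨(shiftT (lin x) 1 ^ (n + n - 1)) s, by rw [← Module.End.mul_apply, ← Module.End.mul_apply, ← pow_add,
        ← pow_add, add_comm]⟩
    refine ⟨⟨_, hr'⟩, hz.symm.trans ?_⟩
    show (shiftT (lin x) (1 : F) ^ (n + n)) (u + r) = (udata x).N ((shiftT (lin x) (1 : F) ^ (n + n - 1)) r)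
    rw [map_add, LinearMap.mem_ker.1 hu, zero_add, udata_N, ← Module.End.mul_apply, ← pow_succ',
      show n + n - 1 + 1 = n + n by omega]
  have h1 : ((e.trans ρ₀) v).1 = (udata y).N ((e.trans ρ₀) w).1 := by
    rw [show v = TX w + w from Subtype.ext hw, map_add, hT]
    rfl
  rw [h1, (isQuad_udata hq hy).q_N, hw, (isQuad_udata hq hx).q_N]
  show stdForm n F ((udata y).N ((e.trans ρ₀) w).1) ((e.trans ρ₀) w).1 = stdForm n F ((udata x).N w.1) w.1
  rw [← h1, hB v w, hw]

/-- Conjugacy in the orthogonal group. -/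
theorem isConj_OG (hn : 1 ≤ n) (hq : IsPolar q) {ω : F} {x y : OG q} {L : List Atom}
    (hx : (udata x.1).OFrame q ω (eig x.1 (1 : F)) L) (hy : (udata y.1).OFrame q ω (eig y.1 (1 : F)) L)
    {g : Fin (n + n) → F[X]} (hgx : ∀ j, divs x.1 j = (X - C 1) ^ rootMultiplicity 1 (divs x.1 j) * g j)
    (hgy : ∀ j, divs y.1 j = (X - C 1) ^ rootMultiplicity 1 (divs y.1 j) * g j) : IsConj x y := by
  classical
  have hndE : ∀ z : Matrix.symplecticGroup (Fin n) F, (udata z).NonDeg (eig z (1 : F)) := fun z v hv h =>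
    congrArg Subtype.val ((eig_symp z (one_mul 1)).nondeg ⟨v, hv⟩ fun y => h _ y.2)
  obtain ⟨φ, hφN, hφB, hφq⟩ := hx.exists_equiv (isQuad_udata hq x.2) (isQuad_udata hq y.2) hy (hndE _) (hndE _)
  obtain ⟨ρ, hρT, hρB, hρq⟩ := exists_reg_equiv hn hq x.2 y.2 hgx hgy
  have hφT : ∀ u : eig x.1 (1 : F), (φ ⟨lin x.1 u.1, shiftT_pow_mem u.2⟩).1 = lin y.1 (φ u).1 := by
    intro u
    have hN : (udata x.1).N u.1 ∈ eig x.1 (1 : F) := add_mem (shiftT_pow_mem u.2) u.2
    have e2 : (⟨lin x.1 u.1, shiftT_pow_mem u.2⟩ : eig x.1 (1 : F)) = ⟨(udata x.1).N u.1, hN⟩ + u :=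
      Subtype.ext ((udata x.1).T_apply u.1)
    rw [e2, map_add]
    show (φ ⟨_, _⟩).1 + (φ u).1 = _
    rw [hφN u hN]
    exact ((udata y.1).T_apply _).symm
  let Px := Submodule.prodEquivOfIsCompl _ _ (reg_isCompl x.1)
  let Py := Submodule.prodEquivOfIsCompl _ _ (reg_isCompl y.1)
  let H := Px.symm.trans ((φ.prodCongr ρ).trans Py)
  have hH : ∀ a b, H (a.1 + b.1) = (φ a).1 + (ρ b).1 := fun a b => by
    show Py ((φ.prodCongr ρ) (Px.symm (Px (a, b)))) = _
    rw [Px.symm_apply_apply]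
    rfl
  have hdec : ∀ v, ∃ (a : eig x.1 (1 : F)) (b : reg x.1), v = a.1 + b.1 := fun v =>
    ⟨(Px.symm v).1, (Px.symm v).2, (Px.apply_symm_apply v).symm⟩
  have hHB : ∀ u v, stdForm n F (H u) (H v) = stdForm n F u v := by
    intro u v
    obtain ⟨a, b, rfl⟩ := hdec u
    obtain ⟨c, d, rfl⟩ := hdec v
    have hstd := Symplectic.isSympForm_stdForm n F
    simp only [hH, map_add, LinearMap.add_apply]
    rw [hρB, show stdForm n F (φ a).1 (φ c).1 = stdForm n F a.1 c.1 from hφB a c, reg_perp y.1 (φ a).2 (ρ d).2,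
      reg_perp x.1 a.2 d.2, hstd.comm_eq_zero.1 (reg_perp y.1 (φ c).2 (ρ b).2),
      hstd.comm_eq_zero.1 (reg_perp x.1 c.2 b.2)]
  have hHq : ∀ v, q (H v) = q v := by
    intro v
    obtain ⟨a, b, rfl⟩ := hdec v
    rw [hH, hq.add, hq.add, hφq, hρq, reg_perp y.1 (φ a).2 (ρ b).2, reg_perp x.1 a.2 b.2]
  have hHT : ∀ v, H (lin x.1 v) = lin y.1 (H v) := by
    intro v
    obtain ⟨a, b, rfl⟩ := hdec v
    rw [map_add, hH ⟨lin x.1 a.1, shiftT_pow_mem a.2⟩ ⟨lin x.1 b.1, shiftT_pow_mem_range b.2⟩, hH, map_add,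
      hφT, hρT]
  let z : Matrix.symplecticGroup (Fin n) F := (Symplectic.spEquiv n F).symm ⟨H, hHB⟩
  have hz : ∀ v, lin z v = H v := fun v => by
    show Matrix.toLin' (LinearMap.toMatrix' H.toLinearMap) v = H v
    rw [Matrix.toLin'_toMatrix']; rfl
  refine isConj_iff.2 ⟨⟨z, fun v => by rw [hz, hHq]⟩, Subtype.ext ?_⟩
  show z * x.1 * z⁻¹ = y.1
  refine mul_inv_eq_of_eq_mul (Subtype.ext (Matrix.toLin'.injective (LinearMap.ext fun v => ?_)))
  show lin (z * x.1) v = lin (y.1 * z) v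
  rw [lin_mul, lin_mul, hz, hz, hHT]

/-! ### The parity -/

theorem exists_odata_frame (hq : IsPolar q) (ψ : Sgn F) (x : OG q) :
    ∃ L, (udata x.1).OFrame q ψ.ω (eig x.1 (1 : F)) L ∧ GoodList L ∧ (∀ a ∈ L, a.e ≤ n + n) ∧
      2 * codeWt (code L n) = finrank F (eig x.1 (1 : F)) ∧ codeWt (code L n) ≤ n := by
  have hinv : (udata x.1).Inv (eig x.1 (1 : F)) := by
    refine ⟨fun v hv => ?_, fun v hv => ?_⟩ <;> rw [mem_eig_iff] at hv ⊢
    · rw [← Module.End.mul_apply, ← pow_succ, pow_succ', Module.End.mul_apply, hv, map_zero]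
    · rw [← Module.End.mul_apply, ← ((udata x.1).commute_UN.pow_right (n + n)).eq, Module.End.mul_apply, hv,
        map_zero]
  have hnd : (udata x.1).NonDeg (eig x.1 (1 : F)) := fun v hv h =>
    congrArg Subtype.val ((eig_symp x.1 (one_mul 1)).nondeg ⟨v, hv⟩ fun y => h _ y.2)
  obtain ⟨L, hL, hg⟩ := UData.exists_oframe (isQuad_udata hq x.2) ψ.omega_spec _ _ rfl hinv hnd
    ⟨n + n, fun v hv => (mem_eig_iff x.1 v).1 hv⟩
  have hbd : ∀ a ∈ L, a.e ≤ n + n := fun a ha => by
    obtain ⟨v, hv, w, -, h⟩ := hL.frame.witness ha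
    exact UData.atom_le h hv fun v hv => (mem_eig_iff x.1 v).1 hv
  have hwt : 2 * codeWt (code L n) = finrank F (eig x.1 (1 : F)) := by
    rw [two_codeWt hg, sum_levDim n L fun a ha => ⟨hg.valid a ha, hbd a ha⟩, hL.frame.finrank_eq]
  refine ⟨L, hL, hg, hbd, hwt, ?_⟩
  have := (Submodule.finrank_le (eig x.1 (1 : F))).trans_eq (finrank_space (F := F) (n := n))
  omega

theorem sum_count_om (n : ℕ) : ∀ L : List Atom, (∀ a ∈ L, a.Valid ∧ a.e ≤ n + n) →
    ∑ k ∈ Finset.range n, (L.count ⟨2 * (k + 1) - 1, true, true⟩ + L.count ⟨2 * (k + 1), false, true⟩) =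
      L.countP fun a => a.om
  | [], _ => by simp
  | a :: L, h => by
    rw [List.countP_cons, ← sum_count_om n L fun b hb => h b (List.mem_cons_of_mem _ hb)]
    obtain ⟨hv, hb⟩ := h a (List.mem_cons_self ..)
    simp only [List.count_cons, ← add_assoc, Finset.sum_add_distrib]
    rcases a with ⟨e, p, o⟩
    have hp := hv.pos
    simp only at hb hp
    cases o
    · simp
    obtain ⟨k₀, hk₀, hk⟩ : ∃ k₀, k₀ < n ∧
        ∀ k, ((e = 2 * (k + 1) - 1 ∧ p = true) ↔ (p = true ∧ k = k₀)) ∧ ((e = 2 * (k + 1) ∧ p = false) ↔ (p = false ∧ k = k₀)) := by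
      cases p
      · obtain ⟨j, hj⟩ := hv.even rfl
        simp only at hj
        exact ⟨j - 1, by omega, fun k => ⟨by simp, by simp; omega⟩⟩
      · obtain ⟨j, hj⟩ := hv.omPair rfl rfl
        simp only at hj
        exact ⟨j, by omega, fun k => ⟨by simp; omega, by simp⟩⟩
    have e1 : ∀ k, ((⟨e, p, true⟩ : Atom) == ⟨2 * (k + 1) - 1, true, true⟩) = decide (p = true ∧ k = k₀) := fun k => by
      rw [Bool.eq_iff_iff, beq_iff_eq, decide_eq_true_iff, ← (hk k).1, Atom.mk.injEq]; simp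
    have e2 : ∀ k, ((⟨e, p, true⟩ : Atom) == ⟨2 * (k + 1), false, true⟩) = decide (p = false ∧ k = k₀) := fun k => by
      rw [Bool.eq_iff_iff, beq_iff_eq, decide_eq_true_iff, ← (hk k).2, Atom.mk.injEq]; simp
    cases p <;> simp [e1, e2, hk₀] <;> ring

theorem codeOm_eq {L : List Atom} (h : GoodList L) : ∀ m, codeOm (code L m) =
    ∑ k ∈ Finset.range m, (L.count ⟨2 * (k + 1) - 1, true, true⟩ + L.count ⟨2 * (k + 1), false, true⟩)
  | 0 => rfl
  | m + 1 => by
    rw [code, codeOm, Finset.sum_range_succ, ← codeOm_eq h m, count_eq_ite L h _ rfl, count_eq_ite L h _ rfl,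
      add_comm]
    rfl

theorem sgnPar_eq : ∀ L : List Atom, UData.sgnPar L = (-1) ^ L.countP fun a => a.om
  | [] => rfl
  | a :: L => by
    show (List.map _ (a :: L)).prod = _
    rw [List.map_cons, List.prod_cons, List.countP_cons]
    show (if a.om then (-1 : ℤ) else 1) * UData.sgnPar L = _
    rw [sgnPar_eq L]
    cases a.om <;> simp [pow_succ]

theorem sgnPar_code {L : List Atom} (h : GoodList L) {n : ℕ} (hb : ∀ a ∈ L, a.e ≤ n + n) :
    UData.sgnPar L = (-1) ^ codeOm (code L n) := by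
  rw [sgnPar_eq, codeOm_eq h, sum_count_om n L fun a ha => ⟨h.valid a ha, hb a ha⟩]

/-- The parity of the signs is determined by the regular part. -/
theorem parity_eq (hn : 1 ≤ n) (hq : IsPolar q) (ψ : Sgn F) {x y : OG q} {L L' : List Atom}
    (hx : (udata x.1).OFrame q ψ.ω (eig x.1 (1 : F)) L) (hy : (udata y.1).OFrame q ψ.ω (eig y.1 (1 : F)) L')
    (hg : GoodList L) (hg' : GoodList L') (hb : ∀ a ∈ L, a.e ≤ n + n) (hb' : ∀ a ∈ L', a.e ≤ n + n)
    {g : Fin (n + n) → F[X]} (hgx : ∀ j, divs x.1 j = (X - C 1) ^ rootMultiplicity 1 (divs x.1 j) * g j)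
    (hgy : ∀ j, divs y.1 j = (X - C 1) ^ rootMultiplicity 1 (divs y.1 j) * g j) :
    codeOm (code L n) % 2 = codeOm (code L' n) % 2 := by
  classical
  obtain ⟨ρ, -, -, hρq⟩ := exists_reg_equiv hn hq x.2 y.2 hgx hgy
  have hsplit : ∀ z : OG q, UData.gsum ψ q (⊤ : Submodule F (Fin n ⊕ Fin n → F)) =
      UData.gsum ψ q (eig z.1 (1 : F)) * UData.gsum ψ q (reg z.1) := fun z => by
    rw [← (reg_isCompl z.1).sup_eq_top]
    exact UData.gsum_sup ψ (isQuad_udata hq z.2) (reg_isCompl z.1).disjoint fun r hr u hu => reg_perp z.1 hu hr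
  have hR : UData.gsum ψ q (reg x.1) = UData.gsum ψ q (reg y.1) := by
    refine Finset.sum_bij (fun v hv => (ρ ⟨v, by simpa using hv⟩).1) (fun v hv => ?_) (fun u hu v hv h => ?_)
      (fun w hw => ?_) fun v hv => by rw [hρq]
    · exact (Set.Finite.mem_toFinset _).2 (ρ _).2
    · exact congrArg Subtype.val (ρ.injective (Subtype.ext h))
    · obtain ⟨v, hv⟩ := ρ.surjective ⟨w, by simpa using hw⟩
      exact ⟨v.1, by simp [v.2], congrArg Subtype.val hv⟩
  obtain ⟨P, hP, hPx⟩ := hx.gsum_eq ψ (isQuad_udata hq x.2) hg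
  obtain ⟨P', hP', hPy⟩ := hy.gsum_eq ψ (isQuad_udata hq y.2) hg'
  have h := (hsplit x).symm.trans (hsplit y)
  have hne := UData.gsum_top_ne_zero ψ (isQuad_udata hq x.2)
  rw [hsplit x, hR] at hne
  rw [hR] at h
  have h' := mul_right_cancel₀ (right_ne_zero_of_mul hne) h
  rw [hPx, hPy, sgnPar_code hg hb, sgnPar_code hg' hb'] at h'
  generalize codeOm (code L n) = a at h' ⊢
  generalize codeOm (code L' n) = b at h' ⊢
  rcases Nat.even_or_odd a with ha | ha <;> rcases Nat.even_or_odd b with hb2 | hb2 <;>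
    rw [ha.neg_one_pow, hb2.neg_one_pow] at h'
  · rw [Nat.even_iff.1 ha, Nat.even_iff.1 hb2]
  · linarith
  · linarith
  · rw [Nat.odd_iff.1 ha, Nat.odd_iff.1 hb2]

/-! ### The count -/

theorem card_OG_classes_le (hn : 1 ≤ n) (hq : IsPolar q) :
    Nat.card (ConjClasses (OG q)) ≤ 15 * Fintype.card F ^ n := by
  classical
  obtain ⟨ψ⟩ := exists_sgn (F := F)
  choose L hL hgood hbd hwt hle using exists_odata_frame hq ψ
  choose g1 hg1 hsd hev hdeg using fun (x : OG q) j => exists_split (divs_sd x.1 j)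
  let h : OG q → Fin (n + n) → F[X] := fun x j => half (g1 x j)
  have hg_eq : ∀ x y, h x = h y → g1 x = g1 y := fun x y e => funext fun j =>
    half_inj (hsd x j) (hsd y j) (hev x j) (hev y j) (congrFun e j)
  let par : (Fin (n + n) → F[X]) → ℕ := fun t =>
    if ht : ∃ x, h x = t then codeOm (code (L ht.choose) n) % 2 else 0
  have hpar : ∀ x, codeOm (code (L x) n) % 2 = par (h x) := fun x => by
    have ht : ∃ z, h z = h x := ⟨x, rfl⟩
    simp only [par, dif_pos ht]
    exact parity_eq hn hq ψ (hL x) (hL _) (hgood x) (hgood _) (hbd x) (hbd _) (hg1 x)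
      (fun j => by rw [← hg_eq _ _ ht.choose_spec]; exact hg1 ht.choose j)
  have hTw : ∀ x, ∑ j : Fin (n + n), ((j : ℕ) + 1) * (half (g1 x j)).natDegree = n - codeWt (code (L x) n) := by
    intro x
    have hsum := (invT (toGL n F x.1)).2.2
    have e : ∀ j : Fin (n + n), ((j : ℕ) + 1) * (divs x.1 j).natDegree =
        ((j : ℕ) + 1) * rootMultiplicity 1 (divs x.1 j) + 2 * (((j : ℕ) + 1) * (half (g1 x j)).natDegree) := by
      intro j
      obtain ⟨⟨m, hm⟩, -, hd, -⟩ := half_spec (hsd x j) (hev x j)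
      rw [hdeg x j, hd, hm, show (m + m) / 2 = m by omega]
      ring
    rw [Finset.sum_congr rfl fun j _ => e j, Finset.sum_add_distrib, ← finrank_eig_eq, ← Finset.mul_sum,
      ← hwt x] at hsum
    omega
  have hmem : ∀ x, code (L x) n ∈ (OSet n (codeWt (code (L x) n))).filter fun c => codeOm c % 2 = par (h x) := by
    intro x
    refine Finset.mem_filter.2 ⟨Finset.mem_filter.2 ⟨Finset.mem_union.2 ?_, rfl⟩, hpar x⟩
    have h := code_mem (hgood x) (s0 := false) (fun e => by simp at e) (n := n) n (hle x)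
    rcases Bool.eq_false_or_eq_true (codeTop false (code (L x) n)) with hb | hb <;> rw [hb] at h
    · exact Or.inl h
    · exact Or.inr h
  let f : ConjClasses (OG q) → Σ j : Fin (n + 1), Σ t : ClassesGLBound.T F (n + n) (n - j.val),
      {c // c ∈ (OSet n j.val).filter fun c => codeOm c % 2 = par t.1} := fun Cl =>
    ⟨⟨_, Nat.lt_succ_of_le (hle (Quotient.out Cl))⟩,
      ⟨h (Quotient.out Cl), fun j => ⟨(half_spec (hsd _ j) (hev _ j)).2.1, (half_spec (hsd _ j) (hev _ j)).2.2.2⟩,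
        hTw _⟩, _, hmem _⟩
  have hf : Function.Injective f := by
    intro C C' e
    have e' := congrArg (fun s : Σ j : Fin (n + 1), Σ t : ClassesGLBound.T F (n + n) (n - j.val),
      {c // c ∈ (OSet n j.val).filter fun c => codeOm c % 2 = par t.1} =>
      ((s.2.2.1, s.2.1.1) : List St × (Fin (n + n) → F[X]))) e
    simp only [f, Prod.mk.injEq] at e'
    rw [← Quotient.out_eq C, ← Quotient.out_eq C']
    refine Quotient.sound (isConj_OG hn hq (hL _) ?_ (hg1 _) fun j => ?_)
    · rw [(hgood _).eq_of_code (hgood _) (hbd _) (hbd _) e'.1]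
      exact hL _
    · rw [hg_eq _ _ e'.2]; exact hg1 _ j
  haveI : ∀ j : Fin (n + 1), Finite (ClassesGLBound.T F (n + n) (n - j.val)) := fun j => (card_T F _ _).1
  letI : ∀ j : Fin (n + 1), Fintype (ClassesGLBound.T F (n + n) (n - j.val)) := fun j => Fintype.ofFinite _
  have h1 := Nat.card_le_card_of_injective f hf
  rw [Nat.card_sigma] at h1
  have h2 : 2 * Nat.card (ConjClasses (OG q)) ≤
      ∑ j ∈ Finset.range (n + 1), Fintype.card F ^ (n - j) * ((OSet n j).card + (ZSet n j).card) := by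
    refine (Nat.mul_le_mul_left 2 h1).trans ?_
    rw [Finset.mul_sum, ← Fin.sum_univ_eq_sum_range
      (fun j => Fintype.card F ^ (n - j) * ((OSet n j).card + (ZSet n j).card))]
    refine Finset.sum_le_sum fun j _ => ?_
    rw [Nat.card_sigma, Finset.mul_sum]
    refine (Finset.sum_le_card_nsmul _ _ ((OSet n j.val).card + (ZSet n j.val).card) fun t _ => ?_).trans ?_
    · rw [Nat.card_eq_fintype_card, Fintype.card_coe]
      exact two_mul_card_parity n j.val _
    · rw [smul_eq_mul, Finset.card_univ, ← Nat.card_eq_fintype_card]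
      exact Nat.mul_le_mul_right _ (card_T_le _ _ (by omega))
  have hq2 : (2 : ℚ) ≤ Fintype.card F := by exact_mod_cast (Fintype.one_lt_card : 1 < Fintype.card F)
  have h3 : ((∑ j ∈ Finset.range (n + 1), Fintype.card F ^ (n - j) * ((OSet n j).card + (ZSet n j).card) : ℕ) : ℚ) ≤
      (Fintype.card F : ℚ) ^ n * 30 := by
    push_cast
    refine le_trans ?_ (mul_le_mul_of_nonneg_left (parity_sum_le n) (by positivity))
    rw [Finset.mul_sum]
    refine Finset.sum_le_sum fun j hj => ?_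
    obtain ⟨d, hd⟩ := Nat.exists_eq_add_of_le (Nat.le_of_lt_succ (Finset.mem_range.1 hj))
    rw [mul_comm (((OSet n j).card : ℚ) + _), ← mul_assoc]
    refine mul_le_mul_of_nonneg_right ?_ (add_nonneg (Nat.cast_nonneg _) (Nat.cast_nonneg _))
    rw [show n - j = d by omega, hd, pow_add, mul_comm ((Fintype.card F : ℚ) ^ j), mul_assoc, ← mul_pow]
    refine le_mul_of_one_le_right (by positivity) (one_le_pow₀ ?_)
    linarith
  have h4 : (((2 * Nat.card (ConjClasses (OG q))) : ℕ) : ℚ) ≤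
      ((∑ j ∈ Finset.range (n + 1), Fintype.card F ^ (n - j) * ((OSet n j).card + (ZSet n j).card) : ℕ) : ℚ) := by
    exact_mod_cast h2
  have h5 : ((Nat.card (ConjClasses (OG q)) : ℕ) : ℚ) ≤ ((15 * Fintype.card F ^ n : ℕ) : ℚ) := by
    have h5' := h4.trans h3
    rw [Nat.cast_mul, Nat.cast_ofNat] at h5'
    push_cast; linarith
  exact_mod_cast h5

end Cfsg.Agent.Lib.ClassesSpTwo46
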