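import Cfsg.Agent.Lib.ClassesSpTwo46.Basic

/-!
Standard generators for the indecomposable unipotent pieces of a symplectic space in characteristic two.

Owner: helper46.
-/

set_option autoImplicit false
set_option linter.unusedSectionVars false

namespace Cfsg.Agent.Lib.ClassesSpTwo46

universe u v

variable {F : Type u} [Field F] {V : Type v} [AddCommGroup V] [Module F V] [CharP F 2]

/-- The type of a piece: the exponent, one or two generators, and a sign. -/
structure Atom where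
  /-- exponent -/
  e : ℕ
  /-- two generators -/
  pair : Bool
  /-- sign -/
  om : Bool
deriving DecidableEq

namespace UData

variable (D : UData F V)

/-- Generators of a piece of type `a`. -/
structure IsAtom (ω : F) (a : Atom) (v w : V) : Prop where
  pos : 1 ≤ a.e
  kv : (D.N ^ a.e) v = 0
  kw : (D.N ^ a.e) w = 0
  cross : a.pair = true → ∀ d, D.B ((D.N ^ d) v) w = if d + 1 = a.e then 1 else 0
  qv : a.pair = true → ∀ l, D.Q l v = if a.om = true ∧ l + l + 3 = a.e then 1 else 0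
  qw : a.pair = true → ∀ l, D.Q l w = if a.om = true ∧ l + l + 3 = a.e then ω else 0
  even : a.pair = false → Even a.e
  qc : a.pair = false → ∀ l, D.Q l v =
    if l + l + 2 = a.e then 1 else if a.om = true ∧ l + l + 4 = a.e then ω else 0
  same : a.pair = false → w = v

/-- A hyperbolic pair at the top exponent. -/
structure Pre (e : ℕ) (v w : V) : Prop where
  pos : 1 ≤ e
  kv : (D.N ^ e) v = 0
  kw : (D.N ^ e) w = 0
  bv : D.B ((D.N ^ (e - 1)) v) v = 0
  bw : D.B ((D.N ^ (e - 1)) w) w = 0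
  bvw : D.B ((D.N ^ (e - 1)) v) w = 1

variable {D} {e : ℕ} {v w : V}

theorem Pre.symm (h : D.Pre e v w) : D.Pre e w v where
  pos := h.pos
  kv := h.kw
  kw := h.kv
  bv := h.bw
  bw := h.bv
  bvw := by
    rw [D.top_symm (m := e - 1) (by rw [Nat.sub_add_cancel h.pos]; exact h.kv)]
    exact h.bvw

theorem self_high {x : V} (hx : (D.N ^ e) x = 0) (hb : D.B ((D.N ^ (e - 1)) x) x = 0) (p : ℕ) {m : ℕ}
    (hm : e ≤ m + 1) : D.B (D.Z p m x) x = 0 := by
  rcases Nat.lt_or_ge m e with h | h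
  · rw [D.Z_top hx p hm, show m = e - 1 by omega, hb]
  · rw [D.Z_kill hx p h, map_zero, LinearMap.zero_apply]

theorem Pre.cross_high (h : D.Pre e v w) (p : ℕ) {m : ℕ} (hm : e ≤ m + 1) :
    D.B (D.Z p m v) w = if m + 1 = e then 1 else 0 := by
  rcases Nat.lt_or_ge m e with hme | hme
  · rw [D.Z_top h.kv p hm, if_pos (by omega), show m = e - 1 by omega, h.bvw]
  · rw [D.Z_kill h.kv p hme, map_zero, LinearMap.zero_apply, if_neg (by omega)]

theorem kill_add {x y : V} (hx : (D.N ^ e) x = 0) (hy : (D.N ^ e) y = 0) (c : F) (i : ℕ) :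
    (D.N ^ e) (x + c • (D.N ^ i) y) = 0 := by
  rw [map_add, map_smul, ← Module.End.mul_apply, ← pow_add, D.kill_le hy (Nat.le_add_right e i), hx, smul_zero,
    add_zero]

theorem top_add {x y : V} (hy : (D.N ^ e) y = 0) (he : 1 ≤ e) (c : F) {i : ℕ} (hi : 1 ≤ i) :
    (D.N ^ (e - 1)) (x + c • (D.N ^ i) y) = (D.N ^ (e - 1)) x := by
  rw [map_add, map_smul, ← Module.End.mul_apply, ← pow_add, D.kill_le hy (show e ≤ e - 1 + i by omega), smul_zero,
    add_zero]

theorem pair_zero {x : V} (hx : (D.N ^ e) x = 0) (i : ℕ) {m : ℕ} (hm : e ≤ i + m) (y : V) :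
    D.B ((D.N ^ m) x) ((D.N ^ i) y) = 0 := by
  rw [← D.Z_zero, form_N, D.Z_kill hx _ hm, map_zero, LinearMap.zero_apply]

/-- Adding a multiple of `Nⁱ w` to `v` keeps the pair. -/
theorem Pre.addv (h : D.Pre e v w) (c : F) {i : ℕ} (hi : 1 ≤ i) : D.Pre e (v + c • (D.N ^ i) w) w where
  pos := h.pos
  kv := kill_add h.kv h.kw c i
  kw := h.kw
  bv := by
    rw [top_add h.kw h.pos c hi, map_add, map_smul, h.bv, pair_zero h.kv i (by have := h.pos; omega)]
    simp
  bw := h.bw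
  bvw := by rw [top_add h.kw h.pos c hi, h.bvw]

theorem Pre.addv' (h : D.Pre e v w) (c : F) {i : ℕ} (hi : 1 ≤ i) : D.Pre e v (w + c • (D.N ^ i) v) :=
  (h.symm.addv c hi).symm

theorem Pre.addw (h : D.Pre e v w) (c : F) {i : ℕ} (hi : 1 ≤ i) : D.Pre e v (w + c • (D.N ^ i) w) where
  pos := h.pos
  kv := h.kv
  kw := kill_add h.kw h.kw c i
  bv := h.bv
  bw := by
    rw [top_add h.kw h.pos c hi, map_add, map_smul, h.bw, pair_zero h.kw i (by have := h.pos; omega)]
    simp
  bvw := by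
    rw [map_add, map_smul, h.bvw, pair_zero h.kv i (by have := h.pos; omega)]
    simp

/-- The effect of adding `c Nⁱ w` to `v` on the quadratic values of high level. -/
theorem Pre.Q_addv (h : D.Pre e v w) (c : F) {i d : ℕ} (hid : i + d + 1 = e) (hi : 1 ≤ i) {l : ℕ}
    (hl : d ≤ l + l + 2) :
    D.Q l (v + c • (D.N ^ i) w) = D.Q l v + if l + l + 2 = d then c else 0 := by
  rw [Q_add, Q_smul, Q_N, self_high h.kw h.bw _ (by omega), mul_zero, add_zero, map_smul, form_N,
    h.cross_high _ (by omega)]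
  split_ifs <;> first | omega | simp

/-- The effect of adding `c Nⁱ w` to `w` on the quadratic values of high level. -/
theorem Pre.Q_addw (h : D.Pre e v w) (c : F) {i d : ℕ} (hid : i + d + 1 = e) (hi : 1 ≤ i) {l : ℕ}
    (hl : d ≤ l + l + 2) : D.Q l (w + c • (D.N ^ i) w) = D.Q l w := by
  rw [Q_add, Q_smul, Q_N, self_high h.kw h.bw _ (by omega), mul_zero, add_zero, map_smul, form_N,
    self_high h.kw h.bw _ (by omega)]
  simp

/-- The invariant of the normalisation at level `d`. -/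
structure Lev (D : UData F V) (e : ℕ) (a b : F) (d : ℕ) (v w : V) : Prop where
  pre : D.Pre e v w
  cross : ∀ m, d ≤ m → m + 1 ≠ e → D.B ((D.N ^ m) v) w = 0
  qv : ∀ l, d ≤ l + l + 2 → D.Q l v = if l + l + 3 = e then a else 0
  qw : ∀ l, d ≤ l + l + 2 → D.Q l w = if l + l + 3 = e then b else 0

theorem Lev.step {a b : F} {d : ℕ} (h : Lev D e a b (d + 1) v w) (hd : d + 2 ≤ e) (W : Submodule F V)
    (hW : ∀ x ∈ W, D.N x ∈ W) (hv : v ∈ W) (hw : w ∈ W) :
    ∃ v' ∈ W, ∃ w' ∈ W, Lev D e a b d v' w' := by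
  obtain ⟨i, hi, hid⟩ : ∃ i, 1 ≤ i ∧ i + d + 1 = e := ⟨e - 1 - d, by omega, by omega⟩
  have hpow : ∀ x ∈ W, (D.N ^ i) x ∈ W := fun x hx => by
    clear hi hid
    induction i with
    | zero => exact hx
    | succ i ih => rw [pow_succ', Module.End.mul_apply]; exact hW _ ih
  obtain ⟨c, hc⟩ : ∃ c, c = D.B ((D.N ^ d) v) w := ⟨_, rfl⟩
  obtain ⟨w1, hw1⟩ : ∃ w1, w1 = w + c • (D.N ^ i) w := ⟨_, rfl⟩
  have p1 : D.Pre e v w1 := hw1 ▸ h.pre.addw c hi
  have hw1W : w1 ∈ W := hw1 ▸ add_mem hw (W.smul_mem _ (hpow w hw))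
  have cross1 : ∀ m, d ≤ m → m + 1 ≠ e → D.B ((D.N ^ m) v) w1 = 0 := by
    intro m hm hme
    have e1 : D.B ((D.N ^ m) v) ((D.N ^ i) w) = if i + m + 1 = e then 1 else 0 := by
      rw [← D.Z_zero m, form_N, h.pre.cross_high _ (by omega)]
    rw [hw1, map_add, map_smul, e1, smul_eq_mul]
    rcases eq_or_lt_of_le hm with rfl | hlt
    · rw [if_pos (by omega), mul_one, ← hc, CharTwo.add_self_eq_zero]
    · rw [if_neg (by omega), mul_zero, add_zero, h.cross m hlt hme]
  have qw1 : ∀ l, d + 1 ≤ l + l + 2 → D.Q l w1 = if l + l + 3 = e then b else 0 := fun l hl => by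
    rw [hw1, h.pre.Q_addw c hid hi (by omega), h.qw l hl]
  by_cases hev : ∃ l, l + l + 2 = d
  · obtain ⟨l₀, hl₀⟩ := hev
    obtain ⟨v1, hv1⟩ : ∃ v1, v1 = v + D.Q l₀ v • (D.N ^ i) w1 := ⟨_, rfl⟩
    have p2 : D.Pre e v1 w1 := hv1 ▸ p1.addv _ hi
    have hv1W : v1 ∈ W := hv1 ▸ add_mem hv (W.smul_mem _ (hpow _ hw1W))
    obtain ⟨w2, hw2⟩ : ∃ w2, w2 = w1 + D.Q l₀ w1 • (D.N ^ i) v1 := ⟨_, rfl⟩
    refine ⟨v1, hv1W, w2, hw2 ▸ add_mem hw1W (W.smul_mem _ (hpow _ hv1W)), hw2 ▸ p2.addv' _ hi, fun m hm hme => ?_,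
      fun l hl => ?_, fun l hl => ?_⟩
    · have h1 : D.B ((D.N ^ m) v1) w1 = 0 := by
        have e2 : D.B ((D.N ^ m) ((D.N ^ i) w1)) w1 = 0 := by
          rw [← Module.End.mul_apply, ← pow_add, ← D.Z_zero, self_high p1.kw p1.bw _ (by omega)]
        simp [hv1, cross1 m hm hme, e2]
      have e3 : D.B ((D.N ^ m) v1) ((D.N ^ i) v1) = 0 := by
        rw [← D.Z_zero m, form_N, self_high p2.kv p2.bv _ (by omega)]
      simp [hw2, h1, e3]
    · rw [hv1, p1.Q_addv _ hid hi hl]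
      rcases eq_or_lt_of_le hl with hl' | hlt
      · obtain rfl : l = l₀ := by omega
        rw [if_pos hl'.symm, CharTwo.add_self_eq_zero, if_neg (by omega)]
      · rw [if_neg (by omega), add_zero, h.qv l hlt]
    · rw [hw2, p2.symm.Q_addv _ hid hi hl]
      rcases eq_or_lt_of_le hl with hl' | hlt
      · obtain rfl : l = l₀ := by omega
        rw [if_pos hl'.symm, CharTwo.add_self_eq_zero, if_neg (by omega)]
      · rw [if_neg (by omega), add_zero, qw1 l hlt]
  · push_neg at hev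
    refine ⟨v, hv, w1, hw1W, p1, cross1, fun l hl => h.qv l ?_, fun l hl => qw1 l ?_⟩ <;>
      · have := hev l; omega

theorem pair_std {W : Submodule F V} (hW : ∀ x ∈ W, D.N x ∈ W) (hv : v ∈ W) (hw : w ∈ W)
    (h : D.Pre e v w) (a b : F) (hqv : ∀ l, l + l + 3 = e → D.Q l v = a)
    (hqw : ∀ l, l + l + 3 = e → D.Q l w = b) :
    ∃ v' ∈ W, ∃ w' ∈ W, D.Pre e v' w' ∧ (∀ d, D.B ((D.N ^ d) v') w' = if d + 1 = e then 1 else 0) ∧
      (∀ l, D.Q l v' = if l + l + 3 = e then a else 0) ∧ ∀ l, D.Q l w' = if l + l + 3 = e then b else 0 := by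
  have hhigh : ∀ x : V, (D.N ^ e) x = 0 → D.B ((D.N ^ (e - 1)) x) x = 0 → ∀ l, e - 1 ≤ l + l + 2 →
      l + l + 3 ≠ e → D.Q l x = 0 := fun x hx hb l hl hne => self_high hx hb _ (by omega)
  have base : Lev D e a b (e - 1) v w :=
    ⟨h, fun m hm hme => by rw [D.kill_le h.kv (show e ≤ m by omega), map_zero, LinearMap.zero_apply],
      fun l hl => by split_ifs with hl' <;> [exact hqv l hl'; exact hhigh v h.kv h.bv l hl hl'],
      fun l hl => by split_ifs with hl' <;> [exact hqw l hl'; exact hhigh w h.kw h.bw l hl hl']⟩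
  have key : ∀ k, k ≤ e - 1 → ∃ v' ∈ W, ∃ w' ∈ W, Lev D e a b (e - 1 - k) v' w' := by
    intro k
    induction k with
    | zero => exact fun _ => ⟨v, hv, w, hw, base⟩
    | succ k ih =>
      intro hk
      obtain ⟨v', hv', w', hw', hl⟩ := ih (by omega)
      rw [show e - 1 - k = e - 1 - (k + 1) + 1 by omega] at hl
      exact hl.step (by omega) W hW hv' hw'
  obtain ⟨v', hv', w', hw', hl⟩ := key (e - 1) le_rfl
  rw [Nat.sub_self] at hl
  refine ⟨v', hv', w', hw', hl.pre, fun d => ?_, fun l => hl.qv l (Nat.zero_le _), fun l => hl.qw l (Nat.zero_le _)⟩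
  split_ifs with hd
  · rw [show d = e - 1 by omega, hl.pre.bvw]
  · exact hl.cross d (Nat.zero_le _) hd

/-- Normalisation of a single generator. -/
theorem cyc_std {k : ℕ} {x : V} {W : Submodule F V} (hW : ∀ y ∈ W, D.N y ∈ W) (hx : x ∈ W)
    (he : k + 1 + (k + 1) = e) (hk : (D.N ^ e) x = 0) (htop : D.Q k x = 1) :
    ∃ y ∈ W, (D.N ^ e) y = 0 ∧ D.Q k y = 1 ∧ (∀ l, l + 1 = k → D.Q l y = D.Q l x) ∧
      ∀ l, l + 2 ≤ k → D.Q l y = 0 := by
  have key : ∀ n, ∃ y ∈ W, (D.N ^ e) y = 0 ∧ D.Q k y = 1 ∧ (∀ l, l + 1 = k → D.Q l y = D.Q l x) ∧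
      ∀ l, l + 2 ≤ k → k ≤ l + 1 + n → D.Q l y = 0 := by
    intro n
    induction n with
    | zero => exact ⟨x, hx, hk, htop, fun _ _ => rfl, fun l h1 h2 => by omega⟩
    | succ n ih =>
      obtain ⟨y, hy, hyk, hyt, hyn, hy0⟩ := ih
      by_cases hn : n + 2 ≤ k
      · obtain ⟨l₀, hl₀⟩ : ∃ l₀, l₀ + n + 2 = k := ⟨k - n - 2, by omega⟩
        set c := D.Q l₀ y
        have hpow : ∀ i, ∀ z ∈ W, (D.N ^ i) z ∈ W := fun i z hz => by
          induction i with
          | zero => exact hz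
          | succ i ih => rw [pow_succ', Module.End.mul_apply]; exact hW _ ih
        have hQ : ∀ l, l₀ ≤ l → D.Q l (y + c • (D.N ^ (2 * n + 3)) y) =
            D.Q l y + if l = l₀ then c else 0 := by
          intro l hl
          have hself : ∀ p m, e ≤ m + 1 → D.B (D.Z p m y) y = if m + 1 = e then 1 else 0 := by
            intro p m hm
            rcases Nat.lt_or_ge m e with hme | hme
            · rw [D.Z_top hyk p hm, if_pos (by omega), show m = k + k + 1 by omega, ← Q_top, hyt]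
              rwa [show k + k + 2 = e by omega]
            · rw [D.Z_kill hyk p hme, map_zero, LinearMap.zero_apply, if_neg (by omega)]
          rw [Q_add, Q_smul, Q_N, hself _ _ (by omega), map_smul, form_N, hself _ _ (by omega),
            if_neg (by omega), mul_zero, add_zero, smul_eq_mul]
          split_ifs <;> first | omega | simp
        refine ⟨y + c • (D.N ^ (2 * n + 3)) y, add_mem hy (W.smul_mem _ (hpow _ _ hy)),
          kill_add hyk hyk c _, ?_, fun l hl => ?_, fun l h1 h2 => ?_⟩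
        · rw [hQ k (by omega), hyt, if_neg (by omega), add_zero]
        · rw [hQ l (by omega), hyn l hl, if_neg (by omega), add_zero]
        · rw [hQ l (by omega)]
          split_ifs with hll
          · rw [hll, CharTwo.add_self_eq_zero]
          · rw [hy0 l h1 (by omega), add_zero]
      · exact ⟨y, hy, hyk, hyt, hyn, fun l h1 h2 => hy0 l h1 (by omega)⟩
  obtain ⟨y, h1, h2, h3, h4, h5⟩ := key k
  exact ⟨y, h1, h2, h3, h4, fun l hl => h5 l hl (by omega)⟩

/-- The next to top value can be changed by `c + c²`. -/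
theorem cyc_shift {k : ℕ} {x : V} {W : Submodule F V} (hW : ∀ y ∈ W, D.N y ∈ W) (hx : x ∈ W)
    (he : k + 2 + (k + 2) = e) (hk : (D.N ^ e) x = 0) (htop : D.Q (k + 1) x = 1) (c : F) :
    ∃ y ∈ W, (D.N ^ e) y = 0 ∧ D.Q (k + 1) y = 1 ∧ D.Q k y = D.Q k x + c + c * c := by
  have h1 : ∀ p, D.B (D.Z p (k + k + 3) x) x = 1 := fun p => by
    rw [D.Z_top hk p (by omega), show k + k + 3 = (k + 1) + (k + 1) + 1 by omega, ← Q_top, htop]
    rwa [show (k + 1) + (k + 1) + 2 = e by omega]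
  have h0 : ∀ p m, e ≤ m → D.B (D.Z p m x) x = 0 := fun p m hm => by
    rw [D.Z_kill hk p hm, map_zero, LinearMap.zero_apply]
  refine ⟨x + c • (D.N ^ 1) x, add_mem hx (W.smul_mem _ (by rw [pow_one]; exact hW x hx)),
    kill_add hk hk c 1, ?_, ?_⟩
  · rw [Q_add, Q_smul, Q_N, h0 _ _ (by omega), map_smul, form_N, h0 _ _ (by omega), htop]
    simp
  · rw [Q_add, Q_smul, Q_N, map_smul, form_N, show k + k + 1 + (1 + 1) = k + k + 3 by omega,
      show 1 + (k + k + 2) = k + k + 3 by omega, h1, h1]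
    simp only [smul_eq_mul]
    ring

end UData

end Cfsg.Agent.Lib.ClassesSpTwo46
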