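import Cfsg.Agent.Lib.ClassesSpTwo46.Count

/-!
The bound `∑ 2^(-weight) ≤ 15.2` over all codes.

Owner: helper46.
-/

set_option autoImplicit false
set_option linter.unusedSectionVars false

namespace Cfsg.Agent.Lib.ClassesSpTwo46

/-- The weight sum of the codes. -/
def wsum (n : ℕ) (s0 : Bool) (K : ℕ) (b : Bool) : ℚ := ∑ c ∈ Codes n s0 K b, (1 / 2 : ℚ) ^ codeWt c

/-- The factor of a level. -/
def fac (k : ℕ) (bp b : Bool) : ℚ :=
  1 / (1 - (1 / 2 : ℚ) ^ (2 * k)) *
    ((if b then (if bp then 1 else 2) * ((1 / 2 : ℚ) ^ k + (1 / 2 : ℚ) ^ (2 * k)) else 1) +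
      (1 / 2 : ℚ) ^ (2 * k - 1) / (1 - (1 / 2 : ℚ) ^ (2 * k - 1)) * (if bp then 1 else 2) *
        (if b then (1 / 2 : ℚ) ^ k + (1 / 2 : ℚ) ^ (2 * k) else 1))

theorem length_of_mem {n : ℕ} {s0 : Bool} : ∀ {K : ℕ} {b : Bool} {c : List St}, c ∈ Codes n s0 K b → c.length = K
  | 0, b, c, h => by
    by_cases hb : b = s0 <;> simp [Codes, hb] at h
    simp [h]
  | K + 1, b, c, h => by
    simp only [Codes, Finset.mem_union, Finset.mem_image, Finset.mem_product] at h
    rcases h with ⟨p, ⟨-, hp⟩, rfl⟩ | ⟨p, ⟨-, hp⟩, rfl⟩ <;> rw [List.length_cons, length_of_mem hp]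

theorem pow_lt_one_half {j : ℕ} (h : 1 ≤ j) : (1 / 2 : ℚ) ^ j < 1 :=
  pow_lt_one₀ (by norm_num) (by norm_num) (by omega)

theorem geom_half_le {j : ℕ} (hj : 1 ≤ j) (N : ℕ) :
    ∑ i ∈ Finset.range N, ((1 / 2 : ℚ) ^ j) ^ i ≤ 1 / (1 - (1 / 2 : ℚ) ^ j) := by
  rw [le_div_iff₀ (by linarith [pow_lt_one_half hj]), geom_sum_mul_neg]
  linarith [pow_nonneg (pow_nonneg (show (0 : ℚ) ≤ 1 / 2 by norm_num) j) N]

theorem sum_union_le {α : Type*} [DecidableEq α] (s t : Finset α) (f : α → ℚ) (hf : ∀ a, 0 ≤ f a) :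
    ∑ a ∈ s ∪ t, f a ≤ ∑ a ∈ s, f a + ∑ a ∈ t, f a := by
  rw [← Finset.sum_union_inter]
  exact le_add_of_nonneg_right (Finset.sum_nonneg fun a _ => hf a)

theorem sum_image_le' {α β : Type*} [DecidableEq β] (s : Finset α) (g : α → β) (f : β → ℚ) (hf : ∀ b, 0 ≤ f b) :
    ∑ b ∈ s.image g, f b ≤ ∑ a ∈ s, f (g a) :=
  Finset.sum_image_le_of_nonneg fun b _ => hf _

theorem steps_sum_le (n k : ℕ) (hk : 1 ≤ k) (bp b : Bool) :
    ∑ s ∈ steps n bp b, (1 / 2 : ℚ) ^ s.wt k ≤ fac k bp b := by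
  have h0 : ∀ s : St, (0 : ℚ) ≤ (1 / 2 : ℚ) ^ s.wt k := fun s => by positivity
  refine (sum_union_le _ _ _ h0).trans ((add_le_add (sum_image_le' _ _ _ h0) (sum_image_le' _ _ _ h0)).trans ?_)
  have hh := geom_half_le (show 1 ≤ 2 * k by omega) (n + 1)
  have hy := geom_half_le (show 1 ≤ 2 * k - 1 by omega) n
  set H := ∑ i ∈ Finset.range (n + 1), ((1 / 2 : ℚ) ^ (2 * k)) ^ i with hH
  set Y := ∑ i ∈ Finset.range n, ((1 / 2 : ℚ) ^ (2 * k - 1)) ^ i with hY
  have hH0 : 0 ≤ H := Finset.sum_nonneg fun i _ => by positivity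
  have hY0 : 0 ≤ Y := Finset.sum_nonneg fun i _ => by positivity
  have e1 : ∑ p ∈ Finset.range (n + 1) ×ˢ cyc0 bp b,
      (1 / 2 : ℚ) ^ St.wt k ⟨0, p.1, p.2.1, false, p.2.2⟩ =
      H * ∑ c ∈ cyc0 bp b, (1 / 2 : ℚ) ^ (k * (c.1 + if c.2 then 1 else 0)) := by
    rw [hH, Finset.sum_mul_sum, ← Finset.sum_product']
    refine Finset.sum_congr rfl fun p _ => ?_
    rw [← pow_mul, ← pow_add, St.wt]
    ring_nf
  have e2 : ∑ p ∈ Finset.range (n + 1) ×ˢ (Finset.range n ×ˢ (signs bp ×ˢ cyc1 b)),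
      (1 / 2 : ℚ) ^ St.wt k ⟨p.2.1 + 1, p.1, p.2.2.2, p.2.2.1, false⟩ =
      H * ((1 / 2 : ℚ) ^ (2 * k - 1) * Y * ((signs bp).card * ∑ c ∈ cyc1 b, (1 / 2 : ℚ) ^ (k * c))) := by
    have e : ∀ p ∈ Finset.range (n + 1) ×ˢ (Finset.range n ×ˢ (signs bp ×ˢ cyc1 b)),
        (1 / 2 : ℚ) ^ St.wt k ⟨p.2.1 + 1, p.1, p.2.2.2, p.2.2.1, false⟩ =
          ((1 / 2 : ℚ) ^ (2 * k)) ^ p.1 *
            ((1 / 2 : ℚ) ^ (2 * k - 1) * ((1 / 2 : ℚ) ^ (2 * k - 1)) ^ p.2.1 * (1 / 2 : ℚ) ^ (k * p.2.2.2)) := by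
      intro p _
      rw [← pow_mul, ← pow_mul, ← pow_add, ← pow_add, ← pow_add, St.wt]
      congr 1
      simp only [Bool.false_eq_true, if_false, mul_add, mul_one, add_zero]
      try omega
    rw [Finset.sum_congr rfl e]
    simp only [Finset.sum_product, ← Finset.mul_sum, ← Finset.sum_mul, Finset.sum_const, nsmul_eq_mul, ← hH, ← hY]
  rw [e1, e2, ← mul_add, fac]
  have hx0 : (0 : ℚ) ≤ (1 / 2 : ℚ) ^ (2 * k - 1) := by positivity
  have hden : (0 : ℚ) < 1 - (1 / 2 : ℚ) ^ (2 * k) := by linarith [pow_lt_one_half (show 1 ≤ 2 * k by omega)]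
  have hden' : (0 : ℚ) < 1 - (1 / 2 : ℚ) ^ (2 * k - 1) := by
    linarith [pow_lt_one_half (show 1 ≤ 2 * k - 1 by omega)]
  have hc0 : ∀ bp b, ∑ c ∈ cyc0 bp b, (1 / 2 : ℚ) ^ (k * (c.1 + if c.2 then 1 else 0)) =
      if b then (if bp then 1 else 2) * ((1 / 2 : ℚ) ^ k + (1 / 2 : ℚ) ^ (2 * k)) else 1 := by
    intro bp b
    rw [show (1 / 2 : ℚ) ^ (2 * k) = (1 / 2 : ℚ) ^ (k * 2) by rw [mul_comm]]
    cases bp <;> cases b <;> simp [cyc0] <;> ring
  have hc1 : ∀ b, ∑ c ∈ cyc1 b, (1 / 2 : ℚ) ^ (k * c) =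
      if b then (1 / 2 : ℚ) ^ k + (1 / 2 : ℚ) ^ (2 * k) else 1 := by
    intro b
    rw [show (1 / 2 : ℚ) ^ (2 * k) = (1 / 2 : ℚ) ^ (k * 2) by rw [mul_comm]]
    cases b <;> simp [cyc1]
  have hs : ∀ bp, ((signs bp).card : ℚ) = if bp then 1 else 2 := by intro bp; cases bp <;> simp [signs]
  rw [hc0, hc1, hs]
  have hx : (0 : ℚ) ≤ (if b then (1 / 2 : ℚ) ^ k + (1 / 2 : ℚ) ^ (2 * k) else 1) := by split_ifs <;> positivity
  clear hH hY e1 e2
  refine mul_le_mul hh (add_le_add le_rfl ?_) (by split_ifs <;> positivity) (div_nonneg zero_le_one hden.le)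
  rw [div_eq_mul_one_div ((1 / 2 : ℚ) ^ (2 * k - 1)), mul_assoc _ (if bp then (1 : ℚ) else 2)]
  refine mul_le_mul_of_nonneg_right (mul_le_mul_of_nonneg_left hy hx0) (mul_nonneg ?_ hx)
  split_ifs <;> norm_num

theorem wsum_succ_le (n : ℕ) (s0 : Bool) (K : ℕ) (b : Bool) :
    wsum n s0 (K + 1) b ≤ fac (K + 1) true b * wsum n s0 K true + fac (K + 1) false b * wsum n s0 K false := by
  have h0 : ∀ c : List St, (0 : ℚ) ≤ (1 / 2 : ℚ) ^ codeWt c := fun c => by positivity
  have part : ∀ bp, ∑ c ∈ (steps n bp b ×ˢ Codes n s0 K bp).image (fun p => p.1 :: p.2), (1 / 2 : ℚ) ^ codeWt c ≤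
      fac (K + 1) bp b * wsum n s0 K bp := by
    intro bp
    refine (sum_image_le' _ _ _ h0).trans ?_
    have e : ∀ p ∈ steps n bp b ×ˢ Codes n s0 K bp,
        (1 / 2 : ℚ) ^ codeWt (p.1 :: p.2) = (1 / 2 : ℚ) ^ p.1.wt (K + 1) * (1 / 2 : ℚ) ^ codeWt p.2 := by
      intro p hp
      rw [codeWt, length_of_mem (Finset.mem_product.1 hp).2, pow_add]
    rw [Finset.sum_congr rfl e, Finset.sum_product]
    simp only [← Finset.mul_sum, ← Finset.sum_mul]
    exact mul_le_mul_of_nonneg_right (steps_sum_le n (K + 1) (by omega) bp b) (Finset.sum_nonneg fun c _ => h0 c)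
  rw [wsum, Codes]
  exact (sum_union_le _ _ _ h0).trans (add_le_add (part true) (part false))

/-- Bounds for the two states. -/
def Bd (n : ℕ) (s0 : Bool) (K : ℕ) (a b : ℚ) : Prop := wsum n s0 K true ≤ a ∧ wsum n s0 K false ≤ b

theorem fac_nonneg (k : ℕ) (hk : 1 ≤ k) (bp b : Bool) : 0 ≤ fac k bp b :=
  (Finset.sum_nonneg fun s _ => pow_nonneg (by norm_num) _).trans (steps_sum_le 0 k hk bp b)

theorem Bd.step {n K : ℕ} {s0 : Bool} {a b a' b' : ℚ} (h : Bd n s0 K a b)
    (ha : fac (K + 1) true true * a + fac (K + 1) false true * b ≤ a')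
    (hb : fac (K + 1) true false * a + fac (K + 1) false false * b ≤ b') : Bd n s0 (K + 1) a' b' := by
  have f := fun bp c => fac_nonneg (K + 1) (by omega) bp c
  constructor
  · exact ((wsum_succ_le n s0 K true).trans (add_le_add (mul_le_mul_of_nonneg_left h.1 (f _ _))
      (mul_le_mul_of_nonneg_left h.2 (f _ _)))).trans ha
  · exact ((wsum_succ_le n s0 K false).trans (add_le_add (mul_le_mul_of_nonneg_left h.1 (f _ _))
      (mul_le_mul_of_nonneg_left h.2 (f _ _)))).trans hb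

theorem bd_fourteen (n : ℕ) : wsum n true 14 true + wsum n true 14 false ≤ 1517671 / 100000 := by
  have h0 : Bd n true 0 1 0 := ⟨by simp [wsum, Codes, codeWt], by simp [wsum, Codes]⟩
  have h1 : Bd n true 1 (2 / 1) (266666667 / 100000000) := Bd.step h0 (by norm_num [fac]) (by norm_num [fac])
  have h2 : Bd n true 2 (6984127 / 2500000) (60952381 / 10000000) := Bd.step h1 (by norm_num [fac]) (by norm_num [fac])
  have h3 : Bd n true 3 (44192817 / 20000000) (119012671 / 12500000) := Bd.step h2 (by norm_num [fac]) (by norm_num [fac])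
  have h4 : Bd n true 4 (71396681 / 50000000) (1194464929 / 100000000) := Bd.step h3 (by norm_num [fac]) (by norm_num [fac])
  have h5 : Bd n true 5 (10228539 / 12500000) (167940597 / 12500000) := Bd.step h4 (by norm_num [fac]) (by norm_num [fac])
  have h6 : Bd n true 6 (43971913 / 100000000) (713527071 / 50000000) := Bd.step h5 (by norm_num [fac]) (by norm_num [fac])
  have h7 : Bd n true 7 (5705579 / 25000000) (18393371 / 1250000) := Bd.step h6 (by norm_num [fac]) (by norm_num [fac])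
  have h8 : Bd n true 8 (11630793 / 100000000) (149440531 / 10000000) := Bd.step h7 (by norm_num [fac]) (by norm_num [fac])
  have h9 : Bd n true 9 (5871751 / 100000000) (75303237 / 5000000) := Bd.step h8 (by norm_num [fac]) (by norm_num [fac])
  have h10 : Bd n true 10 (1475077 / 50000000) (151194369 / 10000000) := Bd.step h9 (by norm_num [fac]) (by norm_num [fac])
  have h11 : Bd n true 11 (1478671 / 100000000) (1514895649 / 100000000) := Bd.step h10 (by norm_num [fac]) (by norm_num [fac])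
  have h12 : Bd n true 12 (740237 / 100000000) (379093693 / 25000000) := Bd.step h11 (by norm_num [fac]) (by norm_num [fac])
  have h13 : Bd n true 13 (74069 / 20000000) (1517115123 / 100000000) := Bd.step h12 (by norm_num [fac]) (by norm_num [fac])
  have h14 : Bd n true 14 (185229 / 100000000) (1517485497 / 100000000) := Bd.step h13 (by norm_num [fac]) (by norm_num [fac])
  exact (add_le_add h14.1 h14.2).trans (by norm_num)

theorem wsum_nonneg (n : ℕ) (s0 : Bool) (K : ℕ) (b : Bool) : 0 ≤ wsum n s0 K b := Finset.sum_nonneg fun c _ => by positivity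

theorem tot_small (n : ℕ) : ∀ K, K ≤ 14 → wsum n true K true + wsum n true K false ≤ 76 / 5 := by
  intro K hK
  have h0 : Bd n true 0 1 0 := ⟨by simp [wsum, Codes, codeWt], by simp [wsum, Codes]⟩
  have h1 : Bd n true 1 (2 / 1) (266666667 / 100000000) := Bd.step h0 (by norm_num [fac]) (by norm_num [fac])
  have h2 : Bd n true 2 (6984127 / 2500000) (60952381 / 10000000) := Bd.step h1 (by norm_num [fac]) (by norm_num [fac])
  have h3 : Bd n true 3 (44192817 / 20000000) (119012671 / 12500000) := Bd.step h2 (by norm_num [fac]) (by norm_num [fac])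
  have h4 : Bd n true 4 (71396681 / 50000000) (1194464929 / 100000000) := Bd.step h3 (by norm_num [fac]) (by norm_num [fac])
  have h5 : Bd n true 5 (10228539 / 12500000) (167940597 / 12500000) := Bd.step h4 (by norm_num [fac]) (by norm_num [fac])
  have h6 : Bd n true 6 (43971913 / 100000000) (713527071 / 50000000) := Bd.step h5 (by norm_num [fac]) (by norm_num [fac])
  have h7 : Bd n true 7 (5705579 / 25000000) (18393371 / 1250000) := Bd.step h6 (by norm_num [fac]) (by norm_num [fac])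
  have h8 : Bd n true 8 (11630793 / 100000000) (149440531 / 10000000) := Bd.step h7 (by norm_num [fac]) (by norm_num [fac])
  have h9 : Bd n true 9 (5871751 / 100000000) (75303237 / 5000000) := Bd.step h8 (by norm_num [fac]) (by norm_num [fac])
  have h10 : Bd n true 10 (1475077 / 50000000) (151194369 / 10000000) := Bd.step h9 (by norm_num [fac]) (by norm_num [fac])
  have h11 : Bd n true 11 (1478671 / 100000000) (1514895649 / 100000000) := Bd.step h10 (by norm_num [fac]) (by norm_num [fac])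
  have h12 : Bd n true 12 (740237 / 100000000) (379093693 / 25000000) := Bd.step h11 (by norm_num [fac]) (by norm_num [fac])
  have h13 : Bd n true 13 (74069 / 20000000) (1517115123 / 100000000) := Bd.step h12 (by norm_num [fac]) (by norm_num [fac])
  have h14 : Bd n true 14 (185229 / 100000000) (1517485497 / 100000000) := Bd.step h13 (by norm_num [fac]) (by norm_num [fac])
  interval_cases K
  · exact (add_le_add h0.1 h0.2).trans (by norm_num)
  · exact (add_le_add h1.1 h1.2).trans (by norm_num)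
  · exact (add_le_add h2.1 h2.2).trans (by norm_num)
  · exact (add_le_add h3.1 h3.2).trans (by norm_num)
  · exact (add_le_add h4.1 h4.2).trans (by norm_num)
  · exact (add_le_add h5.1 h5.2).trans (by norm_num)
  · exact (add_le_add h6.1 h6.2).trans (by norm_num)
  · exact (add_le_add h7.1 h7.2).trans (by norm_num)
  · exact (add_le_add h8.1 h8.2).trans (by norm_num)
  · exact (add_le_add h9.1 h9.2).trans (by norm_num)
  · exact (add_le_add h10.1 h10.2).trans (by norm_num)
  · exact (add_le_add h11.1 h11.2).trans (by norm_num)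
  · exact (add_le_add h12.1 h12.2).trans (by norm_num)
  · exact (add_le_add h13.1 h13.2).trans (by norm_num)
  · exact (add_le_add h14.1 h14.2).trans (by norm_num)

theorem tot_step (n : ℕ) (s0 : Bool) (K : ℕ) (hK : 14 ≤ K) :
    (wsum n s0 (K + 1) true + wsum n s0 (K + 1) false) * (1 + 5 * (1 / 2 : ℚ) ^ (K + 1)) ≤
      (wsum n s0 K true + wsum n s0 K false) * (1 + 5 * (1 / 2 : ℚ) ^ K) := by
  set s := (1 / 2 : ℚ) ^ (K + 1) with hs
  have hs0 : 0 ≤ s := by positivity
  have hs1 : s ≤ 1 / 32768 := (pow_le_pow_of_le_one (by norm_num) (by norm_num) (show 15 ≤ K + 1 by omega)).trans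
    (by norm_num)
  have hsK : (1 / 2 : ℚ) ^ K = 2 * s := by rw [hs, pow_succ]; ring
  have e2 : (1 / 2 : ℚ) ^ (2 * (K + 1)) = s * s := by rw [hs, ← pow_add, two_mul]
  have e1 : (1 / 2 : ℚ) ^ (2 * (K + 1) - 1) = 2 * (s * s) := by
    rw [← e2, show 2 * (K + 1) = 2 * (K + 1) - 1 + 1 by omega, pow_succ, Nat.add_sub_cancel]
    ring
  have hss : s * s ≤ s * (1 / 32768) := mul_le_mul_of_nonneg_left hs1 hs0
  have hy : 2 * (s * s) / (1 - 2 * (s * s)) ≤ 3 * (s * s) := by
    rw [div_le_iff₀ (by nlinarith)]; nlinarith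
  have hy0 : 0 ≤ 2 * (s * s) / (1 - 2 * (s * s)) := div_nonneg (by positivity) (by nlinarith)
  have hh : 1 / (1 - s * s) ≤ 1 + 2 * (s * s) := by
    rw [div_le_iff₀ (by nlinarith)]; nlinarith
  have hh0 : 0 ≤ 1 / (1 - s * s) := div_nonneg zero_le_one (by nlinarith)
  have hr : ∀ bp, fac (K + 1) bp true + fac (K + 1) bp false ≤ 1 + 3 * s := by
    intro bp
    rw [fac, fac, e1, e2, ← hs, ← mul_add]
    have hb : (if bp then (1 : ℚ) else 2) ≤ 2 ∧ 0 ≤ (if bp then (1 : ℚ) else 2) := by split_ifs <;> norm_num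
    simp only [if_true, Bool.false_eq_true, if_false]
    set r := (if bp then (1 : ℚ) else 2)
    set y := 2 * (s * s) / (1 - 2 * (s * s))
    have h1 : r * (s + s * s) + y * r * (s + s * s) + (1 + y * r * 1) ≤ 1 + 2 * s + 10 * (s * s) := by
      have : y * r ≤ 6 * (s * s) := by nlinarith
      have : 0 ≤ y * r := mul_nonneg hy0 hb.2
      nlinarith
    calc _ ≤ (1 + 2 * (s * s)) * (1 + 2 * s + 10 * (s * s)) := by
          refine mul_le_mul hh h1 ?_ (by positivity)
          have := hb.2; positivity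
      _ ≤ _ := by nlinarith
  have ht := wsum_nonneg n s0 K true
  have hf := wsum_nonneg n s0 K false
  calc _ ≤ ((1 + 3 * s) * (wsum n s0 K true + wsum n s0 K false)) * (1 + 5 * s) := by
        refine mul_le_mul_of_nonneg_right ?_ (by positivity)
        refine (add_le_add (wsum_succ_le n s0 K true) (wsum_succ_le n s0 K false)).trans ?_
        nlinarith [hr true, hr false]
    _ ≤ _ := by
        rw [hsK]
        have : (1 + 3 * s) * (1 + 5 * s) ≤ 1 + 5 * (2 * s) := by nlinarith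
        nlinarith

/-- The bound for all codes. -/
theorem wsum_le (n K : ℕ) : wsum n true K true + wsum n true K false ≤ 76 / 5 := by
  rcases le_or_gt K 14 with hK | hK
  · exact tot_small n K hK
  have key : ∀ j, (wsum n true (14 + j) true + wsum n true (14 + j) false) * (1 + 5 * (1 / 2 : ℚ) ^ (14 + j)) ≤ 76 / 5 := by
    intro j
    induction j with
    | zero =>
      calc _ ≤ (1517671 / 100000 : ℚ) * (1 + 5 * (1 / 2 : ℚ) ^ (14 + 0)) :=
            mul_le_mul_of_nonneg_right (bd_fourteen n) (by positivity)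
        _ ≤ _ := by norm_num
    | succ j ih => exact (tot_step n true (14 + j) (by omega)).trans ih
  obtain ⟨j, rfl⟩ := Nat.exists_eq_add_of_le hK.le
  refine le_trans ?_ (key j)
  exact le_mul_of_one_le_right (add_nonneg (wsum_nonneg _ _ _ _) (wsum_nonneg _ _ _ _))
    (le_add_of_nonneg_right (by positivity))

end Cfsg.Agent.Lib.ClassesSpTwo46
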