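import Cfsg.Agent.Lib.ClassesSpTwo46.Piece
import Mathlib.LinearAlgebra.Dimension.Constructions
import Mathlib.LinearAlgebra.FiniteDimensional.Basic

/-!
The span of the generators of a piece, orthogonal splitting, and equality of Gram data.

Owner: helper46.
-/

set_option autoImplicit false
set_option linter.unusedSectionVars false

namespace Cfsg.Agent.Lib.ClassesSpTwo46

open Module

universe u v

variable {F : Type u} [Field F] {V : Type v} [AddCommGroup V] [Module F V] [CharP F 2]

/-- The index of the generators of a piece. -/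
abbrev Atom.Gen (a : Atom) : Type := {b : Bool // a.pair = true ∨ b = true}

/-- The dual generator. -/
def Atom.dual (a : Atom) (g : a.Gen) : a.Gen :=
  if h : a.pair = true then ⟨!g.1, Or.inl h⟩ else g

/-- The dimension of a piece. -/
def Atom.dim (a : Atom) : ℕ := if a.pair then a.e + a.e else a.e

namespace UData

variable (D : UData F V)

/-- Invariance under `N` and `U`. -/
structure Inv (W : Submodule F V) : Prop where
  N_mem : ∀ x ∈ W, D.N x ∈ W
  U_mem : ∀ x ∈ W, D.U x ∈ W

/-- Nondegeneracy on a subspace. -/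
def NonDeg (W : Submodule F V) : Prop := ∀ x ∈ W, (∀ y ∈ W, D.B x y = 0) → x = 0

/-- The orthogonal complement. -/
def orth (W : Submodule F V) : Submodule F V where
  carrier := {x | ∀ y ∈ W, D.B y x = 0}
  add_mem' {a b} ha hb y hy := by rw [map_add, ha y hy, hb y hy, add_zero]
  zero_mem' y _ := map_zero _
  smul_mem' c a ha y hy := by rw [map_smul, ha y hy, smul_zero]

theorem mem_orth {W : Submodule F V} {x : V} : x ∈ D.orth W ↔ ∀ y ∈ W, D.B y x = 0 := Iff.rfl

theorem Inv.Z_mem {W : Submodule F V} (h : D.Inv W) (p m : ℕ) {x : V} (hx : x ∈ W) : D.Z p m x ∈ W := by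
  rw [Z_apply]
  induction p with
  | zero =>
    induction m with
    | zero => exact hx
    | succ m ih => rw [pow_succ' D.N, Module.End.mul_apply]; exact h.N_mem _ ih
  | succ p ih => rw [pow_succ', Module.End.mul_apply]; exact h.U_mem _ ih

theorem Inv.Npow_mem {W : Submodule F V} (h : D.Inv W) (m : ℕ) {x : V} (hx : x ∈ W) : (D.N ^ m) x ∈ W := by
  rw [← D.Z_zero]; exact h.Z_mem D 0 m hx

theorem Inv.inf {W W' : Submodule F V} (h : D.Inv W) (h' : D.Inv W') : D.Inv (W ⊓ W') :=
  ⟨fun x hx => ⟨h.N_mem x hx.1, h'.N_mem x hx.2⟩, fun x hx => ⟨h.U_mem x hx.1, h'.U_mem x hx.2⟩⟩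

theorem Inv.orth {W : Submodule F V} (h : D.Inv W) : D.Inv (D.orth W) := by
  refine ⟨fun x hx y hy => ?_, fun x hx y hy => ?_⟩
  · rw [B_N]; exact hx _ (h.U_mem _ (h.N_mem _ hy))
  · rw [← B_T, T_apply]; exact hx _ (add_mem (h.N_mem _ hy) hy)

/-- The generator of an index. -/
def gen {a : Atom} (v w : V) (g : a.Gen) : V := if g.1 then v else w

/-- The generating family of a piece. -/
def fam (a : Atom) (v w : V) (p : a.Gen × Fin a.e) : V := (D.N ^ (p.2 : ℕ)) (gen v w p.1)

/-- The span of a piece. -/
noncomputable def piece (a : Atom) (v w : V) : Submodule F V :=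
  LinearMap.range (Fintype.linearCombination F (D.fam a v w))

variable {D} {ω : F} {a : Atom} {v w : V}

theorem IsAtom.gen_kill (h : D.IsAtom ω a v w) (g : a.Gen) : (D.N ^ a.e) (gen v w g) = 0 := by
  unfold gen; split_ifs <;> [exact h.kv; exact h.kw]

theorem IsAtom.gen_mem_self (h : D.IsAtom ω a v w) (g : a.Gen) (i : ℕ) :
    (D.N ^ i) (gen v w g) ∈ D.piece a v w := by
  classical
  by_cases hi : i < a.e
  · exact ⟨Pi.single (g, ⟨i, hi⟩) 1, by
      rw [Fintype.linearCombination_apply_single, one_smul]; rfl⟩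
  · rw [D.kill_le (h.gen_kill g) (by omega)]; exact zero_mem _

theorem IsAtom.v_mem (h : D.IsAtom ω a v w) : v ∈ D.piece a v w := h.gen_mem_self ⟨true, Or.inr rfl⟩ 0

theorem IsAtom.w_mem (h : D.IsAtom ω a v w) : w ∈ D.piece a v w := by
  by_cases hp : a.pair = true
  · exact h.gen_mem_self ⟨false, Or.inl hp⟩ 0
  · have := h.v_mem; rw [h.same (by simpa using hp)] at this ⊢; exact this

theorem piece_le {W : Submodule F V} (hW : D.Inv W) (hv : v ∈ W) (hw : w ∈ W) : D.piece a v w ≤ W := by
  rintro _ ⟨c, rfl⟩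
  rw [Fintype.linearCombination_apply]
  refine Submodule.sum_mem _ fun p _ => W.smul_mem _ (hW.Npow_mem D _ ?_)
  unfold gen; split_ifs <;> assumption

theorem IsAtom.inv_piece (h : D.IsAtom ω a v w) : D.Inv (D.piece a v w) := by
  have key : ∀ f : Module.End F V, (∀ g : a.Gen, ∀ i, f ((D.N ^ i) (gen v w g)) ∈ D.piece a v w) →
      ∀ x ∈ D.piece a v w, f x ∈ D.piece a v w := by
    rintro f hf _ ⟨c, rfl⟩
    rw [Fintype.linearCombination_apply, map_sum]
    exact Submodule.sum_mem _ fun p _ => by rw [map_smul]; exact Submodule.smul_mem _ _ (hf _ _)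
  refine ⟨key _ fun g i => ?_, key _ fun g i => ?_⟩
  · rw [← Module.End.mul_apply, ← pow_succ']; exact h.gen_mem_self g _
  · have : ∀ k i, a.e ≤ i + k → D.U ((D.N ^ i) (gen v w g)) ∈ D.piece a v w := by
      intro k
      induction k with
      | zero => intro i hi; rw [D.kill_le (h.gen_kill g) (by omega), map_zero]; exact zero_mem _
      | succ k ih =>
        intro i hi
        rw [U_succ, ← Module.End.mul_apply (f := D.N), ← pow_succ']
        exact add_mem (h.gen_mem_self g i) (ih (i + 1) (by omega))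
    exact this a.e i (by omega)

theorem IsAtom.top (h : D.IsAtom ω a v w) (g g' : a.Gen) :
    D.B ((D.N ^ (a.e - 1)) (gen v w g)) (gen v w g') = if g' = a.dual g then 1 else 0 := by
  have hp := h.pos
  rcases Bool.eq_false_or_eq_true a.pair with hpr | hpr
  rotate_left
  · have hb : ∀ g : a.Gen, g.1 = true := fun g => g.2.resolve_left (by simp [hpr])
    rw [if_pos (Subtype.ext (by rw [Atom.dual, dif_neg (by simp [hpr]), hb, hb]))]
    simp only [gen, hb, if_true]
    obtain ⟨j, hj⟩ := h.even hpr
    have := h.qc hpr (j - 1)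
    rw [if_pos (by omega), Q_top _ (by rw [show j - 1 + (j - 1) + 2 = a.e by omega]; exact h.kv)] at this
    rwa [show a.e - 1 = j - 1 + (j - 1) + 1 by omega]
  · have hvv : ∀ x, (D.N ^ a.e) x = 0 → (∀ l, l + l + 2 = a.e → D.Q l x = 0) →
        D.B ((D.N ^ (a.e - 1)) x) x = 0 := by
      intro x hx hQ
      rcases Nat.even_or_odd (a.e - 1) with he | ⟨l, hl⟩
      · exact D.self_top he (by rw [Nat.sub_add_cancel hp]; exact hx)
      · rw [show a.e - 1 = l + l + 1 by omega, ← Q_top, hQ l (by omega)]
        rwa [show l + l + 2 = a.e by omega]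
    have hdual : a.dual g = ⟨!g.1, Or.inl hpr⟩ := by rw [Atom.dual, dif_pos hpr]
    rw [hdual]
    rcases g with ⟨g, hg⟩
    rcases g' with ⟨g', hg'⟩
    cases g <;> cases g' <;> simp [gen]
    · exact hvv w h.kw fun l hl => by rw [h.qw hpr, if_neg]; omega
    · rw [D.top_symm (by rw [Nat.sub_add_cancel hp]; exact h.kv), h.cross hpr, if_pos (by omega)]
    · rw [h.cross hpr, if_pos (by omega)]
    · exact hvv v h.kv fun l hl => by rw [h.qv hpr, if_neg]; omega

theorem IsAtom.coef_zero (h : D.IsAtom ω a v w) (c : a.Gen × Fin a.e → F)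
    (hc : ∀ y ∈ D.piece a v w, D.B (Fintype.linearCombination F (D.fam a v w) c) y = 0) : c = 0 := by
  classical
  suffices H : ∀ n, ∀ p : a.Gen × Fin a.e, (p.2 : ℕ) < n → c p = 0 from
    funext fun p => H a.e p p.2.2
  intro n
  induction n with
  | zero => intro p hp; omega
  | succ n ih =>
    rintro ⟨g, i⟩ hi
    rcases Nat.lt_succ_iff_lt_or_eq.1 hi with hlt | heq
    · exact ih _ hlt
    have h0 := hc _ (h.gen_mem_self (a.dual g) (a.e - 1 - n))
    rw [Fintype.linearCombination_apply, map_sum, LinearMap.sum_apply] at h0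
    rw [Finset.sum_eq_single (g, i)] at h0
    · simp only [fam, map_smul, LinearMap.smul_apply] at h0
      simp only at heq
      rw [← D.Z_zero i.val, form_N, heq, show a.e - 1 - n + n = a.e - 1 by omega,
        D.Z_top (h.gen_kill g) _ (by omega), h.top, if_pos rfl, smul_eq_mul, mul_one] at h0
      exact h0
    · rintro ⟨g', j⟩ - hne
      simp only [fam, map_smul, LinearMap.smul_apply]
      rcases lt_trichotomy (j : ℕ) n with hj | hj | hj
      · rw [ih (g', j) hj, zero_smul]
      · rw [← D.Z_zero j.val, form_N, hj, show a.e - 1 - n + n = a.e - 1 by omega,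
          D.Z_top (h.gen_kill g') _ (by omega), h.top, if_neg, smul_zero]
        intro he
        simp only at heq
        refine hne (Prod.ext ?_ (Fin.ext (hj.trans heq.symm)))
        have hinv : Function.Involutive a.dual := fun g => by
          unfold Atom.dual
          split_ifs with hp <;> simp
        exact (hinv.injective he).symm
      · rw [← D.Z_zero j.val, form_N, D.Z_kill (h.gen_kill g') _ (by omega), map_zero, LinearMap.zero_apply,
          smul_zero]
    · intro hm; exact absurd (Finset.mem_univ _) hm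

theorem IsAtom.disjoint (h : D.IsAtom ω a v w) : Disjoint (D.piece a v w) (D.orth (D.piece a v w)) := by
  rw [Submodule.disjoint_def]
  rintro _ ⟨c, rfl⟩ hx
  rw [h.coef_zero c fun y hy => by rw [D.swap]; exact hx y hy, map_zero]

theorem IsAtom.finrank_piece (h : D.IsAtom ω a v w) : finrank F (D.piece a v w) = a.dim := by
  classical
  have hinj : Function.Injective (Fintype.linearCombination F (D.fam a v w)) := by
    rw [injective_iff_map_eq_zero]
    exact fun c hc => h.coef_zero c fun y _ => by rw [hc, map_zero, LinearMap.zero_apply]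
  rw [piece, LinearMap.finrank_range_of_inj hinj, Module.finrank_fintype_fun_eq_card, Fintype.card_prod,
    Fintype.card_fin, Atom.dim]
  rcases Bool.eq_false_or_eq_true a.pair with hp | hp
  rotate_left
  · have : Fintype.card a.Gen = 1 := by
      rw [Fintype.card_eq_one_iff]
      exact ⟨⟨true, Or.inr rfl⟩, fun g => Subtype.ext (g.2.resolve_left (by simp [hp]))⟩
    rw [this]; simp [hp]
  · have : Fintype.card a.Gen = 2 := by
      rw [← Fintype.card_bool]
      exact Fintype.card_congr ⟨fun g => g.1, fun b => ⟨b, Or.inl hp⟩, fun g => rfl, fun b => rfl⟩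
    rw [this]; simp [hp, two_mul]

theorem IsAtom.split [FiniteDimensional F V] (h : D.IsAtom ω a v w) {W : Submodule F V}
    (hnd : D.NonDeg W) (hle : D.piece a v w ≤ W) :
    D.piece a v w ⊔ (W ⊓ D.orth (D.piece a v w)) = W ∧ D.NonDeg (W ⊓ D.orth (D.piece a v w)) := by
  have hdec : ∀ x ∈ W, ∃ m ∈ D.piece a v w, x - m ∈ D.orth (D.piece a v w) := by
    intro x hx
    let φ : ↥(D.piece a v w) →ₗ[F] Module.Dual F ↥(D.piece a v w) := Symplectic.restr D.B (D.piece a v w)
    have hinj : Function.Injective φ := by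
      rw [injective_iff_map_eq_zero]
      intro m hm
      refine Subtype.ext (Submodule.disjoint_def.1 h.disjoint _ m.2 fun y hy => ?_)
      rw [D.swap]
      exact congrArg (fun f : Module.Dual F ↥(D.piece a v w) => f ⟨y, hy⟩) hm
    obtain ⟨m, hm⟩ := (LinearMap.injective_iff_surjective_of_finrank_eq_finrank
      Subspace.dual_finrank_eq.symm).1 hinj ((D.B x).comp (D.piece a v w).subtype)
    refine ⟨m, m.2, fun y hy => ?_⟩
    have e : D.B m y = D.B x y := congrArg (fun f : Module.Dual F ↥(D.piece a v w) => f ⟨y, hy⟩) hm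
    rw [map_sub, D.swap y x, D.swap y m, e, sub_self]
  refine ⟨le_antisymm (sup_le hle inf_le_left) fun x hx => ?_, fun x hx hxz => hnd x hx.1 fun y hy => ?_⟩
  · obtain ⟨m, hm, hr⟩ := hdec x hx
    exact Submodule.mem_sup.2 ⟨m, hm, x - m, ⟨sub_mem hx (hle hm), hr⟩, by abel⟩
  · obtain ⟨m, hm, hr⟩ := hdec y hy
    rw [← sub_add_cancel y m, map_add, hxz _ ⟨sub_mem hy (hle hm), hr⟩, zero_add, D.swap]
    exact hx.2 m hm

end UData

/-- Two functions with the same recursion, equal high up and at one point of each row, agree. -/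
theorem table_ext {f f' : ℕ → ℕ → F} {e : ℕ}
    (hf : ∀ p m, f (p + 1) m = f p m + f (p + 1) (m + 1))
    (hf' : ∀ p m, f' (p + 1) m = f' p m + f' (p + 1) (m + 1))
    (hhigh : ∀ p m, e ≤ m → f p m = f' p m) (hbase : ∀ m, ∃ p, f p m = f' p m) :
    ∀ p m, f p m = f' p m := by
  suffices H : ∀ k m, e ≤ m + k → ∀ p, f p m = f' p m from fun p m => H e m (by omega) p
  intro k
  induction k with
  | zero => exact fun m hm p => hhigh p m hm
  | succ k ih =>
    intro m hm
    have hc : ∀ p, f p m - f' p m = f 0 m - f' 0 m := by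
      intro p
      induction p with
      | zero => rfl
      | succ p ihp => rw [hf, hf', ih (m + 1) (by omega), add_sub_add_right_eq_sub, ihp]
    obtain ⟨p₀, hp₀⟩ := hbase m
    intro p
    exact sub_eq_zero.1 ((hc p).trans ((hc p₀).symm.trans (sub_eq_zero.2 hp₀)))

end Cfsg.Agent.Lib.ClassesSpTwo46
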